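import Cfsg.Agent.Lib.AlmostCyc.Structure
import Mathlib

/-!
# Nonsolvable groups with almost cyclic Sylow subgroups

The structure theorem in the form of a direct product inside a subgroup of index at most two.
-/

set_option autoImplicit false
set_option linter.style.haveILetI false

namespace Cfsg.Lib.AlmostCyc

open Subgroup

universe u

theorem twoHalf_of_sylow {G : Type u} [Group G] [Finite G]
    (h : ∀ S : Sylow 2 G, ∃ C : Subgroup ↥(S : Subgroup G), IsCyclic C ∧ C.index ∣ 2) : TwoHalf G :=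
  fun P hP => by
    obtain ⟨S, hS⟩ := hP.exists_le_sylow
    exact HalfCyclic.of_injective (inclusion hS) (inclusion_injective hS) (h S)

theorem oddCyc_of_sylow {G : Type u} [Group G] [Finite G]
    (h : ∀ p : ℕ, p.Prime → p ≠ 2 → ∀ P : Sylow p G, IsCyclic P) : OddCyc G :=
  fun p hp hp2 P hP => by
    obtain ⟨S, hS⟩ := hP.exists_le_sylow
    haveI : IsCyclic ↥(S : Subgroup G) := h p hp hp2 S
    exact isCyclic_of_injective (inclusion hS) (inclusion_injective hS)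

theorem main {G : Type u} [Group G] [Finite G] (hns : ¬ Group.IsSolvable G) (hodd : OddCyc G)
    (h2 : TwoHalf G) (hSD : NoSDUpTo.{u} (Nat.card G)) :
    ∃ G₀ : Subgroup G, G₀.Normal ∧ G₀.index ∣ 2 ∧
      ∃ X L : Subgroup ↥G₀, X.Normal ∧ L.Normal ∧ X ⊓ L = ⊥ ∧ X ⊔ L = ⊤ ∧ (Nat.card X).Coprime (Nat.card L) ∧
        Odd (Nat.card X) ∧ (∃ (C : Subgroup ↥X) (_ : C.Normal), IsCyclic C ∧ IsCyclic (↥X ⧸ C)) ∧
        ∃ (p : ℕ) (_ : Fact p.Prime), 5 ≤ p ∧
          (Nonempty (↥L ≃* Matrix.ProjectiveSpecialLinearGroup (Fin 2) (ZMod p)) ∨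
           Nonempty (↥L ≃* Matrix.SpecialLinearGroup (Fin 2) (ZMod p))) := by
  obtain ⟨G₀, L, p, hp, hG₀, hidx, hp5, hLn, hOle, hLle, hsup, hinf, -, hcop, hL⟩ :=
    structure_thm hns h2 hodd hSD
  haveI := hLn
  refine ⟨G₀, hG₀, hidx, (oddCore G).subgroupOf G₀, L.subgroupOf G₀, inferInstance, inferInstance,
    ?_, ?_, ?_, ?_, ?_, p, hp, hp5, ?_⟩
  · rw [eq_bot_iff]
    intro x hx
    exact mem_bot.2 (Subtype.ext (mem_bot.1 (hinf ▸ (⟨hx.1, hx.2⟩ : (x : G) ∈ oddCore G ⊓ L))))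
  · rw [← subgroupOf_sup hOle hLle, hsup, subgroupOf_self]
  · rw [Nat.card_congr (subgroupOfEquivOfLe hOle).toEquiv, Nat.card_congr (subgroupOfEquivOfLe hLle).toEquiv]
    exact hcop
  · rw [Nat.card_congr (subgroupOfEquivOfLe hOle).toEquiv]
    exact Cfsg.Lib.ZStar.odd_card_oddCore
  · haveI := isZGroup_oddCore hodd
    haveI : IsZGroup ((oddCore G).subgroupOf G₀) :=
      IsZGroup.of_injective (f := (subgroupOfEquivOfLe hOle).toMonoidHom) (subgroupOfEquivOfLe hOle).injective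
    exact ⟨commutator _, inferInstance, IsZGroup.isCyclic_commutator _,
      (IsZGroup.isCyclic_abelianization : IsCyclic (Abelianization ↥((oddCore G).subgroupOf G₀)))⟩
  · exact hL.imp (fun ⟨e⟩ => ⟨(subgroupOfEquivOfLe hLle).trans e⟩)
      (fun ⟨e⟩ => ⟨(subgroupOfEquivOfLe hLle).trans e⟩)

end Cfsg.Lib.AlmostCyc
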