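import Mathlib

/-!
# Semidihedral exclusion: the arithmetic

`g` is the order of the group, `K = 2 k p (p² - 1)` that of the centralizer of an involution and
`k'` the order of the centralizer of the four group in the core. Brauer's equations and cyclic odd
Sylow subgroups leave only `p = 5`, `g = 85680 k` and `p = 3`, `g = 7920 k`.
-/

set_option autoImplicit false

namespace Cfsg.Lib.AlmostCyc.SDArith

/-- Valuation of a product. -/
theorem val_mul {r : ℕ} [Fact r.Prime] {a b : ℤ} (ha : a ≠ 0) (hb : b ≠ 0) :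
    padicValInt r (a * b) = padicValInt r a + padicValInt r b := padicValInt.mul ha hb

/-- Valuation of a power. -/
theorem val_pow {r : ℕ} [Fact r.Prime] {a : ℤ} (n : ℕ) (ha : a ≠ 0) :
    padicValInt r (a ^ n) = n * padicValInt r a := by
  rw [padicValInt, padicValInt, Int.natAbs_pow, padicValNat.pow _ n]

theorem val_eq_zero {r : ℕ} {a : ℤ} (h : ¬ (r : ℤ) ∣ a) : padicValInt r a = 0 :=
  padicValInt.eq_zero_of_not_dvd h

theorem one_le_val {r : ℕ} [Fact r.Prime] {a : ℤ} (ha : a ≠ 0) (h : (r : ℤ) ∣ a) :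
    1 ≤ padicValInt r a := by
  have := (padicValInt_dvd_iff 1 a).1 (by simpa using h)
  exact this.resolve_left ha

theorem pow_dvd_iff_le_val {r : ℕ} [Fact r.Prime] {a : ℤ} (n : ℕ) (ha : a ≠ 0) :
    (r : ℤ) ^ n ∣ a ↔ n ≤ padicValInt r a := by
  rw [padicValInt_dvd_iff, or_iff_right ha]

/-- Valuations of divisors. -/
theorem val_le_of_dvd {r a b : ℕ} [Fact r.Prime] (hb : b ≠ 0) (h : a ∣ b) :
    padicValNat r a ≤ padicValNat r b :=
  (padicValNat_dvd_iff_le hb).1 (pow_padicValNat_dvd.trans h)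

theorem dvd_of_val_le {a b : ℕ} (ha : a ≠ 0) (hb : b ≠ 0)
    (h : ∀ r : ℕ, r.Prime → r ∣ a → padicValNat r a ≤ padicValNat r b) : a ∣ b := by
  refine (Nat.factorization_le_iff_dvd ha hb).1 fun r => ?_
  by_cases hr : r.Prime
  · rw [Nat.factorization_def a hr, Nat.factorization_def b hr]
    by_cases hd : r ∣ a
    · exact h r hr hd
    · rw [padicValNat.eq_zero_of_not_dvd hd]; exact Nat.zero_le _
  · rw [Nat.factorization_eq_zero_of_not_prime a hr]; exact Nat.zero_le _

/-- The last step: `k' = k`. -/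
theorem kill_core {g k k' N : ℕ} (hk : 0 < k) (hk' : k' ∣ k) (hN : 0 < N) (h : g * k' ^ 2 = N * k ^ 3)
    (hb : ∀ r : ℕ, r.Prime → r ∣ k → padicValNat r g ≤ padicValNat r k + padicValNat r N) :
    k' = k ∧ g = N * k := by
  have hk'0 : 0 < k' := Nat.pos_of_dvd_of_pos hk' hk
  have hg : 0 < g := by
    rcases Nat.eq_zero_or_pos g with rfl | hg
    · rw [zero_mul] at h
      exact absurd h.symm (by positivity)
    · exact hg
  have hdvd : k ∣ k' := dvd_of_val_le hk.ne' hk'0.ne' fun r hr hd => by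
    haveI : Fact r.Prime := ⟨hr⟩
    have e := congrArg (padicValNat r) h
    rw [padicValNat.mul hg.ne' (by positivity), padicValNat.pow k' 2,
      padicValNat.mul hN.ne' (by positivity), padicValNat.pow k 3] at e
    have := hb r hr hd
    omega
  have he : k' = k := Nat.dvd_antisymm hk' hdvd
  subst he
  exact ⟨rfl, Nat.eq_of_mul_eq_mul_right (show 0 < k' ^ 2 by positivity) (h.trans (by ring))⟩

variable {p g k k' : ℕ} {ε X Y : ℤ}

/-- The case `p ≥ 5`. -/
theorem five_case [hp : Fact p.Prime] (hp5 : 5 ≤ p) (hε : ε = 1 ∨ ε = -1) (hεp : (4 : ℤ) ∣ (p : ℤ) - ε)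
    (hk : 0 < k) (hk' : k' ∣ k) (hcop : k.Coprime (p * (p ^ 2 - 1))) (hg0 : 0 < g)
    (hX0 : X ≠ 0) (hX1 : X + 1 ≠ 0) (hY : Y * (X + (p : ℤ) ^ 2) = -(X * (X + 1)))
    (h4 : 4 ∣ X - ε * (p : ℤ))
    (hg : (g : ℤ) * (k' : ℤ) ^ 2 * ((p : ℤ) + ε) * (X - ε * p) ^ 2 =
      2 * (k : ℤ) ^ 3 * (p : ℤ) ^ 2 * ((p : ℤ) ^ 2 - 1) ^ 3 * (X * (X + 1)))
    (hodd : ∀ r : ℕ, r.Prime → r ≠ 2 → r ∣ 2 * k * (p * (p ^ 2 - 1)) →
      padicValNat r g ≤ padicValNat r (2 * k * (p * (p ^ 2 - 1))) + if r = 3 then 1 else 0)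
    (h2 : padicValNat 2 g = padicValNat 2 (2 * k * (p * (p ^ 2 - 1)))) :
    p = 5 ∧ g = 85680 * k ∧ k' = k := by
  have hP : p.Prime := hp.out
  have hpi : Prime (p : ℤ) := Nat.prime_iff_prime_int.1 hP
  have hp1 : 1 ≤ p ^ 2 := Nat.one_le_pow _ _ (by omega)
  have hM : ((p ^ 2 - 1 : ℕ) : ℤ) = (p : ℤ) ^ 2 - 1 := by push_cast [Nat.cast_sub hp1]; ring
  have hM0n : p ^ 2 - 1 ≠ 0 := by
    have : 25 ≤ p ^ 2 := by nlinarith
    omega
  have hM0 : (p : ℤ) ^ 2 - 1 ≠ 0 := by rw [← hM]; exact_mod_cast hM0n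
  have hk'0 : 0 < k' := Nat.pos_of_dvd_of_pos hk' hk
  have hXne : X - ε * p ≠ 0 := by
    intro h
    rw [h] at hg
    simp at hg
    rcases hg with ((h | h) | h) | h
    · omega
    · omega
    · exact hM0 h
    · rcases h with h | h <;> contradiction
  -- valuations of `K`
  have hK : ∀ r : ℕ, r.Prime → padicValNat r (2 * k * (p * (p ^ 2 - 1))) =
      padicValNat r 2 + padicValNat r k + (padicValNat r p + padicValNat r (p ^ 2 - 1)) := fun r hr => by
    haveI : Fact r.Prime := ⟨hr⟩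
    rw [padicValNat.mul (by positivity) (by positivity), padicValNat.mul two_ne_zero hk.ne',
      padicValNat.mul hP.ne_zero hM0n]
  have hcp : ¬ p ∣ k := fun h => by
    have h1 : p ∣ k.gcd (p * (p ^ 2 - 1)) := Nat.dvd_gcd h (dvd_mul_right p _)
    rw [hcop] at h1
    exact hP.not_dvd_one h1
  have hcM : ∀ r : ℕ, r.Prime → r ∣ p ^ 2 - 1 → ¬ r ∣ k ∧ r ≠ p := fun r hr hd => by
    refine ⟨fun h => ?_, fun h => ?_⟩
    · have h1 : r ∣ k.gcd (p * (p ^ 2 - 1)) := Nat.dvd_gcd h (hd.trans (dvd_mul_left _ p))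
      rw [hcop] at h1
      exact hr.not_dvd_one h1
    · subst h
      have h1 := Nat.dvd_sub (dvd_pow_self r (two_ne_zero)) hd
      rw [show r ^ 2 - (r ^ 2 - 1) = 1 by omega] at h1
      exact hr.not_dvd_one h1
  have hpodd : p % 2 = 1 := hP.eq_two_or_odd.resolve_left (by omega)
  have hp2z : ¬ (p : ℤ) ∣ 2 := fun h => by
    have := Nat.le_of_dvd two_pos (Int.natCast_dvd_natCast.1 (by exact_mod_cast h : ((p : ℕ) : ℤ) ∣ ((2 : ℕ) : ℤ)))
    omega
  have hpM : ¬ (p : ℤ) ∣ (p : ℤ) ^ 2 - 1 := fun h => by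
    have h1 := dvd_sub (dvd_pow_self (p : ℤ) two_ne_zero) h
    rw [show (p : ℤ) ^ 2 - ((p : ℤ) ^ 2 - 1) = 1 by ring] at h1
    exact hpi.not_dvd_one h1
  have hpε : ¬ (p : ℤ) ∣ (p : ℤ) + ε := fun h => by
    have h1 := dvd_sub h (dvd_refl (p : ℤ))
    rcases hε with rfl | rfl
    · exact hpi.not_dvd_one (by simpa using h1)
    · exact hpi.not_dvd_one (by simpa using h1)
  have hpε0 : (p : ℤ) + ε ≠ 0 := by rcases hε with rfl | rfl <;> omega
  have hgz : (g : ℤ) ≠ 0 := by exact_mod_cast hg0.ne'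
  have hk'z : (k' : ℤ) ≠ 0 := by exact_mod_cast hk'0.ne'
  have hkz : (k : ℤ) ≠ 0 := by exact_mod_cast hk.ne'
  have hpz : (p : ℤ) ≠ 0 := by exact_mod_cast hP.ne_zero
  have hgp : padicValNat p g ≤ 1 := by
    have := hodd p hP (by omega) ((dvd_mul_right p _).mul_left (2 * k))
    rw [hK p hP, padicValNat.eq_zero_of_not_dvd hcp, padicValNat.self hP.one_lt,
      padicValNat.eq_zero_of_not_dvd (fun h => (hcM p hP h).2 rfl),
      padicValNat.eq_zero_of_not_dvd (show ¬ p ∣ 2 from fun h => hp2z (by exact_mod_cast h)), if_neg (by omega)] at this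
    omega
  -- `p` divides `X` exactly once
  have hk'p : padicValInt p (k' : ℤ) = 0 := val_eq_zero fun h =>
    hcp ((Int.natCast_dvd_natCast.1 h).trans hk')
  have hpX : (p : ℤ) ∣ X := by
    by_contra hX
    have e := congrArg (padicValInt p) hg
    rw [val_mul (by positivity) (by positivity), val_mul (by positivity) hpε0,
      val_mul hgz (by positivity), val_pow 2 hXne, val_pow 2 hk'z, hk'p, val_eq_zero hpε,
      val_eq_zero (a := X - ε * p) (fun h => hX (by simpa using dvd_add h (dvd_mul_left (p : ℤ) ε))),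
      padicValInt.of_nat, val_mul (by positivity) (mul_ne_zero hX0 hX1),
      val_mul (by positivity) (pow_ne_zero 3 hM0), val_mul (by positivity) (by positivity),
      val_pow 2 hpz, padicValInt.self hP.one_lt] at e
    omega
  obtain ⟨t, rfl⟩ := hpX
  have ht0 : t ≠ 0 := fun e => hX0 (by rw [e, mul_zero])
  have htε : t - ε ≠ 0 := fun e => hXne (by rw [sub_eq_zero.1 e]; ring)
  have hg' : (g : ℤ) * (k' : ℤ) ^ 2 * ((p : ℤ) + ε) * (t - ε) ^ 2 =
      2 * (k : ℤ) ^ 3 * (p : ℤ) * ((p : ℤ) ^ 2 - 1) ^ 3 * (t * ((p : ℤ) * t + 1)) :=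
    mul_left_cancel₀ (pow_ne_zero 2 hpz) (by linear_combination hg)
  have hval : ∀ r : ℕ, r.Prime → padicValNat r g + 2 * padicValNat r k' + padicValInt r ((p : ℤ) + ε) +
      2 * padicValInt r (t - ε) = padicValNat r 2 + 3 * padicValNat r k + padicValNat r p +
      3 * padicValNat r (p ^ 2 - 1) + (padicValInt r t + padicValInt r ((p : ℤ) * t + 1)) := fun r hr => by
    haveI : Fact r.Prime := ⟨hr⟩
    have e := congrArg (padicValInt r) hg'
    rw [val_mul (by positivity) (by positivity), val_mul (by positivity) hpε0,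
      val_mul hgz (by positivity), val_pow 2 htε, val_pow 2 hk'z,
      val_mul (by positivity) (mul_ne_zero ht0 hX1), val_mul ht0 hX1,
      val_mul (by positivity) (pow_ne_zero 3 hM0), val_mul (by positivity) hpz,
      val_mul two_ne_zero (by positivity), val_pow 3 hkz, val_pow 3 hM0, ← hM,
      padicValInt.of_nat, padicValInt.of_nat, padicValInt.of_nat, padicValInt.of_nat,
      padicValInt.of_nat, show (2 : ℤ) = ((2 : ℕ) : ℤ) from rfl, padicValInt.of_nat] at e
    exact e
  have hpt : ¬ (p : ℤ) ∣ t := by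
    intro h
    have e := hval p hP
    have h1 := one_le_val ht0 h
    have h2 : padicValInt p (t - ε) = 0 := val_eq_zero fun h' => by
      have h'' := dvd_sub h h'
      rw [show t - (t - ε) = ε by ring] at h''
      rcases hε with rfl | rfl
      · exact hpi.not_dvd_one h''
      · exact hpi.not_dvd_one ((dvd_neg).1 h'')
    rw [padicValNat.self hP.one_lt, padicValNat.eq_zero_of_not_dvd hcp, h2, val_eq_zero hpε,
      padicValNat.eq_zero_of_not_dvd fun h => hcp (h.trans hk')] at e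
    omega
  -- the divisor `t + p`
  have hY' : Y * (t + p) = -(t * ((p : ℤ) * t + 1)) :=
    mul_left_cancel₀ hpz (by linear_combination hY)
  have hd : t + p ∣ (p : ℤ) ^ 2 - 1 := by
    have hc : IsCoprime (t + p) t := by
      have := ((hpi.coprime_iff_not_dvd).2 hpt).add_mul_left_left 1
      rwa [mul_one, add_comm] at this
    have h1 : t + p ∣ (p : ℤ) * t + 1 := hc.dvd_of_dvd_mul_left ⟨-Y, by linear_combination hY'⟩
    have h2 := dvd_sub ((dvd_refl (t + (p : ℤ))).mul_left (p : ℤ)) h1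
    rwa [show (p : ℤ) * (t + p) - ((p : ℤ) * t + 1) = (p : ℤ) ^ 2 - 1 by ring] at h2
  -- `p² - 1` almost divides `t - ε`
  have hle : ∀ r : ℕ, r.Prime → r ∣ p ^ 2 - 1 → padicValNat r (p ^ 2 - 1) ≤
      padicValInt r (t - ε) + (if r = 3 ∧ (r : ℤ) ∣ (p : ℤ) + ε then 1 else 0) := by
    intro r hr hrM
    haveI : Fact r.Prime := ⟨hr⟩
    obtain ⟨hrk, hrp⟩ := hcM r hr hrM
    have ek : padicValNat r k = 0 := padicValNat.eq_zero_of_not_dvd hrk
    have ek' : padicValNat r k' = 0 := padicValNat.eq_zero_of_not_dvd fun h => hrk (h.trans hk')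
    have ep : padicValNat r p = 0 := padicValNat.eq_zero_of_not_dvd fun h =>
      hrp ((Nat.prime_dvd_prime_iff_eq hr hP).1 h)
    have e := hval r hr
    rw [ek, ek', ep] at e
    rcases eq_or_ne r 2 with rfl | hr2
    · rw [hK 2 Nat.prime_two, ek, ep, padicValNat.self one_lt_two] at h2
      rw [h2, padicValNat.self one_lt_two] at e
      have ht4 : (4 : ℤ) ∣ t - ε := by
        have hc : IsCoprime (4 : ℤ) (p : ℤ) := by
          have : Nat.Coprime 4 p := (Nat.Coprime.pow_left 2
            ((Nat.coprime_primes Nat.prime_two hP).2 (by omega)) : (2 ^ 2).Coprime p)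
          exact_mod_cast Nat.Coprime.isCoprime this
        exact hc.dvd_of_dvd_mul_left (by rwa [show (p : ℤ) * t - ε * p = p * (t - ε) by ring] at h4)
      have h1 : ∀ a : ℤ, a % 4 = 2 → padicValInt 2 a = 1 := fun a ha => by
        have ha0 : a ≠ 0 := by omega
        have l1 := one_le_val (r := 2) ha0 (by push_cast; omega)
        have l2 : ¬ 2 ≤ padicValInt 2 a := fun h => by
          have := (pow_dvd_iff_le_val 2 ha0).2 h
          push_cast at this
          omega
        omega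
      have e1 : padicValInt 2 ((p : ℤ) + ε) = 1 := h1 _ (by rcases hε with rfl | rfl <;> omega)
      have e2 : padicValInt 2 ((p : ℤ) * t + 1) = 1 := h1 _ (by
        obtain ⟨c, hc⟩ := ht4
        obtain ⟨d, hd⟩ := hεp
        rw [show (p : ℤ) * t + 1 = 4 * ((d * t) + ε * c) + 2 by
          rw [show (p : ℤ) = 4 * d + ε by omega, show t = 4 * c + ε by omega]
          rcases hε with rfl | rfl <;> ring]
        omega)
      have e3 : padicValInt 2 t = 0 := val_eq_zero (by
        push_cast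
        rcases hε with rfl | rfl <;> omega)
      rw [e1, e2, e3] at e
      omega
    · have hb := hodd r hr hr2 ((hrM.trans (dvd_mul_left _ p)).trans (dvd_mul_left _ _))
      rw [hK r hr, ek, ep, padicValNat.eq_zero_of_not_dvd (fun h => hr2 ((Nat.prime_dvd_prime_iff_eq hr
        Nat.prime_two).1 h))] at hb
      rw [padicValNat.eq_zero_of_not_dvd (fun h => hr2 ((Nat.prime_dvd_prime_iff_eq hr
        Nat.prime_two).1 h))] at e
      have ha1 : 1 ≤ padicValNat r (p ^ 2 - 1) := one_le_padicValNat_of_dvd hM0n hrM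
      by_contra hlt
      by_cases hrε : (r : ℤ) ∣ (p : ℤ) + ε
      · -- `r` divides `p + ε`
        have hne : ¬ (r : ℤ) ∣ (p : ℤ) - ε := fun h => by
          have h' := dvd_sub hrε h
          rw [show (p : ℤ) + ε - (p - ε) = 2 * ε by ring] at h'
          have h'' : r ∣ 2 := by
            rcases hε with rfl | rfl
            · exact_mod_cast (by simpa using h' : (r : ℤ) ∣ 2)
            · exact_mod_cast (by simpa using h' : (r : ℤ) ∣ 2)
          exact hr2 ((Nat.prime_dvd_prime_iff_eq hr Nat.prime_two).1 h'')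
        have hεε : (p : ℤ) ^ 2 - 1 = (p + ε) * (p - ε) := by rcases hε with rfl | rfl <;> ring
        have hm0 : (p : ℤ) - ε ≠ 0 := fun h => by rw [h, mul_zero] at hεε; exact hM0 hεε
        have ea : padicValInt r ((p : ℤ) + ε) = padicValNat r (p ^ 2 - 1) := by
          rw [← padicValInt.of_nat (p := r) (n := p ^ 2 - 1), hM, hεε, val_mul hpε0 hm0, val_eq_zero hne, add_zero]
        rw [ea] at e
        rcases Nat.eq_zero_or_pos (padicValInt r (t - ε)) with hb0 | hb0
        · rcases eq_or_ne r 3 with rfl | hr3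
          · rw [if_pos ⟨rfl, hrε⟩] at hlt
            rw [if_pos rfl] at hb
            omega
          · rw [if_neg (fun h => hr3 h.1)] at hlt
            rw [if_neg hr3] at hb
            omega
        · have hle' : padicValInt r (t - ε) ≤ padicValInt r ((p : ℤ) * t + 1) := by
            rw [← pow_dvd_iff_le_val _ hX1]
            rw [show (p : ℤ) * t + 1 = p * (t - ε) + ε * ((p : ℤ) + ε) by rcases hε with rfl | rfl <;> ring]
            refine dvd_add (dvd_mul_of_dvd_right ((pow_dvd_iff_le_val _ htε).2 le_rfl) _)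
              (dvd_mul_of_dvd_right ?_ _)
            rw [pow_dvd_iff_le_val _ hpε0, ea]
            omega
          rcases eq_or_ne r 3 with rfl | hr3
          · rw [if_pos ⟨rfl, hrε⟩] at hlt
            rw [if_pos rfl] at hb
            omega
          · rw [if_neg (fun h => hr3 h.1)] at hlt
            rw [if_neg hr3] at hb
            omega
      · rw [if_neg (fun h => hrε h.2)] at hlt
        rw [val_eq_zero hrε] at e
        have : (if r = 3 then 1 else 0 : ℕ) ≤ 1 := by split <;> omega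
        omega
  obtain ⟨m, hm⟩ : (p : ℤ) ^ 2 - 1 ∣ 3 * (t - ε) := by
    rw [← hM, ← Int.dvd_natAbs, Int.natCast_dvd_natCast]
    refine dvd_of_val_le hM0n (Int.natAbs_ne_zero.2 (mul_ne_zero three_ne_zero htε)) fun r hr hrM => ?_
    haveI : Fact r.Prime := ⟨hr⟩
    have h' := hle r hr hrM
    change _ ≤ padicValInt r (3 * (t - ε))
    rw [val_mul three_ne_zero htε]
    rcases eq_or_ne r 3 with rfl | hr3
    · have : 1 ≤ padicValInt 3 (3 : ℤ) := one_le_val three_ne_zero (dvd_refl _)
      split at h' <;> omega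
    · rw [if_neg (fun h => hr3 h.1)] at h'
      omega
  -- the possible values
  have hcases : ((p : ℤ) = 5 ∧ ε = 1 ∧ t = -7) ∨ ((p : ℤ) - ε = 12 ∧ m = -1) := by
    have hεε : (p : ℤ) ^ 2 - 1 = (p + ε) * (p - ε) := by rcases hε with rfl | rfl <;> ring
    set e := 3 + m * ((p : ℤ) - ε) with he
    have h3d : 3 * (t + p) = (p + ε) * e := by
      rw [he]; linear_combination hm + m * hεε
    obtain ⟨s, hs⟩ := hd
    have hdiv : e ∣ 3 * ((p : ℤ) - ε) := ⟨s, mul_left_cancel₀ hpε0 (by
      linear_combination 3 * hs - 3 * hεε + s * h3d)⟩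
    have h9 : e ∣ 9 := by
      have h' := dvd_sub ((dvd_refl e).mul_left 3) (hdiv.mul_left m)
      rwa [show 3 * e - m * (3 * ((p : ℤ) - ε)) = 9 by rw [he]; ring] at h'
    have hval9 : e = 1 ∨ e = -1 ∨ e = 3 ∨ e = -3 ∨ e = 9 ∨ e = -9 := by
      have h1 : e.natAbs ∈ Nat.divisors 9 := Nat.mem_divisors.2
        ⟨Int.natCast_dvd_natCast.1 (Int.natAbs_dvd.2 h9), by norm_num⟩
      rw [show Nat.divisors 9 = {1, 3, 9} by decide] at h1
      simp only [Finset.mem_insert, Finset.mem_singleton] at h1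
      omega
    have hm0 : m ≠ 0 := fun h => htε (by
      rw [h, mul_zero] at hm
      omega)
    have hu : ∃ u : ℤ, (p : ℤ) - ε = 4 * u := hεp
    obtain ⟨u, hu⟩ := hu
    have hu1 : 1 ≤ u := by rcases hε with rfl | rfl <;> omega
    have hprod : m * (4 * u) = e - 3 := by rw [← hu, he]; ring
    have hmu : m * u = -1 ∨ m * u = -3 := by
      have h4' : (4 : ℤ) ∣ e - 3 := ⟨m * u, by rw [← hprod]; ring⟩
      rcases hval9 with h | h | h | h | h | h <;> rw [h] at hprod
      · omega
      · exact Or.inl (by linarith)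
      · exact absurd (by linarith : m * u = 0) (mul_ne_zero hm0 (by omega))
      · omega
      · omega
      · exact Or.inr (by linarith)
    have hu' : (u = 1 ∧ (m = -1 ∨ m = -3)) ∨ (u = 3 ∧ m = -1) := by
      have h1 : u ∣ m * u := dvd_mul_left u m
      rcases hmu with h | h <;> rw [h] at h1
      · have := Int.le_of_dvd one_pos (dvd_neg.1 h1)
        obtain rfl : u = 1 := by omega
        exact Or.inl ⟨rfl, Or.inl (by omega)⟩
      · have := Int.le_of_dvd (by norm_num) (dvd_neg.1 h1)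
        rcases (by omega : u = 1 ∨ u = 2 ∨ u = 3) with rfl | rfl | rfl
        · exact Or.inl ⟨rfl, Or.inr (by omega)⟩
        · omega
        · exact Or.inr ⟨rfl, by omega⟩
    rcases hu' with ⟨rfl, hm'⟩ | ⟨rfl, rfl⟩
    · left
      have hp' : (p : ℤ) = 5 ∧ ε = 1 := by rcases hε with rfl | rfl <;> omega
      obtain ⟨hp', rfl⟩ := hp'
      refine ⟨hp', rfl, ?_⟩
      rw [hp'] at hm hs
      rcases hm' with rfl | rfl
      · omega
      · exfalso
        obtain rfl : t = -23 := by omega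
        omega
    · exact Or.inr ⟨by omega, rfl⟩
  rcases hcases with ⟨hp', rfl, rfl⟩ | ⟨hp', rfl⟩
  · obtain rfl : p = 5 := by exact_mod_cast hp'
    have hnum : g * k' ^ 2 = 85680 * k ^ 3 := by
      have : (g : ℤ) * (k' : ℤ) ^ 2 = 85680 * (k : ℤ) ^ 3 := by
        norm_num at hg'
        linarith
      exact_mod_cast this
    refine ⟨rfl, (kill_core hk hk' (by norm_num) hnum fun r hr hrk => ?_).symm⟩
    have hr2 : r ≠ 2 := by
      rintro rfl
      exact (hcM 2 Nat.prime_two (by norm_num)).1 hrk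
    have hr3 : r ≠ 3 := by
      rintro rfl
      exact (hcM 3 Nat.prime_three (by norm_num)).1 hrk
    have hr5 : r ≠ 5 := fun h => hcp (h ▸ hrk)
    haveI : Fact r.Prime := ⟨hr⟩
    have h := hodd r hr hr2 (dvd_mul_of_dvd_left (hrk.mul_left 2) _)
    rw [hK r hr, if_neg hr3, padicValNat.eq_zero_of_not_dvd (fun h => hr2 ((Nat.prime_dvd_prime_iff_eq hr
        Nat.prime_two).1 h)), padicValNat.eq_zero_of_not_dvd (fun h => hr5 ((Nat.prime_dvd_prime_iff_eq hr
        hP).1 h)), padicValNat.eq_zero_of_not_dvd (fun h => (hcM r hr h).1 hrk)] at h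
    omega
  · exfalso
    have h3 : 3 ∣ p ^ 2 - 1 := by
      have : (3 : ℤ) ∣ (p : ℤ) ^ 2 - 1 := ⟨4 * ((p : ℤ) + ε), by
        rcases hε with rfl | rfl
        · linear_combination ((p : ℤ) + 1) * hp'
        · linear_combination ((p : ℤ) - 1) * hp'⟩
      rw [← hM] at this
      exact_mod_cast this
    have hne : ¬ ((3 : ℕ) : ℤ) ∣ (p : ℤ) + ε := by
      push_cast
      rcases hε with rfl | rfl <;> omega
    have h := hle 3 Nat.prime_three h3
    rw [if_neg (fun h => hne h.2)] at h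
    haveI : Fact (Nat.Prime 3) := ⟨Nat.prime_three⟩
    have e := congrArg (padicValInt 3) hm
    rw [val_mul three_ne_zero htε, val_mul hM0 (by norm_num), ← hM, padicValInt.of_nat] at e
    have e1 : padicValInt 3 (3 : ℤ) = 1 := padicValInt.self (by norm_num)
    have e2 : padicValInt 3 (-1 : ℤ) = 0 := val_eq_zero (by norm_num)
    rw [e1, e2] at e
    omega

/-- The case `p = 3`. -/
theorem three_case (hk : 0 < k) (hkodd : Odd k) (hk' : k' ∣ k) (hg0 : 0 < g) (hX0 : X ≠ 0)
    (hX1 : X + 1 ≠ 0) (hY : Y * (X + 9) = -(X * (X + 1))) (h4 : 4 ∣ X + 3)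
    (hg : (g : ℤ) * (k' : ℤ) ^ 2 * (X + 3) ^ 2 = 4608 * (k : ℤ) ^ 3 * (X * (X + 1)))
    (hodd : ∀ r : ℕ, r.Prime → r ≠ 2 → r ∣ 48 * k →
      padicValNat r g ≤ padicValNat r (48 * k) + if r = 3 then 1 else 0)
    (h2 : padicValNat 2 g = 4) :
    g = 7920 * k ∧ k' = k := by
  have hd : X + 9 ∣ 72 := by
    have h1 : X + 9 ∣ X * (X + 1) := ⟨-Y, by linear_combination hY⟩
    have h2 := dvd_sub h1 ((dvd_refl (X + 9)).mul_left (X - 8))
    rwa [show X * (X + 1) - (X - 8) * (X + 9) = 72 by ring] at h2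
  have hb : -81 ≤ X ∧ X ≤ 63 := by
    have := Int.natAbs_dvd.2 hd
    have h' := Int.le_of_dvd (by norm_num) this
    omega
  have hX : X = -7 ∨ X = 9 ∨ X = -11 ∨ X = -15 ∨ X = -27 ∨ X = -3 := by
    obtain ⟨hlo, hhi⟩ := hb
    interval_cases X <;> omega
  have hk'0 : 0 < k' := Nat.pos_of_dvd_of_pos hk' hk
  haveI : Fact (Nat.Prime 2) := ⟨Nat.prime_two⟩
  haveI : Fact (Nat.Prime 3) := ⟨Nat.prime_three⟩
  have h2k : padicValNat 2 k = 0 := padicValNat.eq_zero_of_not_dvd (Nat.two_dvd_ne_zero.2 (Nat.odd_iff.1 hkodd))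
  have h2k' : padicValNat 2 k' = 0 := padicValNat.eq_zero_of_not_dvd fun h =>
    Nat.two_dvd_ne_zero.2 (Nat.odd_iff.1 hkodd) (h.trans hk')
  have key : ∀ (N a r : ℕ) (hr : Fact r.Prime), N ≠ 0 → g * k' ^ 2 = N * k ^ 3 → padicValNat r N = a →
      padicValNat r g + 2 * padicValNat r k' = a + 3 * padicValNat r k := fun N a r _ hN h ha => by
    have e := congrArg (padicValNat r) h
    rw [padicValNat.mul hg0.ne' (by positivity), padicValNat.pow k' 2,
      padicValNat.mul hN (by positivity), padicValNat.pow k 3, ha] at e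
    exact e
  have pv : ∀ {r N : ℕ} (a : ℕ) [Fact r.Prime], r ^ a ∣ N → ¬ r ^ (a + 1) ∣ N → N ≠ 0 →
      padicValNat r N = a := fun {r N} a _ h1 h2 hN => by
    have l1 := (padicValNat_dvd_iff_le hN).1 h1
    have l2 : ¬ a + 1 ≤ padicValNat r N := fun h => h2 ((padicValNat_dvd_iff_le hN).2 h)
    omega
  have toNat : ∀ N : ℕ, (g : ℤ) * (k' : ℤ) ^ 2 = N * (k : ℤ) ^ 3 → g * k' ^ 2 = N * k ^ 3 :=
    fun N h => by exact_mod_cast h
  rcases hX with rfl | rfl | rfl | rfl | rfl | rfl
  · norm_num at hg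
    have e := key 12096 _ 2 inferInstance (by norm_num) (toNat _ (by push_cast; linarith))
      (pv 6 (by norm_num) (by norm_num) (by norm_num))
    omega
  · norm_num at hg
    have e := key 2880 _ 2 inferInstance (by norm_num) (toNat _ (by push_cast; linarith))
      (pv 6 (by norm_num) (by norm_num) (by norm_num))
    omega
  · norm_num at hg
    refine (kill_core hk hk' (by norm_num) (toNat 7920 (by push_cast; linarith)) fun r hr hrk => ?_).symm
    have hr2 : r ≠ 2 := by rintro rfl; exact Nat.two_dvd_ne_zero.2 (Nat.odd_iff.1 hkodd) hrk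
    haveI : Fact r.Prime := ⟨hr⟩
    have h := hodd r hr hr2 (dvd_mul_of_dvd_right hrk 48)
    rw [padicValNat.mul (by norm_num) hk.ne'] at h
    rcases eq_or_ne r 3 with rfl | hr3
    · rw [pv (r := 3) (N := 48) 1 (by norm_num) (by norm_num) (by norm_num)] at h
      rw [pv (r := 3) (N := 7920) 2 (by norm_num) (by norm_num) (by norm_num)]
      rw [if_pos rfl] at h
      omega
    · have h48 : ¬ r ∣ 48 := fun hd => by
        have := (Nat.Prime.dvd_mul hr).1 (show r ∣ 16 * 3 from hd)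
        rcases this with h' | h'
        · exact hr2 ((Nat.prime_dvd_prime_iff_eq hr Nat.prime_two).1 (hr.dvd_of_dvd_pow (show r ∣ 2 ^ 4 from h')))
        · exact hr3 ((Nat.prime_dvd_prime_iff_eq hr Nat.prime_three).1 h')
      rw [padicValNat.eq_zero_of_not_dvd h48, if_neg hr3] at h
      omega
  · norm_num at hg
    have e := key 6720 _ 2 inferInstance (by norm_num) (toNat _ (by push_cast; linarith))
      (pv 6 (by norm_num) (by norm_num) (by norm_num))
    omega
  · norm_num at hg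
    have e := key 5616 _ 3 inferInstance (by norm_num) (toNat _ (by push_cast; linarith))
      (pv 3 (by norm_num) (by norm_num) (by norm_num))
    have h := hodd 3 Nat.prime_three (by norm_num) (dvd_mul_of_dvd_left (by norm_num) k)
    rw [padicValNat.mul (by norm_num) hk.ne', pv (r := 3) (N := 48) 1 (by norm_num) (by norm_num) (by norm_num),
      if_pos rfl] at h
    have := val_le_of_dvd (r := 3) hk.ne' hk'
    omega
  · norm_num at hg
    omega

end Cfsg.Lib.AlmostCyc.SDArith
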