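import Cfsg.Agent.Lib.AlmostCyc.SDKill
import Cfsg.Agent.Lib.AlmostCyc.SDArith
import Cfsg.Agent.Lib.TwoGroup.Wreathed
import Mathlib

/-!
# Simple groups with almost cyclic Sylow subgroups have no semidihedral Sylow 2-subgroup

Everything is derived from the two class equations of Brauer (`BrauerData`).
-/

set_option autoImplicit false
set_option linter.style.haveILetI false
set_option maxHeartbeats 600000

namespace Cfsg.Lib.AlmostCyc

open Subgroup
open scoped commutatorElement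

universe u

/-- Brauer's class equations for semidihedral Sylow 2-subgroups and a prime field. -/
def BrauerData : Prop :=
  ∀ (G : Type u) [Group G] [Finite G] [IsSimpleGroup G], ¬ IsMulCommutative G →
    ∀ S : Sylow 2 G, Cfsg.IsQuasiDihedral ↥(S : Subgroup G) →
    ∀ z : G, orderOf z = 2 → z ∈ (S : Subgroup G) → (∀ s ∈ (S : Subgroup G), s * z = z * s) →
    ∀ U : Subgroup G, U ≤ (S : Subgroup G) → IsKleinFour ↥U →
    ∀ (p : ℕ) [Fact p.Prime], 3 ≤ p →
    (∃ N : Subgroup (↥(centralizer ({z} : Set G)) ⧸ Cfsg.oddCore ↥(centralizer ({z} : Set G))), N.Normal ∧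
      Nonempty (↥N ≃* Matrix.SpecialLinearGroup (Fin 2) (ZMod p))) →
    ∃ ε X Y : ℤ, (ε = 1 ∨ ε = -1) ∧ (4 : ℤ) ∣ (p : ℤ) - ε ∧ X ≠ 0 ∧ X + 1 ≠ 0 ∧
      Y * (X + (p : ℤ) ^ 2) = -(X * (X + 1)) ∧ 4 ∣ X - ε * (p : ℤ) ∧
      (Nat.card G : ℤ) * (Nat.card ↥(centralizer (U : Set G)) : ℤ) ^ 2 * (p : ℤ) * (X - ε * (p : ℤ)) ^ 2 =
        (Nat.card ↥(centralizer ({z} : Set G)) : ℤ) ^ 3 * ((p : ℤ) + ε) * (X * (X + 1))

namespace SDMain

variable {T : Type u} [Group T] [Finite T] [IsSimpleGroup T]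

theorem le_cent (S : Sylow 2 T) {n : ℕ} (d : Cfsg.Lib.TwoGroup.SD (S : Subgroup T) n) :
    (S : Subgroup T) ≤ centralizer ({(d.z : T)} : Set T) := fun s hs =>
  mem_centralizer_singleton_iff.2 (congrArg Subtype.val (d.z_central ⟨s, hs⟩).eq)

theorem oddCore_quot_eq_bot {C : Type u} [Group C] [Finite C] : oddCore (C ⧸ oddCore C) = ⊥ :=
  Cfsg.Lib.Core.pPrimeCore_quotient_eq_bot

/-- A 2-element lying in an odd subgroup is trivial. -/
theorem eq_one_of_two_odd {C : Type*} [Group C] [Finite C] {A : Subgroup C} (hA : Odd (Nat.card A))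
    {x : C} {j : ℕ} (hx : x ^ 2 ^ j = 1) (h : x ∈ A) : x = 1 :=
  orderOf_eq_one_iff.1 (Nat.eq_one_of_dvd_coprimes ((Nat.coprime_two_left.2 hA).pow_left j)
    (orderOf_dvd_of_pow_eq_one hx) (Subgroup.orderOf_dvd_natCard _ h))

/-- Outer involutions of `S`. -/
theorem outer (hna : ¬ IsMulCommutative T) (h2 : TwoHalf T) (S : Sylow 2 T) {n : ℕ}
    (d : Cfsg.Lib.TwoGroup.SD (S : Subgroup T) n) (Q : SDLocal.Quot S (d.z : T))
    (t : (S : Subgroup T)) (ht : orderOf t = 2) (htz : t ≠ d.z) :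
    haveI := Q.hp
    ((⟨t, le_cent S d t.2⟩ : centralizer ({(d.z : T)} : Set T)) :
        ↥(centralizer ({(d.z : T)} : Set T)) ⧸ oddCore ↥(centralizer ({(d.z : T)} : Set T))) ∉ Q.N ∧
    (Q.p % 4 = 1 → Nat.card (centralizer
        ({(⟨t, le_cent S d t.2⟩ : centralizer ({(d.z : T)} : Set T))} :
          Set ↥(centralizer ({(d.z : T)} : Set T)))) =
      Nat.card ↥(oddCore ↥(centralizer ({(d.z : T)} : Set T)) ⊓
        centralizer ({(⟨t, le_cent S d t.2⟩ : centralizer ({(d.z : T)} : Set T))} :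
          Set ↥(centralizer ({(d.z : T)} : Set T)))) * (2 * (Q.p + 1))) ∧
    (Q.p % 4 = 3 → Nat.card (centralizer
        ({(⟨t, le_cent S d t.2⟩ : centralizer ({(d.z : T)} : Set T))} :
          Set ↥(centralizer ({(d.z : T)} : Set T)))) =
      Nat.card ↥(oddCore ↥(centralizer ({(d.z : T)} : Set T)) ⊓
        centralizer ({(⟨t, le_cent S d t.2⟩ : centralizer ({(d.z : T)} : Set T))} :
          Set ↥(centralizer ({(d.z : T)} : Set T)))) * (2 * (Q.p - 1))) := by
  haveI := Q.hp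
  haveI := Q.normal
  set C := centralizer ({(d.z : T)} : Set T) with hC
  set O := oddCore ↥C with hO
  have hp2 : Q.p ≠ 2 := by have := Q.three_le; omega
  set tC : C := ⟨t, le_cent S d t.2⟩ with htC
  set zC : C := ⟨d.z, le_cent S d d.z.2⟩ with hzC
  have hOodd : Odd (Nat.card O) := Cfsg.Lib.ZStar.odd_card_oddCore
  have h2H : TwoHalf (↥C ⧸ O) := (h2.subgroup C).quotient O
  have hO' : oddCore (↥C ⧸ O) = ⊥ := oddCore_quot_eq_bot
  have hto : orderOf tC = 2 := by rw [htC, Subgroup.orderOf_mk, orderOf_coe, ht]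
  have hzo : orderOf zC = 2 := by rw [hzC, Subgroup.orderOf_mk, orderOf_coe, d.orderOf_z]
  have hzne : (zC : ↥C ⧸ O) ≠ 1 := fun h => Cfsg.Lib.Invol.ne_one hzo
    (eq_one_of_two_odd hOodd (j := 1) (by rw [pow_one, ← hzo, pow_orderOf_eq_one])
      ((QuotientGroup.eq_one_iff _).1 h))
  have hzz : (zC : ↥C ⧸ O) * zC = 1 := by
    rw [← QuotientGroup.mk_mul, Cfsg.Lib.Invol.inv_mul_self hzo, QuotientGroup.mk_one]
  have htt : (tC : ↥C ⧸ O) * tC = 1 := by
    rw [← QuotientGroup.mk_mul, Cfsg.Lib.Invol.inv_mul_self hto, QuotientGroup.mk_one]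
  obtain ⟨s, hs⟩ := SDLocal.exists_shift d ht htz
  set sC : C := ⟨s, le_cent S d s.2⟩ with hsC
  have hst : ⁅sC, tC⁆ = zC := Subtype.ext (congrArg Subtype.val hs :)
  have hst' : ⁅(sC : ↥C ⧸ O), (tC : ↥C ⧸ O)⁆ = zC := by
    have h := map_commutatorElement (QuotientGroup.mk' O) sC tC
    rw [hst] at h
    exact h.symm
  have htN : (tC : ↥C ⧸ O) ∉ Q.N := fun h => by
    have h1 := SDQuot.central_zN hp2 Q.N Q.e (SDQuot.mem_zN_of_sq hp2 Q.N Q.e h htt) (sC : ↥C ⧸ O)
    rw [← commutatorElement_eq_one_iff_mul_comm, hst'] at h1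
    exact hzne h1
  have hzN : (zC : ↥C ⧸ O) ∈ Q.N := by
    rw [← hst', commutatorElement_def]
    set a : ↥C ⧸ O := (sC : ↥C ⧸ O)
    set b : ↥C ⧸ O := (tC : ↥C ⧸ O)
    have hbi : b⁻¹ ∉ Q.N := fun h => htN (inv_inv b ▸ Q.N.inv_mem h)
    have hc : a * b * a⁻¹ ∉ Q.N := fun h => htN (by
      have := Q.normal.conj_mem _ h a⁻¹
      simpa [mul_assoc] using this)
    exact (mul_mem_iff_of_index_two Q.index).2 ⟨fun h => absurd h hc, fun h => absurd h hbi⟩
  have hsN : ⁅(sC : ↥C ⧸ O), (tC : ↥C ⧸ O)⁆ ∈ SDQuot.zN Q.N := by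
    rw [hst']; exact SDQuot.mem_zN_of_sq hp2 Q.N Q.e hzN hzz
  obtain ⟨h1, h3⟩ := SDQuot.card_centralizer hp2 Q.N Q.e h2H hO' Q.index htt htN hsN (hst'.symm ▸ hzne)
  have hl := SDLocal.card_centralizer_lift hOodd hto
  exact ⟨htN, fun h => by rw [hl, h1 h], fun h => by rw [hl, h3 h]⟩

/-- When `d.y` centralises the core, the centralizer of `z` is the core times what centralises it. -/
theorem core_split (hna : ¬ IsMulCommutative T) (h2 : TwoHalf T) (S : Sylow 2 T) {n : ℕ}
    (d : Cfsg.Lib.TwoGroup.SD (S : Subgroup T) n) (Q : SDLocal.Quot S (d.z : T))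
    (hy : oddCore ↥(centralizer ({(d.z : T)} : Set T)) ≤
      centralizer ({(⟨d.y, le_cent S d d.y.2⟩ : centralizer ({(d.z : T)} : Set T))} :
        Set ↥(centralizer ({(d.z : T)} : Set T)))) :
    (∀ c : ↥(centralizer ({(d.z : T)} : Set T)), ∃ o ∈ oddCore ↥(centralizer ({(d.z : T)} : Set T)),
      ∃ m : ↥(centralizer ({(d.z : T)} : Set T)),
        (∀ y ∈ oddCore ↥(centralizer ({(d.z : T)} : Set T)), m * y = y * m) ∧ c = o * m) ∧
    (∀ s ∈ (S : Subgroup T), ∀ y ∈ oddCore ↥(centralizer ({(d.z : T)} : Set T)),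
      s * (y : T) = (y : T) * s) := by
  haveI := Q.hp
  haveI := Q.normal
  have hp2 : Q.p ≠ 2 := by have := Q.three_le; omega
  have hne : d.y ≠ d.z := fun e => d.ne_mul_y (2 * Cfsg.Lib.TwoGroup.SD.P n) 0
    (by rw [zpow_zero, one_mul]; exact e.symm)
  have htN := (outer hna h2 S d Q d.y d.hy hne).1
  set C := centralizer ({(d.z : T)} : Set T) with hC
  set O := oddCore ↥C with hO
  set M := centralizer (O : Set ↥C) with hM
  haveI : M.Normal := inferInstance
  set tC : C := ⟨d.y, le_cent S d d.y.2⟩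
  have htM : tC ∈ M := mem_centralizer_iff.2 fun y hy' => mem_centralizer_singleton_iff.1 (hy hy')
  set π := QuotientGroup.mk' O with hπ
  haveI : (M.map π).Normal := Normal.map inferInstance π (QuotientGroup.mk'_surjective O)
  have htop : M.map π = ⊤ := SDQuot.normal_eq_top hp2 Q.N Q.e ((h2.subgroup C).quotient O)
    oddCore_quot_eq_bot Q.index Q.R Q.hR htN (M.map π) (mem_map_of_mem π htM)
  have hsplit : ∀ c : C, ∃ o ∈ O, ∃ m ∈ M, c = o * m := by
    intro c
    obtain ⟨m, hm, hmc⟩ := (htop ▸ mem_top (π c) : π c ∈ M.map π)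
    have h : m⁻¹ * c ∈ O := QuotientGroup.eq.1 hmc
    exact ⟨m * (m⁻¹ * c) * m⁻¹, (inferInstance : O.Normal).conj_mem _ h m, m, hm, by group⟩
  refine ⟨fun c => ?_, fun s hs y hy' => ?_⟩
  · obtain ⟨o, ho, m, hm, hc⟩ := hsplit c
    exact ⟨o, ho, m, fun y hy' => (mem_centralizer_iff.1 hm y hy').symm, hc⟩
  · set sC : C := ⟨s, le_cent S d hs⟩
    suffices hsM : sC ∈ M from (congrArg Subtype.val (mem_centralizer_iff.1 hsM y hy')).symm
    set f := QuotientGroup.mk' M
    have hOtop : O.map f = ⊤ := by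
      rw [eq_top_iff]
      intro w _
      obtain ⟨c, rfl⟩ := QuotientGroup.mk'_surjective M w
      obtain ⟨o, ho, m, hm, rfl⟩ := hsplit c
      refine ⟨o, ho, ?_⟩
      rw [map_mul, show f m = 1 from (QuotientGroup.eq_one_iff m).2 hm, mul_one]
    have hidx : M.index ∣ Nat.card O := by
      have := card_map_dvd (H := O) f
      rwa [hOtop, card_top, ← index_eq_card] at this
    have hodd : Odd (Nat.card (⊤ : Subgroup (↥C ⧸ M))) := by
      rw [card_top, ← index_eq_card]
      exact Odd.of_dvd_nat Cfsg.Lib.ZStar.odd_card_oddCore hidx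
    obtain ⟨j, hj⟩ := S.2 ⟨s, hs⟩
    have hsj : sC ^ 2 ^ j = 1 := Subtype.ext (congrArg Subtype.val hj :)
    refine (QuotientGroup.eq_one_iff sC).1 (eq_one_of_two_odd hodd (j := j) ?_ (mem_top _))
    rw [← QuotientGroup.mk_pow, hsj, QuotientGroup.mk_one]

/-- The group of order `7920 k`. -/
theorem false_of_three (hna : ¬ IsMulCommutative T) (h2 : TwoHalf T) (hodd : OddCyc T) (S : Sylow 2 T)
    {n : ℕ} (d : Cfsg.Lib.TwoGroup.SD (S : Subgroup T) n) (Q : SDLocal.Quot S (d.z : T)) (hp : Q.p = 3)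
    (hg : Nat.card T = 7920) (hO : Nat.card (oddCore ↥(centralizer ({(d.z : T)} : Set T))) = 1)
    (hK : Nat.card (centralizer ({(d.z : T)} : Set T)) = 48) : False := by
  haveI : Fact (Nat.Prime 2) := ⟨Nat.prime_two⟩
  haveI : Fact (Nat.Prime 3) := ⟨Nat.prime_three⟩
  haveI := Q.hp
  haveI := Q.normal
  set C := centralizer ({(d.z : T)} : Set T) with hC
  set O := oddCore ↥C with hOdef
  obtain ⟨u₁, hu₁⟩ := exists_prime_orderOf_dvd_card' (G := C) 3 (by rw [hK]; norm_num)
  have hu : orderOf (u₁ : T) = 3 := by rw [orderOf_coe, hu₁]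
  set X := centralizer ({(u₁ : T)} : Set T) with hX
  obtain ⟨R, -, hfull⟩ := SDLocal.local_bound h2 hodd hna S d (r := 3) (by norm_num) hu
    (mem_centralizer_singleton_iff.1 u₁.2)
  have hnc : ¬ IsCyclic (R : Subgroup (centralizer ({(u₁ : T)} : Set T))) := fun hcyc => by
    have h := hfull (Or.inl hcyc)
    rw [hg, hK] at h
    have e1 : padicValNat 3 7920 = 2 := by
      rw [show (7920 : ℕ) = 3 ^ 2 * 880 by norm_num, padicValNat.mul (by norm_num) (by norm_num),
        padicValNat.prime_pow, padicValNat.eq_zero_of_not_dvd (by norm_num)]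
    have e2 : padicValNat 3 48 = 1 := by
      rw [show (48 : ℕ) = 3 ^ 1 * 16 by norm_num, padicValNat.mul (by norm_num) (by norm_num),
        padicValNat.prime_pow, padicValNat.eq_zero_of_not_dvd (by norm_num)]
    omega
  -- a central involution of `R`, moved to `z`
  haveI : Nontrivial (R : Subgroup X) := by
    by_contra h
    rw [not_nontrivial_iff_subsingleton] at h
    exact hnc isCyclic_of_subsingleton
  haveI : Nontrivial (center (R : Subgroup X)) := R.2.center_nontrivial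
  obtain ⟨w, hw⟩ : ∃ w : center (R : Subgroup X), orderOf w = 2 := by
    obtain ⟨j, hj, hj'⟩ := (R.2.to_subgroup (center _)).nontrivial_iff_card.1 inferInstance
    exact exists_prime_orderOf_dvd_card' 2 (hj' ▸ dvd_pow_self 2 hj.ne')
  have hw' : orderOf (((w : (R : Subgroup X)) : X) : T) = 2 := by rw [orderOf_coe, orderOf_coe, orderOf_coe, hw]
  obtain ⟨g, hgw⟩ := SDLocal.conj_central hna S d hw'
  set A₀ : Subgroup T := ((R : Subgroup X).map X.subtype).map (MulAut.conj g).toMonoidHom with hA₀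
  have hA₀p : IsPGroup 2 A₀ := (R.2.map _).map _
  have hA₀C : A₀ ≤ C := by
    rintro _ ⟨_, ⟨r, hr, rfl⟩, rfl⟩
    refine mem_centralizer_singleton_iff.2 ?_
    rw [← hgw]
    have h : ((⟨r, hr⟩ : (R : Subgroup X)) * w : (R : Subgroup X)) = w * ⟨r, hr⟩ := mem_center_iff.1 w.2 _
    have h' : (r : T) * ((w : (R : Subgroup X)) : X) = ((w : (R : Subgroup X)) : X) * (r : T) :=
      congrArg (fun v : (R : Subgroup X) => ((v : X) : T)) h
    show g * (r : T) * g⁻¹ * (g * _ * g⁻¹) = g * _ * g⁻¹ * (g * (r : T) * g⁻¹)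
    calc g * (r : T) * g⁻¹ * (g * ((w : (R : Subgroup X)) : X) * g⁻¹)
        = g * ((r : T) * ((w : (R : Subgroup X)) : X)) * g⁻¹ := by group
      _ = g * (((w : (R : Subgroup X)) : X) * (r : T)) * g⁻¹ := by rw [h']
      _ = g * ((w : (R : Subgroup X)) : X) * g⁻¹ * (g * (r : T) * g⁻¹) := by group
  have hu₂C : g * (u₁ : T) * g⁻¹ ∈ C := by
    have h' : (((w : (R : Subgroup X)) : X) : T) * (u₁ : T) = (u₁ : T) * (((w : (R : Subgroup X)) : X) : T) :=
      mem_centralizer_singleton_iff.1 ((w : (R : Subgroup X)) : X).2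
    refine mem_centralizer_singleton_iff.2 ?_
    rw [← hgw]
    calc g * (u₁ : T) * g⁻¹ * (g * ((w : (R : Subgroup X)) : X) * g⁻¹)
        = g * ((u₁ : T) * ((w : (R : Subgroup X)) : X)) * g⁻¹ := by group
      _ = g * (((w : (R : Subgroup X)) : X) * (u₁ : T)) * g⁻¹ := by rw [h']
      _ = g * ((w : (R : Subgroup X)) : X) * g⁻¹ * (g * (u₁ : T) * g⁻¹) := by group
  have hA₀u : ∀ a ∈ A₀, a * (g * (u₁ : T) * g⁻¹) = g * (u₁ : T) * g⁻¹ * a := by
    rintro _ ⟨_, ⟨r, hr, rfl⟩, rfl⟩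
    have h : (r : T) * (u₁ : T) = (u₁ : T) * (r : T) := mem_centralizer_singleton_iff.1 r.2
    show g * (r : T) * g⁻¹ * (g * (u₁ : T) * g⁻¹) = g * (u₁ : T) * g⁻¹ * (g * (r : T) * g⁻¹)
    calc g * (r : T) * g⁻¹ * (g * (u₁ : T) * g⁻¹) = g * ((r : T) * (u₁ : T)) * g⁻¹ := by group
      _ = g * ((u₁ : T) * (r : T)) * g⁻¹ := by rw [h]
      _ = g * (u₁ : T) * g⁻¹ * (g * (r : T) * g⁻¹) := by group
  have hA₀nc : ¬ IsCyclic A₀ := fun h => hnc (by
    haveI := h
    exact isCyclic_of_injective (((MulAut.conj g).toMonoidHom.subgroupMap _).comp (X.subtype.subgroupMap (R : Subgroup X)))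
      (fun a b hab => Subtype.ext (X.subtype_injective ((MulAut.conj g).injective (congrArg Subtype.val hab)))))
  -- into `S`
  obtain ⟨P, hP⟩ := (hA₀p.comap_of_injective C.subtype C.subtype_injective).exists_le_sylow
  obtain ⟨c, hc⟩ := MulAction.exists_smul_eq C P (S.subtype (le_cent S d))
  set uC : C := c * ⟨_, hu₂C⟩ * c⁻¹ with huC
  have huo : orderOf uC = 3 := by
    rw [huC, Cfsg.Lib.Invol.orderOf_conj_eq, Subgroup.orderOf_mk, Cfsg.Lib.Invol.orderOf_conj_eq, hu]
  set A : Subgroup C := (A₀.subgroupOf C).map (MulAut.conj c).toMonoidHom with hA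
  have hAS : ∀ a ∈ A, ((a : C) : T) ∈ (S : Subgroup T) := by
    rintro _ ⟨a, ha, rfl⟩
    have h1 : MulAut.conj c a ∈ ((c • P : Sylow 2 C) : Subgroup C) := by
      rw [Sylow.coe_subgroup_smul, ← MulAut.smul_def]
      exact smul_mem_pointwise_smul _ _ _ (hP ha)
    rw [hc, Sylow.coe_subtype, mem_subgroupOf] at h1
    exact h1
  have hAu : ∀ a ∈ A, a * uC = uC * a := by
    rintro _ ⟨a, ha, rfl⟩
    have h : a * (⟨_, hu₂C⟩ : C) = (⟨_, hu₂C⟩ : C) * a := Subtype.ext (hA₀u _ ha)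
    show c * a * c⁻¹ * (c * _ * c⁻¹) = c * _ * c⁻¹ * (c * a * c⁻¹)
    calc c * a * c⁻¹ * (c * (⟨_, hu₂C⟩ : C) * c⁻¹) = c * (a * (⟨_, hu₂C⟩ : C)) * c⁻¹ := by group
      _ = c * ((⟨_, hu₂C⟩ : C) * a) * c⁻¹ := by rw [h]
      _ = c * (⟨_, hu₂C⟩ : C) * c⁻¹ * (c * a * c⁻¹) := by group
  have hAnc : ¬ IsCyclic A := fun h => hA₀nc (by
    haveI := h
    haveI : IsCyclic (A₀.subgroupOf C) := isCyclic_of_injective ((MulAut.conj c).toMonoidHom.subgroupMap _)
      (fun a b hab => Subtype.ext ((MulAut.conj c).injective (congrArg Subtype.val hab)))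
    exact isCyclic_of_surjective (subgroupOfEquivOfLe hA₀C).toMonoidHom (subgroupOfEquivOfLe hA₀C).surjective)
  -- no involution besides `z`
  have hinv : ∀ a ∈ A, orderOf a = 2 → (a : T) = d.z := by
    intro a ha ho
    by_contra hne
    have hto : orderOf (⟨a, hAS a ha⟩ : (S : Subgroup T)) = 2 := by
      rw [Subgroup.orderOf_mk, orderOf_coe, ho]
    obtain ⟨-, -, h3⟩ := outer hna h2 S d Q ⟨a, hAS a ha⟩ hto fun e => hne (congrArg Subtype.val e)
    have h4 := h3 (by rw [hp])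
    have h5 : Nat.card ↥(O ⊓ centralizer ({a} : Set C)) = 1 :=
      Nat.dvd_one.1 (hO ▸ card_dvd_of_le inf_le_left)
    have h6 : Nat.card (centralizer ({a} : Set C)) = 4 := by
      rw [hp, h5] at h4
      simpa using h4
    have h7 := Subgroup.orderOf_dvd_natCard (centralizer ({a} : Set C)) (x := uC)
      (mem_centralizer_singleton_iff.2 (hAu a ha).symm)
    rw [huo, h6] at h7
    norm_num at h7
  -- an element of order four
  have hn3 : n = 3 := by
    have h := d.card
    rw [Sylow.card_eq_multiplicity, hg, Nat.factorization_def _ Nat.prime_two,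
      show (7920 : ℕ) = 2 ^ 4 * 495 by norm_num, padicValNat.mul (by norm_num) (by norm_num),
      padicValNat.prime_pow, padicValNat.eq_zero_of_not_dvd (by norm_num)] at h
    have := Nat.pow_right_injective le_rfl h
    omega
  obtain ⟨a, haA, ha4⟩ : ∃ a ∈ A, orderOf a = 4 := by
    by_contra hno
    push Not at hno
    refine hAnc ?_
    have hle : ∀ a : A, a = 1 ∨ ((a : C) : T) = d.z := by
      intro a
      obtain ⟨j, hj⟩ := IsPGroup.iff_orderOf.1 S.2 ⟨_, hAS a a.2⟩
      rw [Subgroup.orderOf_mk, orderOf_coe] at hj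
      rcases (by omega : j = 0 ∨ j = 1 ∨ 2 ≤ j) with rfl | rfl | hj2
      · exact Or.inl (Subtype.ext (orderOf_eq_one_iff.1 (by rw [hj, pow_zero])))
      · exact Or.inr (hinv a a.2 (by rw [hj, pow_one]))
      · refine absurd ?_ (hno _ (A.pow_mem a.2 (2 ^ (j - 2))))
        rw [orderOf_pow' _ (by positivity), hj, Nat.gcd_eq_right (pow_dvd_pow 2 (Nat.sub_le j 2)),
          Nat.pow_div (Nat.sub_le j 2) two_pos, show j - (j - 2) = 2 by omega]
        norm_num
    haveI : Nontrivial A := by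
      by_contra h
      rw [not_nontrivial_iff_subsingleton] at h
      exact hAnc isCyclic_of_subsingleton
    have hA2 : Nat.card A = 2 := by
      obtain ⟨b, hb⟩ := exists_ne (1 : A)
      refine (Nat.card_eq_two_iff' (1 : A)).2 ⟨b, hb, fun v hv => ?_⟩
      exact Subtype.ext (Subtype.ext (((hle v).resolve_left hv).trans ((hle b).resolve_left hb).symm))
    exact isCyclic_of_prime_card hA2
  set sA : (S : Subgroup T) := ⟨a, hAS a haA⟩ with hsA
  have hsA4 : orderOf sA = 4 := by rw [hsA, Subgroup.orderOf_mk, orderOf_coe, ha4]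
  have hOodd : Odd (Nat.card O) := Cfsg.Lib.ZStar.odd_card_oddCore
  let φ : (S : Subgroup T) →* ↥C ⧸ O := (QuotientGroup.mk' O).comp (inclusion (le_cent S d))
  have hφ : Function.Injective φ := by
    rw [injective_iff_map_eq_one]
    intro s hs
    obtain ⟨j, hj⟩ := S.2 s
    exact inclusion_injective (le_cent S d) ((eq_one_of_two_odd hOodd (j := j)
      (by rw [← map_pow, hj, map_one]) ((QuotientGroup.eq_one_iff _).1 hs)).trans (map_one _).symm)
  let eq3 : Q.N ≃* Matrix.SpecialLinearGroup (Fin 2) (ZMod 3) :=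
    Q.e.trans (Cfsg.Lib.Linear.Mitchell.Sub3.slCongr 2 (ZMod.ringEquivCongr hp))
  have hne : d.y ≠ d.z := fun e => d.ne_mul_y (2 * Cfsg.Lib.TwoGroup.SD.P n) 0
    (by rw [zpow_zero, one_mul]; exact e.symm)
  have hyN : φ d.y ∉ Q.N := (outer hna h2 S d Q d.y d.hy hne).1
  have hxN : φ d.x ∉ Q.N := fun h => by
    have h8 : (eq3 ⟨φ d.x, h⟩) ^ 8 = 1 := by
      rw [← map_pow, show (⟨φ d.x, h⟩ : Q.N) ^ 8 = 1 from Subtype.ext (by
        rw [SubmonoidClass.coe_pow]
        show φ d.x ^ 8 = 1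
        rw [← map_pow, show (8 : ℕ) = 2 ^ n by rw [hn3]; rfl, ← d.hx, pow_orderOf_eq_one, map_one]),
        map_one]
    have h4 := SDThree.eight_four _ h8
    rw [← map_pow, EmbeddingLike.map_eq_one_iff] at h4
    have h5 : d.x ^ 4 = 1 := hφ (by
      rw [map_pow, map_one]; exact congrArg Subtype.val h4)
    have := orderOf_dvd_of_pow_eq_one h5
    rw [d.hx, hn3] at this
    norm_num at this
  have haN : φ sA ∈ Q.N := by
    have hxs : φ d.x * φ d.x ∈ Q.N := mul_self_mem_of_index_two Q.index _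
    have hx2 : ∀ i : ℤ, φ (d.x ^ (2 * i)) ∈ Q.N := fun i => by
      rw [zpow_mul, zpow_two, map_zpow, map_mul]
      exact Q.N.zpow_mem hxs i
    have hP : Cfsg.Lib.TwoGroup.SD.P n = 2 := by rw [hn3]; rfl
    rcases d.order_four_cases hsA4 with h | h | ⟨i, h⟩
    · rw [h, hP]; simpa using hx2 1
    · rw [h, hP]; simpa using hx2 (-1)
    · rw [h, zpow_add, zpow_one, mul_assoc, map_mul]
      exact Q.N.mul_mem (hx2 i) (by
        rw [map_mul]
        exact (mul_mem_iff_of_index_two Q.index).2 ⟨fun h' => absurd h' hxN, fun h' => absurd h' hyN⟩)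
  set uB : ↥C ⧸ O := QuotientGroup.mk' O uC with huB
  have huB3 : uB ^ 3 = 1 := by
    rw [huB, ← map_pow, ← huo, pow_orderOf_eq_one, map_one]
  have huN : uB ∈ Q.N := by
    have h2N : uB * uB ∈ Q.N := mul_self_mem_of_index_two Q.index _
    have h3N : uB * uB * uB ∈ Q.N := by rw [← pow_three', huB3]; exact one_mem _
    exact (mul_mem_cancel_left h2N).1 h3N
  have hu1 : uB ≠ 1 := fun h => by
    have hbot : O = ⊥ := card_eq_one.1 hO
    have h1 : uC ∈ O := (QuotientGroup.eq_one_iff _).1 h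
    rw [hbot, mem_bot] at h1
    rw [h1, orderOf_one] at huo
    norm_num at huo
  have h4 := SDLinear.sl_three_four (eq3 ⟨uB, huN⟩) (eq3 ⟨φ sA, haN⟩)
    (by rw [← map_pow, show (⟨uB, huN⟩ : Q.N) ^ 3 = 1 from Subtype.ext (by
      rw [SubmonoidClass.coe_pow]; exact huB3), map_one])
    (fun h => hu1 (congrArg Subtype.val (eq3.injective (h.trans (map_one eq3).symm))))
    (by rw [← map_pow, show (⟨φ sA, haN⟩ : Q.N) ^ 4 = 1 from Subtype.ext (by
      rw [SubmonoidClass.coe_pow]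
      show φ sA ^ 4 = 1
      rw [← map_pow, ← hsA4, pow_orderOf_eq_one, map_one]), map_one])
    (by
      rw [← map_mul, ← map_mul]
      refine congrArg eq3 (Subtype.ext ?_)
      show QuotientGroup.mk' O uC * QuotientGroup.mk' O a = QuotientGroup.mk' O a * QuotientGroup.mk' O uC
      rw [← map_mul, ← map_mul, hAu a haA])
  rw [← map_pow, EmbeddingLike.map_eq_one_iff] at h4
  have h5 : sA ^ 2 = 1 := hφ (by rw [map_pow, map_one]; exact congrArg Subtype.val h4)
  have := orderOf_dvd_of_pow_eq_one h5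
  rw [hsA4] at this
  norm_num at this

/-- The exclusion. -/
theorem noSD_step (hB : BrauerData.{u}) (hna : ¬ IsMulCommutative T) (h2 : TwoHalf T) (hodd : OddCyc T)
    (hIH : ∀ m, m < Nat.card T → NoSDUpTo.{u} m) : NoSD T := by
  intro S hS
  haveI : Fact (Nat.Prime 2) := ⟨Nat.prime_two⟩
  obtain ⟨n, ⟨d⟩⟩ := Cfsg.Lib.TwoGroup.exists_sd hS
  obtain ⟨Q⟩ := SDLocal.exists_quot hna h2 hodd hIH S d
  haveI := Q.hp
  haveI := Q.normal
  set C := centralizer ({(d.z : T)} : Set T) with hC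
  set O := oddCore ↥C with hO
  have hOodd : Odd (Nat.card O) := Cfsg.Lib.ZStar.odd_card_oddCore
  have hp2 : Q.p ≠ 2 := by have := Q.three_le; omega
  have hne : d.y ≠ d.z := fun e => d.ne_mul_y (2 * Cfsg.Lib.TwoGroup.SD.P n) 0
    (by rw [zpow_zero, one_mul]; exact e.symm)
  -- the four group
  have hzo : orderOf (d.z : T) = 2 := by rw [orderOf_coe, d.orderOf_z]
  have hyo : orderOf (d.y : T) = 2 := by rw [orderOf_coe, d.hy]
  have hcy : Commute (d.y : T) (d.z : T) := congrArg Subtype.val (d.z_central d.y).eq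
  have hyz : (d.y : T) ∉ zpowers (d.z : T) := by
    intro hm
    obtain ⟨k, hk⟩ := hm
    have hk' : d.y = d.x ^ (2 * Cfsg.Lib.TwoGroup.SD.P n * k) := by
      rw [zpow_mul]
      exact (Subtype.ext hk).symm
    refine d.ne_mul_y (2 * Cfsg.Lib.TwoGroup.SD.P n * k) 0 ?_
    rw [zpow_zero, one_mul]
    exact hk'.symm
  set U : Subgroup T := closure ({(d.z : T), (d.y : T)} : Set T) with hU
  have hU4 : IsKleinFour ↥U :=
    Cfsg.Lib.TwoGroup.isKleinFour_closure hzo (Cfsg.Lib.Invol.inv_mul_self hyo) hcy hyz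
  have hUS : U ≤ (S : Subgroup T) := by
    rw [hU, closure_le]
    rintro w (rfl | rfl)
    exacts [d.z.2, d.y.2]
  obtain ⟨ε, X, Y, hε, hεp, hX0, hX1, hY, h4, hmain⟩ := hB T hna S hS (d.z : T) hzo d.z.2
    (fun s hs => congrArg Subtype.val (d.z_central ⟨s, hs⟩).eq) U hUS hU4 Q.p Q.three_le
    ⟨Q.N, Q.normal, ⟨Q.e⟩⟩
  -- orders
  set tC : C := ⟨d.y, le_cent S d d.y.2⟩ with htC
  have hcU : Nat.card ↥(centralizer (U : Set T)) = Nat.card (centralizer ({tC} : Set C)) := by
    refine Nat.card_congr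
      { toFun := fun x => ⟨⟨(x : T), mem_centralizer_singleton_iff.2
          (mem_centralizer_iff.1 x.2 _ (subset_closure (Or.inl rfl))).symm⟩,
          mem_centralizer_singleton_iff.2 (Subtype.ext
            (mem_centralizer_iff.1 x.2 _ (subset_closure (Or.inr rfl))).symm)⟩
        invFun := fun x => ⟨((x : C) : T), by
          rw [hU, centralizer_closure, mem_centralizer_iff]
          rintro w (rfl | rfl)
          · exact (mem_centralizer_singleton_iff.1 (x : C).2).symm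
          · exact (congrArg Subtype.val (mem_centralizer_singleton_iff.1 x.2) :).symm⟩
        left_inv := fun x => rfl
        right_inv := fun x => rfl }
  set k' := Nat.card ↥(O ⊓ centralizer ({tC} : Set C)) with hk'def
  set k := Nat.card O with hkdef
  have hk0 : 0 < k := Nat.card_pos
  have hk' : k' ∣ k := card_dvd_of_le inf_le_left
  obtain ⟨-, hc1, hc3⟩ := outer hna h2 S d Q d.y d.hy hne
  have hc : (Nat.card ↥(centralizer (U : Set T)) : ℤ) = (k' : ℤ) * (2 * ((Q.p : ℤ) + ε)) := by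
    rw [hcU]
    have hodd' : Q.p % 2 = 1 := Nat.odd_iff.1 (Q.hp.out.odd_of_ne_two hp2)
    rcases hε with rfl | rfl
    · rw [hc1 (by omega)]; push_cast; ring
    · rw [hc3 (by omega)]
      have := Q.three_le
      push_cast [Nat.cast_sub (show 1 ≤ Q.p by omega)]
      ring
  have hp1 : 1 ≤ Q.p ^ 2 := Nat.one_le_pow _ _ (by have := Q.three_le; omega)
  have hKv : Nat.card C = k * (2 * (Q.p * (Q.p ^ 2 - 1))) := by
    rw [← card_mul_index O, hkdef, index_eq_card, ← card_mul_index Q.N, Q.index, Nat.card_congr Q.e.toEquiv,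
      Cfsg.Lib.Linear.Two.card_SL_two, ZMod.card, mul_comm _ 2]
  have hM : (((Q.p ^ 2 - 1 : ℕ)) : ℤ) = (Q.p : ℤ) ^ 2 - 1 := by push_cast [Nat.cast_sub hp1]; ring
  have hKz : (Nat.card C : ℤ) = 2 * (k : ℤ) * ((Q.p : ℤ) * ((Q.p : ℤ) ^ 2 - 1)) := by
    rw [hKv]; push_cast [hM]; ring
  have hpε : (0 : ℤ) < (Q.p : ℤ) + ε := by
    have := Q.three_le
    omega
  have heq : (Nat.card T : ℤ) * (k' : ℤ) ^ 2 * ((Q.p : ℤ) + ε) * (X - ε * Q.p) ^ 2 =
      2 * (k : ℤ) ^ 3 * (Q.p : ℤ) ^ 2 * ((Q.p : ℤ) ^ 2 - 1) ^ 3 * (X * (X + 1)) := by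
    rw [hc, hKz] at hmain
    have hp0 : (Q.p : ℤ) ≠ 0 := by exact_mod_cast Q.hp.out.ne_zero
    refine mul_left_cancel₀ (a := 4 * (Q.p : ℤ) * ((Q.p : ℤ) + ε))
      (mul_ne_zero (mul_ne_zero four_ne_zero hp0) hpε.ne') ?_
    linear_combination hmain
  have hg0 : 0 < Nat.card T := Nat.card_pos
  have hoddb : ∀ r : ℕ, r.Prime → r ≠ 2 → r ∣ Nat.card C →
      padicValNat r (Nat.card T) ≤ padicValNat r (Nat.card C) + if r = 3 then 1 else 0 := by
    intro r hr hr2 hd
    haveI : Fact r.Prime := ⟨hr⟩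
    obtain ⟨x, hx⟩ := exists_prime_orderOf_dvd_card' r hd
    obtain ⟨R, hb, -⟩ := SDLocal.local_bound h2 hodd hna S d hr2 (x := (x : T)) (by rw [orderOf_coe, hx])
      (mem_centralizer_singleton_iff.1 x.2)
    exact hb
  have h2v : padicValNat 2 (Nat.card T) = padicValNat 2 (Nat.card C) := by
    rw [← card_mul_index C, padicValNat.mul Nat.card_pos.ne' index_ne_zero_of_finite,
      padicValNat.eq_zero_of_not_dvd fun h => S.not_dvd_index (h.trans (index_dvd_of_le (le_cent S d))),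
      add_zero]
  -- once `k' = k`
  have hyO : k' = k → O ≤ centralizer ({tC} : Set C) := fun h => by
    have := eq_of_le_of_card_ge (inf_le_left : O ⊓ centralizer ({tC} : Set C) ≤ O) (by rw [← hk'def, ← hkdef, h])
    exact inf_eq_left.1 this
  have hcore : ∀ {r : ℕ}, r.Prime → r ≠ 2 → k' = k → k.minFac = r → r ∣ k →
      padicValNat r (Nat.card T) ≤ padicValNat r k → False := fun {r} hr hr2 hkk hmin hd hfull => by
    haveI : Fact r.Prime := ⟨hr⟩
    obtain ⟨hgen, hS'⟩ := core_split hna h2 S d Q (hyO hkk)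
    exact SDKill.false_of_core hna hodd S d hr2 hmin hfull hgen hS' hd
  have hkodd : Odd k := hOodd
  have hmin : 1 < k → k.minFac.Prime ∧ k.minFac ≠ 2 ∧ k.minFac ∣ k := fun h => by
    refine ⟨Nat.minFac_prime h.ne', fun e => ?_, Nat.minFac_dvd k⟩
    exact Nat.two_dvd_ne_zero.2 (Nat.odd_iff.1 hkodd) (e ▸ Nat.minFac_dvd k)
  rcases (by have := Q.three_le; omega : Q.p = 3 ∨ 4 ≤ Q.p) with hp3 | hp4
  · have hεv : ε = -1 := by
      rcases hε with rfl | rfl
      · rw [hp3] at hεp; norm_num at hεp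
      · rfl
    subst hεv
    have hK48 : Nat.card C = 48 * k := by rw [hKv, hp3]; ring
    have hp3' : (Q.p : ℤ) = 3 := by exact_mod_cast hp3
    rw [hp3'] at heq hY h4
    have h2g : padicValNat 2 (Nat.card T) = 4 := by
      rw [h2v, hK48, padicValNat.mul (by norm_num) (by omega),
        padicValNat.eq_zero_of_not_dvd (Nat.two_dvd_ne_zero.2 (Nat.odd_iff.1 hkodd)),
        show (48 : ℕ) = 2 ^ 4 * 3 by norm_num, padicValNat.mul (by norm_num) (by norm_num),
        padicValNat.prime_pow, padicValNat.eq_zero_of_not_dvd (by norm_num)]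
    obtain ⟨hg, hkk⟩ := SDArith.three_case (g := Nat.card T) (k := k) (k' := k') (X := X) (Y := Y) hk0 hkodd hk' hg0
      hX0 hX1 (by rw [← hY]; norm_num) (by simpa using h4)
      (by
        refine mul_left_cancel₀ (a := (2 : ℤ)) two_ne_zero ?_
        linear_combination heq)
      (fun r hr hr2 hd => by rw [← hK48] at hd ⊢; exact hoddb r hr hr2 hd) h2g
    have h3k : ¬ 3 ∣ k := by
      intro hd
      haveI : Fact (Nat.Prime 3) := ⟨Nat.prime_three⟩
      obtain ⟨x, hx⟩ := exists_prime_orderOf_dvd_card' 3 hd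
      obtain ⟨-, hS'⟩ := core_split hna h2 S d Q (hyO hkk)
      have hxo : orderOf ((x : C) : T) = 3 := by rw [orderOf_coe, orderOf_coe, hx]
      obtain ⟨R, -, hfull⟩ := SDLocal.local_bound h2 hodd hna S d (r := 3) (by norm_num) hxo
        (mem_centralizer_singleton_iff.1 (x : C).2)
      have hSX : (S : Subgroup T) ≤ centralizer ({((x : C) : T)} : Set T) := fun s hs =>
        mem_centralizer_singleton_iff.2 (hS' s hs x x.2)
      have hq : Cfsg.IsQuasiDihedral (R : Subgroup (centralizer ({((x : C) : T)} : Set T))) :=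
        SDLocal.qd_of_equiv ((subgroupOfEquivOfLe hSX).symm.trans ((S.subtype hSX).equiv R)) hS
      have h := hfull (Or.inr hq)
      have e1 : padicValNat 3 7920 = 2 := by
        rw [show (7920 : ℕ) = 3 ^ 2 * 880 by norm_num, padicValNat.mul (by norm_num) (by norm_num),
          padicValNat.prime_pow, padicValNat.eq_zero_of_not_dvd (by norm_num)]
      have e2 : padicValNat 3 48 = 1 := by
        rw [show (48 : ℕ) = 3 ^ 1 * 16 by norm_num, padicValNat.mul (by norm_num) (by norm_num),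
          padicValNat.prime_pow, padicValNat.eq_zero_of_not_dvd (by norm_num)]
      rw [hg, hK48, padicValNat.mul (by norm_num) (by omega), padicValNat.mul (by norm_num) (by omega),
        e1, e2] at h
      omega
    rcases (by omega : k = 1 ∨ 1 < k) with hk1 | hk1
    · exact false_of_three hna h2 hodd S d Q hp3 (by rw [hg, hk1]) (hk1 ▸ hkdef.symm) (by rw [hK48, hk1])
    · obtain ⟨hr, hr2, hd⟩ := hmin hk1
      haveI : Fact k.minFac.Prime := ⟨hr⟩
      refine hcore hr hr2 hkk rfl hd ?_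
      have hb := hoddb _ hr hr2 (hK48 ▸ hd.mul_left 48)
      have hr3 : k.minFac ≠ 3 := fun e => h3k (e ▸ hd)
      have h48 : ¬ k.minFac ∣ 48 := fun h => by
        rcases hr.dvd_mul.1 (show k.minFac ∣ 2 ^ 4 * 3 from h) with h | h
        · exact hr2 ((Nat.prime_dvd_prime_iff_eq hr Nat.prime_two).1 (hr.dvd_of_dvd_pow h))
        · exact hr3 ((Nat.prime_dvd_prime_iff_eq hr Nat.prime_three).1 h)
      rw [if_neg hr3, add_zero, hK48, padicValNat.mul (by norm_num) (by omega),
        padicValNat.eq_zero_of_not_dvd h48, zero_add] at hb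
      exact hb
  · have hp5 : 5 ≤ Q.p := by
      rcases (by omega : Q.p = 4 ∨ 5 ≤ Q.p) with h | h
      · exact absurd (h ▸ Q.hp.out) (by norm_num)
      · exact h
    have hKc : Nat.card C = 2 * k * (Q.p * (Q.p ^ 2 - 1)) := by rw [hKv]; ring
    have hcop : k.Coprime (Q.p * (Q.p ^ 2 - 1)) := by
      have := Q.coprime hp5
      rwa [Cfsg.Lib.Linear.Two.card_SL_two, ZMod.card] at this
    obtain ⟨hp5', hg, hkk⟩ := SDArith.five_case (g := Nat.card T) (k := k) (k' := k') (X := X) (Y := Y) (ε := ε)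
      (p := Q.p) hp5 hε hεp hk0 hk' hcop hg0 hX0 hX1 hY h4 heq
      (fun r hr hr2 hd => by rw [← hKc] at hd ⊢; exact hoddb r hr hr2 hd) (by rw [h2v, hKc])
    have hK240 : Nat.card C = 240 * k := by rw [hKc, hp5']; ring
    rcases (by omega : k = 1 ∨ 1 < k) with hk1 | hk1
    · exact SDKill.false_of_order hna S d (by rw [hg, hk1]) (by rw [hK240, hk1])
    · obtain ⟨hr, hr2, hd⟩ := hmin hk1
      haveI : Fact k.minFac.Prime := ⟨hr⟩
      refine hcore hr hr2 hkk rfl hd ?_
      have hb := hoddb _ hr hr2 (hK240 ▸ hd.mul_left 240)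
      have hcp : k.minFac.Coprime (Q.p * (Q.p ^ 2 - 1)) := hcop.coprime_dvd_left hd
      rw [hp5'] at hcp
      have h240 : ¬ k.minFac ∣ 240 := fun h => by
        rcases hr.dvd_mul.1 (show k.minFac ∣ 2 * 120 from h) with h | h
        · exact hr2 ((Nat.prime_dvd_prime_iff_eq hr Nat.prime_two).1 h)
        · exact hr.ne_one (Nat.eq_one_of_dvd_coprimes hcp dvd_rfl (show k.minFac ∣ 5 * (5 ^ 2 - 1) from h))
      have hr3 : k.minFac ≠ 3 := fun e => h240 (by rw [e]; norm_num)
      rw [if_neg hr3, add_zero, hK240, padicValNat.mul (by norm_num) (by omega),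
        padicValNat.eq_zero_of_not_dvd h240, zero_add] at hb
      exact hb

end SDMain

/-- No simple group with almost cyclic Sylow subgroups has semidihedral Sylow 2-subgroups. -/
theorem noSDUpTo_all (hB : BrauerData.{u}) : ∀ n, NoSDUpTo.{u} n := by
  intro n
  induction n using Nat.strong_induction_on with
  | _ n ih =>
    intro T _ _ _ hna h2 hodd hle
    exact SDMain.noSD_step hB hna h2 hodd fun m hm => ih m (lt_of_lt_of_le hm hle)

end Cfsg.Lib.AlmostCyc
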