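import Cfsg.Agent.Lib.AlmostCyc.TwoGen
import Cfsg.Agent.Lib.PGroup.FrattiniStab
import Cfsg.Agent.Lib.DihedralAut
import Cfsg.Agent.Lib.Core.Basic
import Mathlib

/-!
# Semidihedral exclusion: the local lemma on a cyclic Sylow subgroup

`X` has a cyclic Sylow `r`-subgroup meeting the centre, `r` odd, and almost cyclic 2-subgroups.
Burnside gives a normal complement; a Sylow `r`-subgroup then normalises a Sylow 2-subgroup and its
cubes centralise it.
-/

set_option autoImplicit false
set_option linter.style.haveILetI false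

namespace Cfsg.Lib.AlmostCyc

open Subgroup

universe u

/-- Automorphisms of odd order of an almost cyclic 2-group have order dividing three. -/
theorem cube_eq_one {R : Type*} [Group R] [Finite R] (hR : IsPGroup 2 R) (h : HalfCyclic R)
    {α : MulAut R} (hα : Odd (orderOf α)) : α ^ 3 = 1 := by
  classical
  haveI : Fact (Nat.Prime 2) := ⟨Nat.prime_two⟩
  haveI : (frattini R).Characteristic := inferInstance
  set Φ := frattini R
  have hsq : ∀ x : R ⧸ Φ, x * x = 1 := by
    intro x
    obtain ⟨y, rfl⟩ := QuotientGroup.mk_surjective x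
    rw [← QuotientGroup.mk_mul, QuotientGroup.eq_one_iff, ← sq]
    exact Cfsg.Lib.PGroup.pow_mem_frattini hR y
  have hle : Nat.card (R ⧸ Φ) ≤ 4 := by
    obtain ⟨C, hC, hidx⟩ := h.of_surjective (QuotientGroup.mk' Φ) (QuotientGroup.mk'_surjective Φ)
    have hC2 : Nat.card C ≤ 2 := Cfsg.Lib.FTCons.MetacyclicSylow.small_of_sq fun x => Subtype.ext (by
      rw [SubmonoidClass.coe_pow, sq]; exact hsq x)
    rw [← card_mul_index C]
    calc Nat.card C * C.index ≤ 2 * 2 := Nat.mul_le_mul hC2 (Nat.le_of_dvd two_pos hidx)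
      _ = 4 := rfl
  let ρ : MulAut R →* Equiv.Perm (R ⧸ Φ) :=
    { toFun := fun a => (QuotientGroup.congr Φ Φ a
        (Subgroup.characteristic_iff_map_eq.1 inferInstance a)).toEquiv
      map_one' := Equiv.ext fun x => by obtain ⟨y, rfl⟩ := QuotientGroup.mk_surjective x; rfl
      map_mul' := fun a b => Equiv.ext fun x => by
        obtain ⟨y, rfl⟩ := QuotientGroup.mk_surjective x; rfl }
  have hρ : ρ (α ^ 3) = 1 := by
    haveI := Fintype.ofFinite (R ⧸ Φ)
    rw [map_pow, ← orderOf_dvd_iff_pow_eq_one]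
    have h1 : orderOf (ρ α) ∣ (Fintype.card (R ⧸ Φ)).factorial := by
      rw [← Fintype.card_perm]; exact orderOf_dvd_card
    rw [← Nat.card_eq_fintype_card] at h1
    have h2 : orderOf (ρ α) ∣ 24 :=
      h1.trans (Nat.factorial_dvd_factorial hle)
    have h3 : Odd (orderOf (ρ α)) := hα.of_dvd_nat (orderOf_map_dvd ρ α)
    exact (Nat.Coprime.pow_right 3 (Nat.coprime_two_right.2 h3)).dvd_of_dvd_mul_left
      (show orderOf (ρ α) ∣ 2 ^ 3 * 3 from h2)
  have hmem : α ^ 3 ∈ Cfsg.Lib.PGroup.frattiniStab R := fun x => by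
    have h1 : ((α ^ 3) x : R ⧸ Φ) = (x : R ⧸ Φ) := Equiv.ext_iff.1 hρ x
    exact QuotientGroup.eq.1 h1.symm
  obtain ⟨j, hj⟩ := IsPGroup.iff_orderOf.1 (Cfsg.Lib.PGroup.isPGroup_frattiniStab hR) ⟨_, hmem⟩
  rw [Subgroup.orderOf_mk] at hj
  have h4 : Odd (orderOf (α ^ 3)) := hα.of_dvd_nat (orderOf_pow_dvd 3)
  rcases Nat.eq_zero_or_pos j with rfl | hj0
  · exact orderOf_eq_one_iff.1 (by rw [hj, pow_zero])
  · rw [hj, Nat.odd_pow_iff hj0.ne'] at h4
    exact absurd h4 (by decide)

/-- Automorphisms of odd order of a cyclic 2-group are trivial. -/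
theorem eq_one_of_cyclic {R : Type*} [Group R] [Finite R] [IsCyclic R] (hR : IsPGroup 2 R)
    {α : MulAut R} (hα : Odd (orderOf α)) : α = 1 := by
  obtain ⟨j, hj⟩ := IsPGroup.iff_card.1 hR
  have h1 : orderOf α ∣ Nat.totient (2 ^ j) := by
    rw [← hj, ← IsCyclic.card_mulAut]
    exact _root_.orderOf_dvd_natCard α
  have h2 : Nat.totient (2 ^ j) ∣ 2 ^ j := by
    rcases Nat.eq_zero_or_pos j with rfl | hj0
    · simp
    · rw [Nat.totient_prime_pow Nat.prime_two hj0]
      simpa using Nat.pow_dvd_pow 2 (Nat.sub_le j 1)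
  exact orderOf_eq_one_iff.1
    (((Nat.coprime_two_right.2 hα).pow_right j).eq_one_of_dvd (h1.trans h2))

/-- Automorphisms of odd order of a semidihedral group are trivial. -/
theorem eq_one_of_quasiDihedral {R : Type*} [Group R] [Finite R] (hR : IsPGroup 2 R)
    (h : Cfsg.IsQuasiDihedral R) {α : MulAut R} (hα : Odd (orderOf α)) : α = 1 := by
  obtain ⟨j, hj⟩ := IsPGroup.iff_orderOf.1 (Cfsg.Lib.DihedralAut.isPGroup_mulAut_quasiDihedral hR h) α
  rcases Nat.eq_zero_or_pos j with rfl | hj0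
  · exact orderOf_eq_one_iff.1 (by rw [hj, pow_zero])
  · rw [hj, Nat.odd_pow_iff hj0.ne'] at hα
    exact absurd hα (by decide)

/-- The local lemma. -/
theorem sylow_normalizes {X : Type u} [Group X] [Finite X] (h2 : TwoHalf X) {r : ℕ} [hr : Fact r.Prime]
    (hr2 : r ≠ 2) (hcyc : ∀ P : Sylow r X, IsCyclic (P : Subgroup X)) {u : X} (hu : orderOf u = r)
    (huc : u ∈ center X) :
    ∃ (R : Sylow 2 X) (P : Sylow r X), (P : Subgroup X) ≤ normalizer ((R : Subgroup X) : Set X) ∧
      (∀ x ∈ (P : Subgroup X), ∀ y ∈ (R : Subgroup X), x ^ 3 * y = y * x ^ 3) ∧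
      ((IsCyclic (R : Subgroup X) ∨ Cfsg.IsQuasiDihedral (R : Subgroup X)) →
        ∀ x ∈ (P : Subgroup X), ∀ y ∈ (R : Subgroup X), x * y = y * x) := by
  haveI : Fact (Nat.Prime 2) := ⟨Nat.prime_two⟩
  let P₀ : Sylow r X := Classical.arbitrary _
  haveI := hcyc P₀
  -- the normal complement
  have hNC : normalizer ((P₀ : Subgroup X) : Set X) ≤ centralizer ((P₀ : Subgroup X) : Set X) := by
    rcases Sylow.normalizer_le_centralizer_or_le_commutator P₀ with h | h
    · exact h
    exfalso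
    have huP : u ∈ (P₀ : Subgroup X) := by
      have hz : IsPGroup r (zpowers u) := IsPGroup.of_card (n := 1) (by rw [Nat.card_zpowers, hu, pow_one])
      obtain ⟨T, hT⟩ := hz.exists_le_sylow
      obtain ⟨g, hg⟩ := MulAction.exists_smul_eq X T P₀
      have hmem : MulAut.conj g u ∈ (P₀ : Subgroup X) := by
        rw [← hg, Sylow.coe_subgroup_smul, ← MulAut.smul_def]
        exact smul_mem_pointwise_smul u _ _ (hT (mem_zpowers u))
      rwa [MulAut.conj_apply, mem_center_iff.1 huc g, mul_inv_cancel_right] at hmem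
    open scoped IsMulCommutative in
    haveI : IsMulCommutative (P₀ : Subgroup X) := IsCyclic.isMulCommutative
    let φ : (P₀ : Subgroup X) →* Abelianization (P₀ : Subgroup X) := Abelianization.of
    have key : ∀ (k : ℕ) (g₀ : X), g₀⁻¹ * u ^ k * g₀ ∈ (P₀ : Subgroup X) → g₀⁻¹ * u ^ k * g₀ = u ^ k :=
      fun k g₀ _ => by
        rw [mul_assoc, ← mem_center_iff.1 ((center X).pow_mem huc k) g₀, inv_mul_cancel_left]
    have h1 := MonoidHom.transfer_eq_pow φ u key
    rw [MonoidHom.mem_ker.1 (Abelianization.commutator_subset_ker (MonoidHom.transfer φ) (h huP))] at h1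
    have h2' : (⟨u ^ (P₀ : Subgroup X).index, MonoidHom.transfer_eq_pow_aux u key⟩ : (P₀ : Subgroup X)) ∈
        commutator ↥(P₀ : Subgroup X) := by
      rw [← Abelianization.ker_of (P₀ : Subgroup X), MonoidHom.mem_ker]
      exact h1.symm
    have hbot : commutator ↥(P₀ : Subgroup X) = ⊥ := by
      rw [_root_.commutator_def, eq_bot_iff, commutator_le]
      intro a _ b _
      rw [mem_bot, commutatorElement_eq_one_iff_mul_comm]
      exact IsMulCommutative.is_comm.comm a b
    rw [hbot, mem_bot] at h2'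
    have h3 : orderOf u ∣ (P₀ : Subgroup X).index := orderOf_dvd_of_pow_eq_one (congrArg Subtype.val h2')
    rw [hu] at h3
    exact P₀.not_dvd_index h3
  set M := (MonoidHom.transferSylow P₀ hNC).ker with hM
  have hMc : M.IsComplement' (P₀ : Subgroup X) := MonoidHom.ker_transferSylow_isComplement' P₀ hNC
  obtain ⟨e, he⟩ := IsPGroup.iff_card.1 P₀.2
  have hMi : M.index = r ^ e := by rw [hMc.symm.index_eq_card, he]
  -- a Sylow 2-subgroup of `M`
  let S : Sylow 2 M := Classical.arbitrary _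
  set R₀ : Subgroup X := (S : Subgroup M).map M.subtype with hR₀
  have hR₀i : ¬ 2 ∣ R₀.index := by
    rw [hR₀, index_map_subtype]
    intro hd
    rcases Nat.prime_two.dvd_mul.1 hd with h | h
    · exact S.not_dvd_index h
    · rw [hMi] at h
      exact hr2 ((Nat.prime_dvd_prime_iff_eq Nat.prime_two hr.out).1 (Nat.prime_two.dvd_of_dvd_pow h)).symm
  have hR₀p : IsPGroup 2 R₀ := S.2.map _
  let R : Sylow 2 X := hR₀p.toSylow hR₀i
  have hRc : (R : Subgroup X) = R₀ := hR₀p.toSylow_coe hR₀i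
  -- Frattini
  have hN : ¬ r ∣ (normalizer (R₀ : Set X)).index := by
    intro hd
    have htop : normalizer (R₀ : Set X) ⊔ M = ⊤ := Sylow.normalizer_sup_eq_top S
    have h1 : (normalizer (R₀ : Set X)).index ∣ Nat.card M := by
      have h2 := Cfsg.Lib.Core.card_sup_dvd_mul (normalizer (R₀ : Set X)) M
      rw [htop, card_top, ← card_mul_index (normalizer (R₀ : Set X))] at h2
      exact Nat.dvd_of_mul_dvd_mul_left Nat.card_pos h2
    have h3 : ¬ r ∣ Nat.card M := by
      rw [hM]; exact MonoidHom.not_dvd_card_ker_transferSylow P₀ hNC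
    exact h3 (hd.trans h1)
  let P₁ : Sylow r (normalizer (R₀ : Set X)) := Classical.arbitrary _
  have hP₁i : ¬ r ∣ ((P₁ : Subgroup (normalizer (R₀ : Set X))).map (normalizer (R₀ : Set X)).subtype).index := by
    rw [index_map_subtype]
    intro hd
    rcases hr.out.dvd_mul.1 hd with h | h
    · exact P₁.not_dvd_index h
    · exact hN h
  let P : Sylow r X := (P₁.2.map _).toSylow hP₁i
  have hPc : (P : Subgroup X) = (P₁ : Subgroup (normalizer (R₀ : Set X))).map
      (normalizer (R₀ : Set X)).subtype := IsPGroup.toSylow_coe _ hP₁i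
  have hPn : (P : Subgroup X) ≤ normalizer ((R : Subgroup X) : Set X) := by
    rw [hPc, hRc]; exact map_subtype_le _
  refine ⟨R, P, hPn, ?_, ?_⟩
  all_goals
    have hodd : ∀ x (hx : x ∈ (P : Subgroup X)),
        Odd (orderOf ((R : Subgroup X).normalizerMonoidHom ⟨x, hPn hx⟩)) := fun x hx => by
      obtain ⟨j, hj⟩ := IsPGroup.iff_orderOf.1 P.2 ⟨x, hx⟩
      rw [Subgroup.orderOf_mk] at hj
      refine Odd.of_dvd_nat ?_ ((orderOf_map_dvd _ _).trans (dvd_of_eq ((Subgroup.orderOf_mk x _).trans hj)))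
      exact (hr.out.odd_of_ne_two hr2).pow
    have hcomm : ∀ x (hx : x ∈ (P : Subgroup X)) (n : ℕ),
        ((R : Subgroup X).normalizerMonoidHom ⟨x, hPn hx⟩) ^ n = 1 →
          ∀ y ∈ (R : Subgroup X), x ^ n * y = y * x ^ n := fun x hx n h y hy => by
      rw [← map_pow] at h
      have h1 := congrArg Subtype.val (DFunLike.congr_fun h ⟨y, hy⟩)
      change x ^ n * y * (x ^ n)⁻¹ = y at h1
      exact mul_inv_eq_iff_eq_mul.1 h1
  · intro x hx
    exact hcomm x hx 3 (cube_eq_one R.2 (h2 _ R.2) (hodd x hx))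
  · intro h x hx y hy
    have h1 : (R : Subgroup X).normalizerMonoidHom ⟨x, hPn hx⟩ = 1 := by
      rcases h with h | h
      · exact eq_one_of_cyclic R.2 (hodd x hx)
      · exact eq_one_of_quasiDihedral R.2 h (hodd x hx)
    simpa using hcomm x hx 1 (by rw [pow_one, h1]) y hy

end Cfsg.Lib.AlmostCyc
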