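import Cfsg.Agent.Lib.AlmostCyc.SDLocal
import Mathlib

/-!
# Semidihedral exclusion: no group of order 85680, and the core

Counting products of involutions inverting Sylow 17-subgroups; Burnside for the core.
-/

set_option autoImplicit false
set_option linter.style.haveILetI false
set_option maxHeartbeats 600000

namespace Cfsg.Lib.AlmostCyc.SDKill

open Subgroup MulAction
open scoped commutatorElement

universe u

theorem sylow_count : ∀ j : Fin 297, 5040 % (17 * (j : ℕ) + 1) = 0 →
    (j : ℕ) = 0 ∨ (j : ℕ) = 1 ∨ (j : ℕ) = 2 ∨ (j : ℕ) = 7 ∨ (j : ℕ) = 37 := by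
  decide +kernel

variable {T : Type u} [Group T] [Finite T] [IsSimpleGroup T]

/-- The number of involutions. -/
theorem card_involutions (hna : ¬ IsMulCommutative T) (S : Sylow 2 T) {n : ℕ}
    (d : Cfsg.Lib.TwoGroup.SD (S : Subgroup T) n) :
    Nat.card {x : T // orderOf x = 2} = (centralizer ({(d.z : T)} : Set T)).index := by
  have hz : orderOf (d.z : T) = 2 := by rw [orderOf_coe, d.orderOf_z]
  symm
  refine Nat.card_congr (Equiv.ofBijective (fun q : T ⧸ centralizer ({(d.z : T)} : Set T) =>
    Quotient.liftOn' q (fun g => (⟨g * (d.z : T) * g⁻¹, by rw [Cfsg.Lib.Invol.orderOf_conj_eq, hz]⟩ :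
      {x : T // orderOf x = 2})) ?_) ⟨?_, ?_⟩)
  · intro a b hab
    rw [QuotientGroup.leftRel_apply, mem_centralizer_singleton_iff] at hab
    apply Subtype.ext
    show a * (d.z : T) * a⁻¹ = b * (d.z : T) * b⁻¹
    calc a * (d.z : T) * a⁻¹ = a * ((d.z : T) * (a⁻¹ * b)) * b⁻¹ := by group
      _ = a * ((a⁻¹ * b) * (d.z : T)) * b⁻¹ := by rw [hab]
      _ = b * (d.z : T) * b⁻¹ := by group
  · intro q₁ q₂
    induction q₁ using Quotient.inductionOn' with
    | h a =>
    induction q₂ using Quotient.inductionOn' with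
    | h b =>
    intro hab
    apply Quotient.sound'
    rw [QuotientGroup.leftRel_apply, mem_centralizer_singleton_iff]
    have h : a * (d.z : T) * a⁻¹ = b * (d.z : T) * b⁻¹ := congrArg Subtype.val hab
    calc a⁻¹ * b * (d.z : T) = a⁻¹ * (b * (d.z : T) * b⁻¹) * b := by group
      _ = a⁻¹ * (a * (d.z : T) * a⁻¹) * b := by rw [h]
      _ = (d.z : T) * (a⁻¹ * b) := by group
  · rintro ⟨x, hx⟩
    obtain ⟨g, hg⟩ := SDLocal.conj_central hna S d hx
    refine ⟨QuotientGroup.mk g⁻¹, Subtype.ext ?_⟩
    show g⁻¹ * (d.z : T) * g⁻¹⁻¹ = x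
    rw [← hg]
    group

/-- An element centralizing a Sylow 17-subgroup with only one orbit on the others lies in it. -/
theorem mem_of_one_orbit (hna : ¬ IsMulCommutative T) {r : ℕ} [hr : Fact r.Prime] (P : Sylow r T)
    (hP : Nat.card (P : Subgroup T) = r) (hn : Nat.card (Sylow r T) = r + 1) {v : T}
    (hv : ∀ x ∈ (P : Subgroup T), v * x = x * v) : v ∈ (P : Subgroup T) := by
  classical
  haveI : Fintype (Sylow r T) := Fintype.ofFinite _
  haveI : Fintype (P : Subgroup T) := Fintype.ofFinite _
  have hfix : ∀ w : T, (∀ x ∈ (P : Subgroup T), w * x = x * w) → w • P = P := fun w hw => by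
    rw [Sylow.smul_eq_iff_mem_normalizer]
    exact centralizer_le_normalizer _ (mem_centralizer_iff.2 fun x hx => (hw x hx).symm)
  have hPP : ∀ p : (P : Subgroup T), (p : T) • P = P := fun p =>
    Sylow.smul_eq_iff_mem_normalizer.2 (le_normalizer p.2)
  obtain ⟨Q, hQ⟩ : ∃ Q : Sylow r T, Q ≠ P := by
    by_contra hc
    push Not at hc
    haveI : Subsingleton (Sylow r T) := ⟨fun a b => (hc a).trans (hc b).symm⟩
    rw [Nat.card_eq_one_iff_unique.2 ⟨inferInstance, ⟨P⟩⟩] at hn
    have := hr.out.two_le
    omega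
  let f : ↥(P : Subgroup T) → {R : Sylow r T // R ≠ P} := fun p => ⟨(p : T) • Q, fun h => hQ (by
    have h2 : (p : T) • Q = (p : T) • P := h.trans (hPP p).symm
    exact smul_left_cancel _ h2)⟩
  have hinj : Function.Injective f := by
    intro a b hab
    have h1 : ((b⁻¹ * a : (P : Subgroup T)) : T) • Q = Q := by
      have h := congrArg Subtype.val hab
      rw [coe_mul, coe_inv, mul_smul]
      show (b : T)⁻¹ • (a : T) • Q = Q
      rw [show (a : T) • Q = (b : T) • Q from h, inv_smul_smul]
    by_contra hne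
    have hne' : b⁻¹ * a ≠ 1 := fun h => hne (inv_mul_eq_one.1 h).symm
    haveI : Fact (Nat.card (P : Subgroup T)).Prime := ⟨hP.symm ▸ hr.out⟩
    have htop : zpowers (b⁻¹ * a : (P : Subgroup T)) = ⊤ :=
      (Subgroup.eq_bot_or_eq_top_of_prime_card _).resolve_left fun h => hne' (zpowers_eq_bot.1 h)
    have hle : (P : Subgroup T) ≤ normalizer ((Q : Subgroup T) : Set T) := fun x hx => by
      obtain ⟨k, hk⟩ : (⟨x, hx⟩ : (P : Subgroup T)) ∈ zpowers (b⁻¹ * a) := htop ▸ mem_top _
      have h2 : x = ((b⁻¹ * a : (P : Subgroup T)) : T) ^ k := by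
        rw [← coe_zpow]; exact congrArg Subtype.val hk.symm
      rw [h2]
      exact zpow_mem (Sylow.smul_eq_iff_mem_normalizer.1 h1) k
    haveI e := Sylow.unique_of_normal (Q.subtype (le_normalizer (H := (Q : Subgroup T)))) (by
        rw [Sylow.coe_subtype]
        exact inferInstance)
    have h3 := Subsingleton.elim (P.subtype hle) (Q.subtype (le_normalizer (H := (Q : Subgroup T))))
    have h4 : (P : Subgroup T) = (Q : Subgroup T) := by
      refine (map_subgroupOf_eq_of_le hle).symm.trans ?_
      rw [← P.coe_subtype hle, h3, Sylow.coe_subtype,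
        map_subgroupOf_eq_of_le (le_normalizer (H := (Q : Subgroup T)))]
    exact hQ (Sylow.ext h4).symm
  have hcard : Fintype.card (P : Subgroup T) = Fintype.card {R : Sylow r T // R ≠ P} := by
    rw [← Nat.card_eq_fintype_card, hP, Fintype.card_subtype_compl, Fintype.card_subtype_eq,
      ← Nat.card_eq_fintype_card, hn]
    omega
  have hsurj : Function.Surjective f := ((Fintype.bijective_iff_injective_and_card f).2 ⟨hinj, hcard⟩).2
  have hvQ : v • Q ≠ P := fun h => hQ (by
    have h2 : v • Q = v • P := h.trans (hfix v hv).symm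
    exact smul_left_cancel _ h2)
  obtain ⟨w, hw⟩ := hsurj ⟨v • Q, hvQ⟩
  have hw' : (w : T) • Q = v • Q := congrArg Subtype.val hw
  have hker : ∀ R : Sylow r T, ((w : T)⁻¹ * v) • R = R := by
    intro R
    by_cases hR : R = P
    · subst hR
      rw [mul_smul, hfix v hv]
      exact hPP w⁻¹
    · obtain ⟨p, hp⟩ := hsurj ⟨R, hR⟩
      have hp' : (p : T) • Q = R := congrArg Subtype.val hp
      haveI : IsCyclic (P : Subgroup T) := isCyclic_of_prime_card hP
      have hc : (w : T) * p = p * w := congrArg Subtype.val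
        ((IsCyclic.isMulCommutative (α := (P : Subgroup T))).is_comm.comm w p)
      rw [← hp', mul_smul, ← mul_smul v, hv p p.2, mul_smul, ← hw', ← mul_smul (p : T), ← hc, mul_smul,
        inv_smul_smul]
  have hmem : (w : T)⁻¹ * v ∈ (MulAction.toPermHom T (Sylow r T)).ker := by
    rw [MonoidHom.mem_ker]
    exact Equiv.ext hker
  rcases Subgroup.Normal.eq_bot_or_eq_top (MonoidHom.normal_ker (MulAction.toPermHom T (Sylow r T))) with h | h
  · rw [h, mem_bot, inv_mul_eq_one] at hmem
    exact hmem ▸ w.2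
  · exfalso
    have hPn : normalizer ((P : Subgroup T) : Set T) = ⊤ := eq_top_iff.2 fun g _ => by
      have h1 : MulAction.toPermHom T (Sylow r T) g = 1 := MonoidHom.mem_ker.1 (h ▸ mem_top g)
      exact Sylow.smul_eq_iff_mem_normalizer.1 (Equiv.ext_iff.1 h1 P)
    have := Sylow.card_eq_index_normalizer P
    rw [hn] at this
    erw [hPn, index_top] at this
    have := hr.out.two_le
    omega

/-- No group of order 85680 with involution centralizers of order 240. -/
theorem false_of_order (hna : ¬ IsMulCommutative T) (S : Sylow 2 T) {n : ℕ}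
    (d : Cfsg.Lib.TwoGroup.SD (S : Subgroup T) n) (hg : Nat.card T = 85680)
    (hK : Nat.card (centralizer ({(d.z : T)} : Set T)) = 240) : False := by
  classical
  haveI : Fact (Nat.Prime 17) := ⟨by norm_num⟩
  haveI : Fact (Nat.Prime 2) := ⟨Nat.prime_two⟩
  let P : Sylow 17 T := Classical.arbitrary _
  have hP17 : ∀ Q : Sylow 17 T, Nat.card (Q : Subgroup T) = 17 := fun Q => by
    rw [Sylow.card_eq_multiplicity, hg, Nat.factorization_def _ (by norm_num)]
    have : padicValNat 17 85680 = 1 := by
      rw [show (85680 : ℕ) = 17 ^ 1 * 5040 by norm_num, padicValNat.mul (by norm_num) (by norm_num),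
        padicValNat.prime_pow, padicValNat.eq_zero_of_not_dvd (by norm_num)]
    rw [this, pow_one]
  set N := normalizer ((P : Subgroup T) : Set T) with hN
  set Z := centralizer ((P : Subgroup T) : Set T) with hZ
  have hPN : (P : Subgroup T) ≤ N := le_normalizer
  have hNi : N.index = Nat.card (Sylow 17 T) := (Sylow.card_eq_index_normalizer P).symm
  have hNc : Nat.card N * Nat.card (Sylow 17 T) = 85680 := by rw [← hNi, card_mul_index, hg]
  -- the centralizer is odd
  have hZodd : ∀ x ∈ Z, orderOf x ≠ 2 := fun x hx h => by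
    have hle : (P : Subgroup T) ≤ centralizer ({x} : Set T) := fun y hy =>
      mem_centralizer_singleton_iff.2 (mem_centralizer_iff.1 hx y hy)
    have := card_dvd_of_le hle
    rw [hP17, SDLocal.card_centralizer_involution hna S d h, hK] at this
    norm_num at this
  have hZ2 : ¬ 2 ∣ Nat.card Z := fun h => by
    obtain ⟨x, hx⟩ := exists_prime_orderOf_dvd_card' 2 h
    exact hZodd x x.2 (by rw [orderOf_coe, hx])
  have hZN : Z ≤ N := centralizer_le_normalizer _
  haveI : Fact (Nat.card (P : Subgroup T)).Prime := ⟨by rw [hP17]; norm_num⟩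
  haveI hPcyc : IsCyclic (P : Subgroup T) := isCyclic_of_prime_card (hP17 P)
  haveI : Finite (MulAut (P : Subgroup T)) :=
    Finite.of_injective (fun φ : MulAut (P : Subgroup T) => (φ : ↥(P : Subgroup T) → ↥(P : Subgroup T)))
      DFunLike.coe_injective
  let ψ : N →* MulAut (P : Subgroup T) := (P : Subgroup T).normalizerMonoidHom
  have hψk : ∀ x : N, x ∈ ψ.ker ↔ (x : T) ∈ Z := fun x => by
    rw [show ψ.ker = (centralizer ((P : Subgroup T) : Set T)).subgroupOf N from
      (P : Subgroup T).normalizerMonoidHom_ker, mem_subgroupOf]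
  have hi : (Z.subgroupOf N).index ∣ 16 := by
    have h1 : Z.subgroupOf N = ψ.ker := by ext x; rw [hψk]; rfl
    rw [h1, index_ker]
    have h2 := card_subgroup_dvd_card ψ.range
    rwa [IsCyclic.card_mulAut, hP17, Nat.totient_prime (by norm_num)] at h2
  have hZc : Nat.card Z * (Z.subgroupOf N).index = Nat.card N := by
    rw [← Nat.card_congr (subgroupOfEquivOfLe hZN).toEquiv, card_mul_index]
  have hPdvd : 17 ∣ Nat.card N := hP17 P ▸ card_dvd_of_le hPN
  have hn1 : Nat.card (Sylow 17 T) ≠ 1 := fun h => by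
    haveI : Subsingleton (Sylow 17 T) := (Nat.card_eq_one_iff_unique.1 h).1
    have hn := P.normal_of_subsingleton
    rcases Subgroup.Normal.eq_bot_or_eq_top hn with h' | h'
    · have := hP17 P
      rw [h', card_bot] at this
      omega
    · have := hP17 P
      rw [h', card_top, hg] at this
      omega
  obtain ⟨j, hj⟩ : ∃ j, Nat.card (Sylow 17 T) = 17 * j + 1 := by
    have := card_sylow_modEq_one 17 T
    refine ⟨Nat.card (Sylow 17 T) / 17, ?_⟩
    have h2 : Nat.card (Sylow 17 T) % 17 = 1 := this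
    omega
  have hdvd : (17 * j + 1) ∣ 5040 := by
    obtain ⟨c, hc⟩ := hPdvd
    rw [hc, hj] at hNc
    exact ⟨c, by
      have : 17 * (c * (17 * j + 1)) = 17 * 5040 := by rw [← mul_assoc, hNc]
      rw [mul_comm]; omega⟩
  have hj297 : j < 297 := by
    have := Nat.le_of_dvd (by norm_num) hdvd
    omega
  rcases sylow_count ⟨j, hj297⟩ (Nat.mod_eq_zero_of_dvd hdvd) with h | h | h | h | h <;>
    simp only at h <;> subst h
  · exact hn1 hj
  · -- eighteen
    have hNv : Nat.card N = 4760 := by rw [hj] at hNc; omega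
    have h7 : 7 ∣ Nat.card Z := by
      have : 7 ∣ Nat.card Z * (Z.subgroupOf N).index := by rw [hZc, hNv]; norm_num
      rcases (Nat.Prime.dvd_mul (by norm_num : Nat.Prime 7)).1 this with h | h
      · exact h
      · have := h.trans hi
        norm_num at this
    haveI : Fact (Nat.Prime 7) := ⟨by norm_num⟩
    obtain ⟨v, hv⟩ := exists_prime_orderOf_dvd_card' 7 h7
    have hvP := mem_of_one_orbit hna P (hP17 P) hj
      (fun x hx => (mem_centralizer_iff.1 v.2 x hx).symm)
    have := Subgroup.orderOf_dvd_natCard _ hvP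
    rw [hP17, orderOf_coe, hv] at this
    norm_num at this
  · -- thirty five
    have hNv : Nat.card N = 2448 := by rw [hj] at hNc; omega
    obtain ⟨R, hR⟩ := Sylow.exists_subgroup_card_pow_prime (G := N) 2 (n := 4) (by rw [hNv]; norm_num)
    have hRT : IsPGroup 2 (R.map N.subtype) := (IsPGroup.of_card hR).map _
    obtain ⟨R', hR'⟩ := hRT.exists_le_sylow
    have hS16 : Nat.card (S : Subgroup T) = 16 := by
      rw [Sylow.card_eq_multiplicity, hg, Nat.factorization_def _ (by norm_num)]
      have : padicValNat 2 85680 = 4 := by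
        rw [show (85680 : ℕ) = 2 ^ 4 * 5355 by norm_num, padicValNat.mul (by norm_num) (by norm_num),
          padicValNat.prime_pow, padicValNat.eq_zero_of_not_dvd (by norm_num)]
      rw [this]; norm_num
    have heq : R.map N.subtype = (R' : Subgroup T) := eq_of_le_of_card_ge hR' (by
      rw [card_map_of_injective N.subtype_injective, hR, Nat.card_congr (R'.equiv S).toEquiv, hS16]; norm_num)
    have hinj : Function.Injective (ψ.comp R.subtype) := by
      rw [injective_iff_map_eq_one]
      intro x hx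
      have h1 : ((x : N) : T) ∈ Z := (hψk x).1 hx
      obtain ⟨i, hi'⟩ := IsPGroup.iff_orderOf.1 (IsPGroup.of_card hR) x
      by_contra hne
      rcases Nat.eq_zero_or_pos i with rfl | hi0
      · exact hne (orderOf_eq_one_iff.1 (by rw [hi', pow_zero]))
      · refine hZ2 ((dvd_pow_self 2 hi0.ne').trans ?_)
        rw [← hi', ← orderOf_coe, ← orderOf_coe]
        exact Subgroup.orderOf_dvd_natCard _ h1
    haveI : IsCyclic (MulAut (P : Subgroup T)) :=
      isCyclic_of_surjective (IsCyclic.mulAutMulEquiv (P : Subgroup T)).symm.toMonoidHom (MulEquiv.surjective _)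
    haveI : IsCyclic R := isCyclic_of_injective _ hinj
    haveI : IsCyclic (S : Subgroup T) := by
      haveI : IsCyclic (R' : Subgroup T) := heq ▸
        isCyclic_of_surjective (N.subtype.subgroupMap R) (N.subtype.subgroupMap_surjective R)
      exact isCyclic_of_surjective (R'.equiv S).toMonoidHom (R'.equiv S).surjective
    have hc := congrArg Subtype.val ((IsCyclic.isMulCommutative (α := (S : Subgroup T))).is_comm.comm d.y d.x)
    have hc' : d.y * d.x = d.x * d.y := Subtype.ext hc
    have h1 := d.conj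
    rw [hc', mul_inv_cancel_right] at h1
    have h2 : d.x ^ 1 = d.x ^ (2 ^ (n - 1) - 1) := by rw [pow_one]; exact h1
    rw [pow_inj_mod, d.hx] at h2
    have h3 := d.three_le
    obtain ⟨m, rfl⟩ : ∃ m, n = m + 3 := ⟨n - 3, by omega⟩
    have h4 : 2 ^ (m + 3) = 2 * 2 ^ (m + 2) := by rw [pow_succ]; ring
    have h5 : 4 ≤ 2 ^ (m + 2) := by
      calc 4 = 2 ^ 2 := rfl
        _ ≤ _ := Nat.pow_le_pow_right two_pos (by omega)
    rw [show m + 3 - 1 = m + 2 by omega, Nat.mod_eq_of_lt (by omega), Nat.mod_eq_of_lt (by omega)] at h2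
    omega
  all_goals
    -- counting pairs of involutions
    set I := {x : T // orderOf x = 2}
    have hI : Nat.card I = 357 := by
      rw [card_involutions hna S d]
      have := card_mul_index (centralizer ({(d.z : T)} : Set T))
      rw [hK, hg] at this
      omega
    have hcount : ∀ (m : ℕ), (∀ Q : Sylow 17 T, m ≤ Nat.card {x : I // ∀ u ∈ (Q : Subgroup T), (x : T) * u * (x : T)⁻¹ = u⁻¹}) →
        Nat.card (Sylow 17 T) * (16 * m) ≤ 357 * 357 := by
      intro m hm
      haveI : Fintype (Sylow 17 T) := Fintype.ofFinite _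
      let X := Σ Q : Sylow 17 T, {u : (Q : Subgroup T) // u ≠ 1} ×
        {x : I // ∀ u ∈ (Q : Subgroup T), (x : T) * u * (x : T)⁻¹ = u⁻¹}
      have hinv : ∀ w : X, orderOf ((w.2.2.1 : T) * ((w.2.1.1 : (w.1 : Subgroup T)) : T)) = 2 := by
        rintro ⟨Q, ⟨u, hu⟩, ⟨⟨j', hj'⟩, hx⟩⟩
        have h := hx u u.2
        refine Cfsg.Lib.Invol.orderOf_eq_two_of (fun he => ?_) ?_
        · have hju : j' = (u : T)⁻¹ := eq_inv_of_mul_eq_one_left he
          have h1 := Subgroup.orderOf_dvd_natCard (Q : Subgroup T) (x := j') (hju ▸ inv_mem u.2)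
          rw [hj', hP17] at h1
          norm_num at h1
        · show j' * (u : T) * (j' * (u : T)) = 1
          calc j' * (u : T) * (j' * (u : T)) = (j' * u * j'⁻¹) * (j' * j') * u := by group
            _ = 1 := by rw [Cfsg.Lib.Invol.inv_mul_self hj', mul_one, h, inv_mul_cancel]
      let F : X → I × I := fun w => (w.2.2.1, ⟨_, hinv w⟩)
      have hF : Function.Injective F := by
        rintro ⟨Q, ⟨u, hu⟩, ⟨x, hx⟩⟩ ⟨Q', ⟨u', hu'⟩, ⟨x', hx'⟩⟩ he
        have e1 : x = x' := congrArg Prod.fst he
        subst e1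
        have e2 : (x : T) * u = (x : T) * u' := congrArg Subtype.val (congrArg Prod.snd he)
        have e3 : (u : T) = u' := mul_left_cancel e2
        have hQ : (Q : Subgroup T) = (Q' : Subgroup T) := by
          have key : ∀ (R : Sylow 17 T) (w : (R : Subgroup T)), w ≠ 1 → zpowers (w : T) = (R : Subgroup T) := by
            intro R w hw
            refine eq_of_le_of_card_ge (zpowers_le.2 w.2) ?_
            rw [hP17, Nat.card_zpowers, orderOf_coe]
            have h1 := orderOf_dvd_natCard w
            rw [hP17] at h1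
            rcases (Nat.dvd_prime (by norm_num : Nat.Prime 17)).1 h1 with h | h
            · exact absurd (orderOf_eq_one_iff.1 h) hw
            · rw [h]
          rw [← key Q u hu, ← key Q' u' hu', e3]
        obtain rfl : Q = Q' := Sylow.ext hQ
        obtain rfl : u = u' := Subtype.ext e3
        rfl
      have h1 := Nat.card_le_card_of_injective F hF
      rw [Nat.card_prod, hI, Nat.card_sigma] at h1
      refine le_trans ?_ h1
      calc Nat.card (Sylow 17 T) * (16 * m) = ∑ _Q : Sylow 17 T, 16 * m := by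
            rw [Finset.sum_const, Finset.card_univ, ← Nat.card_eq_fintype_card, smul_eq_mul]
        _ ≤ _ := Finset.sum_le_sum fun Q _ => by
            rw [Nat.card_prod]
            refine Nat.mul_le_mul (le_of_eq ?_) (hm Q)
            haveI : Fintype (Q : Subgroup T) := Fintype.ofFinite _
            rw [Nat.card_eq_fintype_card, Fintype.card_subtype_compl, Fintype.card_subtype_eq,
              ← Nat.card_eq_fintype_card, hP17]
    -- inverting involutions
    have hbound : ∀ (z₀ e : ℕ), Nat.card Z = z₀ → Nat.gcd z₀ 240 ≤ e → ∀ Q : Sylow 17 T,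
        ∃ m, z₀ ≤ m * e ∧ m ≤ Nat.card {x : I // ∀ u ∈ (Q : Subgroup T), (x : T) * u * (x : T)⁻¹ = u⁻¹} := by
      intro z₀ e hz₀ he Q
      have h2N : 2 ∣ Nat.card N := by rw [hj] at hNc; omega
      obtain ⟨g, rfl⟩ := MulAction.exists_smul_eq T P Q
      obtain ⟨s, hs⟩ := exists_prime_orderOf_dvd_card' 2 h2N
      have hs2 : orderOf (s : T) = 2 := by rw [orderOf_coe, hs]
      have hss := Cfsg.Lib.Invol.inv_mul_self hs2
      have hinvert : ∀ u ∈ (P : Subgroup T), (s : T) * u * (s : T)⁻¹ = u⁻¹ := by
        intro u hu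
        set w := u * ((s : T) * u * (s : T)⁻¹) with hw
        have hsu : (s : T) * u * (s : T)⁻¹ ∈ (P : Subgroup T) := (mem_normalizer_iff.1 s.2 u).1 hu
        by_contra hne
        have hw1 : w ≠ 1 := fun h => hne (eq_inv_of_mul_eq_one_right h)
        have hcomm : u * ((s : T) * u * (s : T)⁻¹) = ((s : T) * u * (s : T)⁻¹) * u := congrArg Subtype.val
          ((IsCyclic.isMulCommutative (α := (P : Subgroup T))).is_comm.comm ⟨u, hu⟩ ⟨_, hsu⟩)
        have hsw : (s : T) * w = w * s := by
          rw [hw]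
          calc (s : T) * (u * (s * u * (s : T)⁻¹)) = (s * u * (s : T)⁻¹) * ((s : T) * s * u) * (s : T)⁻¹ := by group
            _ = (s * u * (s : T)⁻¹) * u * (s : T)⁻¹ := by rw [hss, one_mul]
            _ = u * (s * u * (s : T)⁻¹) * (s : T)⁻¹ := by rw [hcomm]
            _ = u * (s * u * (s : T)⁻¹) * s := by rw [Cfsg.Lib.Invol.inv_eq_self hs2]
        refine hZodd s (mem_centralizer_iff.2 fun y hy => ?_) hs2
        have hwP : w ∈ (P : Subgroup T) := mul_mem hu hsu
        have htop : zpowers (⟨w, hwP⟩ : (P : Subgroup T)) = ⊤ :=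
          (Subgroup.eq_bot_or_eq_top_of_prime_card _).resolve_left fun h => hw1
            (congrArg Subtype.val (zpowers_eq_bot.1 h))
        obtain ⟨k, hk⟩ : (⟨y, hy⟩ : (P : Subgroup T)) ∈ zpowers (⟨w, hwP⟩ : (P : Subgroup T)) := htop ▸ mem_top _
        have hyk : y = w ^ k := by
          have := congrArg Subtype.val hk.symm
          simpa using this
        rw [hyk]
        exact ((show Commute w (s : T) from hsw.symm).zpow_left k).eq
      let G' : Subgroup Z := (centralizer ({(s : T)} : Set T)).subgroupOf Z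
      refine ⟨G'.index, ?_, ?_⟩
      · have h1 := card_mul_index G'
        have h2 : Nat.card G' ∣ Nat.gcd z₀ 240 := by
          refine Nat.dvd_gcd (hz₀ ▸ card_subgroup_dvd_card G') ?_
          rw [← card_map_of_injective Z.subtype_injective]
          refine (card_dvd_of_le (K := centralizer ({(s : T)} : Set T)) ?_).trans (dvd_of_eq ?_)
          · rw [subgroupOf_map_subtype]; exact inf_le_left
          · rw [SDLocal.card_centralizer_involution hna S d hs2, hK]
        have h3 : Nat.card G' ≤ e := (Nat.le_of_dvd (Nat.gcd_pos_of_pos_right _ (by norm_num)) h2).trans he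
        rw [← hz₀, ← h1, mul_comm]
        exact Nat.mul_le_mul_left _ h3
      · have hdist : ∀ c₁ c₂ : Z, (g * c₁ * s * (g * c₁)⁻¹ = g * c₂ * s * (g * c₂)⁻¹) → c₁⁻¹ * c₂ ∈ G' := by
          intro c₁ c₂ h
          rw [mem_subgroupOf, mem_centralizer_singleton_iff]
          show ((c₁ : T))⁻¹ * c₂ * s = s * ((c₁ : T)⁻¹ * c₂)
          calc ((c₁ : T))⁻¹ * c₂ * s = (c₁ : T)⁻¹ * g⁻¹ * (g * c₂ * s * (g * c₂)⁻¹) * (g * c₂) := by group
            _ = (c₁ : T)⁻¹ * g⁻¹ * (g * c₁ * s * (g * c₁)⁻¹) * (g * c₂) := by rw [h]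
            _ = s * ((c₁ : T)⁻¹ * c₂) := by group
        let φ : Z ⧸ G' → {x : I // ∀ u ∈ ((g • P : Sylow 17 T) : Subgroup T), (x : T) * u * (x : T)⁻¹ = u⁻¹} :=
          fun q => ⟨⟨g * (q.out : T) * s * (g * (q.out : T))⁻¹, by rw [Cfsg.Lib.Invol.orderOf_conj_eq, hs2]⟩,
            fun u hu => by
              rw [Sylow.coe_subgroup_smul] at hu
              obtain ⟨v, hv, rfl⟩ := hu
              show g * (q.out : T) * s * (g * (q.out : T))⁻¹ * (g * v * g⁻¹) *
                (g * (q.out : T) * s * (g * (q.out : T))⁻¹)⁻¹ = (g * v * g⁻¹)⁻¹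
              have hcv : (q.out : T) * v = v * (q.out : T) := (mem_centralizer_iff.1 q.out.2 v hv).symm
              have hcv' : (q.out : T) * v⁻¹ = v⁻¹ * (q.out : T) := by
                rw [← inv_inj]; simp only [_root_.mul_inv_rev, inv_inv]
                calc v * (q.out : T)⁻¹ = (q.out : T)⁻¹ * ((q.out : T) * v) * (q.out : T)⁻¹ := by group
                  _ = (q.out : T)⁻¹ * (v * (q.out : T)) * (q.out : T)⁻¹ := by rw [hcv]
                  _ = (q.out : T)⁻¹ * v := by group
              calc g * (q.out : T) * s * (g * (q.out : T))⁻¹ * (g * v * g⁻¹) *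
                  (g * (q.out : T) * s * (g * (q.out : T))⁻¹)⁻¹
                  = g * (q.out : T) * s * ((q.out : T)⁻¹ * (v * (q.out : T))) * (s : T)⁻¹ * (q.out : T)⁻¹ * g⁻¹ := by group
                _ = g * (q.out : T) * s * ((q.out : T)⁻¹ * ((q.out : T) * v)) * (s : T)⁻¹ * (q.out : T)⁻¹ * g⁻¹ := by rw [hcv]
                _ = g * (q.out : T) * (s * v * (s : T)⁻¹) * (q.out : T)⁻¹ * g⁻¹ := by group
                _ = g * ((q.out : T) * v⁻¹) * (q.out : T)⁻¹ * g⁻¹ := by rw [hinvert v hv]; group
                _ = (g * v * g⁻¹)⁻¹ := by rw [hcv']; group⟩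
        refine Nat.card_le_card_of_injective φ fun q q' h => ?_
        rw [← q.out_eq', ← q'.out_eq', QuotientGroup.eq]
        exact hdist _ _ (congrArg (fun w : {x : I // _} => ((w : I) : T)) h)
  · -- 120
    have hNv : Nat.card N = 714 := by rw [hj] at hNc; omega
    have hZv : Nat.card Z = 357 := by
      rw [hNv] at hZc
      have hd : (Z.subgroupOf N).index ∣ 2 := by
        have h1 : (Z.subgroupOf N).index ∣ Nat.gcd 714 16 := Nat.dvd_gcd ⟨Nat.card Z, by rw [mul_comm]; exact hZc.symm⟩ hi
        norm_num at h1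
        exact h1
      rcases (Nat.dvd_prime Nat.prime_two).1 hd with h | h <;> rw [h] at hZc
      · exact absurd ⟨357, by omega⟩ hZ2
      · omega
    have h := hcount 119 fun Q => by
      obtain ⟨m, hm1, hm2⟩ := hbound 357 3 hZv (by norm_num) Q
      omega
    rw [hj] at h
    norm_num at h
  · -- 630
    have hNv : Nat.card N = 136 := by rw [hj] at hNc; omega
    have hZv : Nat.card Z = 17 := by
      rw [hNv] at hZc
      have hd : (Z.subgroupOf N).index ∣ 2 ^ 3 := by
        have h1 : (Z.subgroupOf N).index ∣ Nat.gcd 136 16 := Nat.dvd_gcd ⟨Nat.card Z, by rw [mul_comm]; exact hZc.symm⟩ hi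
        norm_num at h1 ⊢
        exact h1
      obtain ⟨i, hi3, hii⟩ := (Nat.dvd_prime_pow Nat.prime_two).1 hd
      rw [hii] at hZc
      interval_cases i
      · exact absurd ⟨68, by omega⟩ hZ2
      · exact absurd ⟨34, by omega⟩ hZ2
      · exact absurd ⟨17, by omega⟩ hZ2
      · omega
    have h := hcount 17 fun Q => by
      obtain ⟨m, hm1, hm2⟩ := hbound 17 1 hZv (by norm_num) Q
      omega
    rw [hj] at h
    norm_num at h

/-- The core has no prime divisor which is full in the group. -/
theorem false_of_core (hna : ¬ IsMulCommutative T) (hodd : OddCyc T) (S : Sylow 2 T) {n : ℕ}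
    (d : Cfsg.Lib.TwoGroup.SD (S : Subgroup T) n) {r : ℕ} [hr : Fact r.Prime] (hr2 : r ≠ 2)
    (hmin : (Nat.card (oddCore ↥(centralizer ({(d.z : T)} : Set T)))).minFac = r)
    (hfull : padicValNat r (Nat.card T) ≤ padicValNat r (Nat.card (oddCore ↥(centralizer ({(d.z : T)} : Set T)))))
    (hgen : ∀ c : ↥(centralizer ({(d.z : T)} : Set T)), ∃ o ∈ oddCore ↥(centralizer ({(d.z : T)} : Set T)),
      ∃ m : ↥(centralizer ({(d.z : T)} : Set T)),
        (∀ y ∈ oddCore ↥(centralizer ({(d.z : T)} : Set T)), m * y = y * m) ∧ c = o * m)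
    (hS : ∀ s ∈ (S : Subgroup T), ∀ y ∈ oddCore ↥(centralizer ({(d.z : T)} : Set T)),
      s * (y : T) = (y : T) * s)
    (hne : r ∣ Nat.card (oddCore ↥(centralizer ({(d.z : T)} : Set T)))) : False := by
  haveI : Fact (Nat.Prime 2) := ⟨Nat.prime_two⟩
  set C := centralizer ({(d.z : T)} : Set T) with hC
  set O := oddCore C with hO
  let P₀ : Sylow r O := Classical.arbitrary _
  let PT : Subgroup T := ((P₀ : Subgroup O).map O.subtype).map C.subtype
  have hPTp : IsPGroup r PT := (P₀.2.map _).map _
  have hPTc : Nat.card PT = r ^ padicValNat r (Nat.card O) := by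
    rw [card_map_of_injective C.subtype_injective, card_map_of_injective O.subtype_injective,
      Sylow.card_eq_multiplicity, Nat.factorization_def _ hr.out]
  have hPTi : ¬ r ∣ PT.index := fun hd => by
    have h1 := one_le_padicValNat_of_dvd index_ne_zero_of_finite hd
    have h2 := congrArg (padicValNat r) (card_mul_index PT)
    rw [padicValNat.mul Nat.card_pos.ne' index_ne_zero_of_finite, hPTc, padicValNat.prime_pow] at h2
    omega
  let P : Sylow r T := hPTp.toSylow hPTi
  have hPc : (P : Subgroup T) = PT := IsPGroup.toSylow_coe _ hPTi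
  have hPO : ∀ x ∈ (P : Subgroup T), ∃ y ∈ O, (y : T) = x := fun x hx => by
    rw [hPc] at hx
    obtain ⟨y, ⟨w, -, rfl⟩, rfl⟩ := hx
    exact ⟨w, w.2, rfl⟩
  have hSC : (S : Subgroup T) ≤ centralizer ((P : Subgroup T) : Set T) := fun s hs =>
    mem_centralizer_iff.2 fun x hx => by
      obtain ⟨y, hy, rfl⟩ := hPO x hx
      exact (hS s hs y hy).symm
  haveI : IsCyclic (P₀ : Subgroup O) := (hodd.subgroup C).subgroup O r hr.out hr2 _ P₀.2
  have hPN : normalizer ((P : Subgroup T) : Set T) ≤ centralizer ((P : Subgroup T) : Set T) := by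
    intro g hg
    set CP := centralizer ((P : Subgroup T) : Set T) with hCP
    -- conjugate `g S g⁻¹` back to `S` inside `CP`
    have hgS : (g • S : Sylow 2 T).1 ≤ CP := by
      rw [Sylow.coe_subgroup_smul]
      rintro _ ⟨s, hs, rfl⟩
      rw [hCP, mem_centralizer_iff]
      intro x hx
      have hx' : g⁻¹ * x * g ∈ (P : Subgroup T) := by
        have := (mem_normalizer_iff.1 ((normalizer _).inv_mem hg) x).1 hx
        rwa [inv_inv] at this
      have h := mem_centralizer_iff.1 (hSC hs) _ hx'
      show x * (g * s * g⁻¹) = g * s * g⁻¹ * x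
      calc x * (g * s * g⁻¹) = g * ((g⁻¹ * x * g) * s) * g⁻¹ := by group
        _ = g * (s * (g⁻¹ * x * g)) * g⁻¹ := by rw [h]
        _ = g * s * g⁻¹ * x := by group
    obtain ⟨c, hc⟩ := MulAction.exists_smul_eq CP ((g • S : Sylow 2 T).subtype hgS) (S.subtype hSC)
    have hcgS : (((c : T) * g) • S : Sylow 2 T) = S := by
      rw [Sylow.smul_subtype] at hc
      rw [mul_smul]
      exact Sylow.subtype_injective hc
    have hcgN : (c : T) * g ∈ normalizer ((S : Subgroup T) : Set T) := Sylow.smul_eq_iff_mem_normalizer.1 hcgS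
    -- hence in `C`
    have hcgC : (c : T) * g ∈ C := by
      have hzS : (c : T) * g * (d.z : T) * ((c : T) * g)⁻¹ ∈ (S : Subgroup T) :=
        (mem_normalizer_iff.1 hcgN _).1 d.z.2
      have hcent : (⟨_, hzS⟩ : (S : Subgroup T)) ∈ center (S : Subgroup T) := by
        rw [mem_center_iff]
        intro s
        apply Subtype.ext
        have hs' : ((c : T) * g)⁻¹ * s * ((c : T) * g) ∈ (S : Subgroup T) := by
          refine (mem_normalizer_iff.1 hcgN _).2 ?_
          simpa [mul_assoc] using s.2
        have h := congrArg Subtype.val (d.z_central ⟨_, hs'⟩).eq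
        show (s : T) * ((c : T) * g * (d.z : T) * ((c : T) * g)⁻¹) =
          (c : T) * g * (d.z : T) * ((c : T) * g)⁻¹ * s
        simp only [Subgroup.coe_mul] at h
        calc (s : T) * ((c : T) * g * (d.z : T) * ((c : T) * g)⁻¹)
            = (c : T) * g * ((((c : T) * g)⁻¹ * s * ((c : T) * g)) * d.z) * ((c : T) * g)⁻¹ := by group
          _ = (c : T) * g * ((d.z : T) * (((c : T) * g)⁻¹ * s * ((c : T) * g))) * ((c : T) * g)⁻¹ := by rw [h]
          _ = (c : T) * g * (d.z : T) * ((c : T) * g)⁻¹ * s := by group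
      rw [d.center_eq] at hcent
      obtain ⟨k, hk⟩ := hcent
      have hz2 : d.z ^ (2 : ℤ) = 1 := by rw [zpow_two]; exact Cfsg.Lib.Invol.inv_mul_self d.orderOf_z
      rcases Int.even_or_odd' k with ⟨i, rfl | rfl⟩
      · exfalso
        have h1 : (c : T) * g * (d.z : T) * ((c : T) * g)⁻¹ = 1 := by
          have h := congrArg Subtype.val hk.symm
          change _ = ((d.z ^ (2 * i) : (S : Subgroup T)) : T) at h
          rw [zpow_mul, hz2, one_zpow] at h
          exact h
        exact d.z_ne_one (Subtype.ext (conj_eq_one_iff.1 h1))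
      · have h1 : (c : T) * g * (d.z : T) * ((c : T) * g)⁻¹ = d.z := by
          have h := congrArg Subtype.val hk.symm
          change _ = ((d.z ^ (2 * i + 1) : (S : Subgroup T)) : T) at h
          rw [zpow_add, zpow_mul, hz2, one_zpow, one_mul, zpow_one] at h
          exact h
        exact mem_centralizer_singleton_iff.2 (mul_inv_eq_iff_eq_mul.1 h1)
    obtain ⟨o, ho, m, hm, hom⟩ := hgen ⟨_, hcgC⟩
    have hom' : (c : T) * g = (o : T) * (m : T) := congrArg Subtype.val hom
    have hmP : ∀ x ∈ (P : Subgroup T), (m : T) * x = x * (m : T) := fun x hx => by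
      obtain ⟨y, hy, rfl⟩ := hPO x hx
      exact congrArg Subtype.val (hm y hy)
    have hcgP : (c : T) * g ∈ normalizer ((P : Subgroup T) : Set T) :=
      (normalizer _).mul_mem (centralizer_le_normalizer _ c.2) hg
    have hoP : (o : T) ∈ normalizer ((P : Subgroup T) : Set T) := by
      have h1 : (o : T) = (c : T) * g * (m : T)⁻¹ := by rw [hom']; group
      rw [h1]
      exact (normalizer _).mul_mem hcgP ((normalizer _).inv_mem
        (centralizer_le_normalizer _ (mem_centralizer_iff.2 fun x hx => (hmP x hx).symm)))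
    have hoN : (⟨o, ho⟩ : O) ∈ normalizer ((P₀ : Subgroup O) : Set O) := by
      rw [mem_normalizer_iff]
      intro w
      have key : ∀ v : O, v ∈ (P₀ : Subgroup O) ↔ ((v : C) : T) ∈ (P : Subgroup T) := fun v => by
        rw [hPc]
        constructor
        · intro hv; exact mem_map_of_mem _ (mem_map_of_mem _ hv)
        · rintro ⟨y, ⟨v', hv', rfl⟩, hy⟩
          rwa [← Subtype.ext (Subtype.ext hy : (v' : C) = v)]
      rw [key, key]
      exact mem_normalizer_iff.1 hoP _
    have hoc : (⟨o, ho⟩ : O) ∈ centralizer ((P₀ : Subgroup O) : Set O) :=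
      IsCyclic.normalizer_le_centralizer hmin (P := P₀) inferInstance hoN
    have hocT : (o : T) ∈ centralizer ((P : Subgroup T) : Set T) := mem_centralizer_iff.2 fun x hx => by
      rw [hPc] at hx
      obtain ⟨y, ⟨w, hw, rfl⟩, rfl⟩ := hx
      exact congrArg (fun v : O => ((v : C) : T)) (mem_centralizer_iff.1 hoc w hw)
    have hg' : g = (c : T)⁻¹ * ((o : T) * (m : T)) := by rw [← hom']; group
    rw [hg']
    exact mul_mem (inv_mem c.2) (mul_mem hocT (mem_centralizer_iff.2 fun x hx => (hmP x hx).symm))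
  have hcompl := MonoidHom.ker_transferSylow_isComplement' P hPN
  have ha : 1 ≤ padicValNat r (Nat.card O) := one_le_padicValNat_of_dvd Nat.card_pos.ne' hne
  rcases Subgroup.Normal.eq_bot_or_eq_top (MonoidHom.normal_ker (MonoidHom.transferSylow P hPN)) with h | h
  · rw [h] at hcompl
    have h1 := Subgroup.isComplement'_bot_left.1 hcompl
    haveI := hodd r hr.out hr2 _ P.2
    haveI := IsCyclic.isMulCommutative (α := (P : Subgroup T))
    exact hna ⟨⟨fun a b => congrArg Subtype.val (IsMulCommutative.is_comm.comm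
      (⟨a, h1 ▸ mem_top a⟩ : (P : Subgroup T)) ⟨b, h1 ▸ mem_top b⟩)⟩⟩
  · rw [h] at hcompl
    have h1 := Subgroup.isComplement'_top_left.1 hcompl
    have h2 : Nat.card (P : Subgroup T) = 1 := by rw [h1, card_bot]
    rw [hPc, hPTc] at h2
    have := Nat.one_lt_pow (by omega : padicValNat r (Nat.card O) ≠ 0) hr.out.one_lt
    omega

end Cfsg.Lib.AlmostCyc.SDKill
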