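import Cfsg.Agent.Lib.Linear.AutPSL.FieldClass
import Cfsg.Agent.Lib.Linear.SLBasic
import Mathlib

/-!
# Semidihedral exclusion: centralizers in `PGL₂(q)` and in `SL₂(3)`

An involution of `PGL₂(q)` outside `PSL₂(q)` has centralizer of order `2 (q + ε)`, `ε ≡ q mod 4`.
-/

set_option autoImplicit false
set_option linter.style.haveILetI false
set_option maxHeartbeats 400000

namespace Cfsg.Lib.AlmostCyc.SDLinear

open Subgroup Matrix Cfsg.Lib.Linear.AutPSL Cfsg.Lib.Linear.Descent

variable {F : Type*} [Field F] [Fintype F]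

local notation "M2" => Matrix (Fin 2) (Fin 2) F
local notation "PSL2" => Matrix.ProjectiveSpecialLinearGroup (Fin 2) F

/-- Non-roots of the norm form. -/
abbrev NormUnits (d : F) : Type _ := {v : F × F // v.1 ^ 2 - d * v.2 ^ 2 ≠ 0}

open scoped Classical in
theorem card_normUnits_nonsquare {d : F} (hd : ¬ IsSquare d) :
    Nat.card (NormUnits d) = Fintype.card F ^ 2 - 1 := by
  rw [Nat.card_congr (Equiv.subtypeEquivRight (q := fun v : F × F => v ≠ 0) fun v => ?_),
    Nat.card_eq_fintype_card, Fintype.card_subtype_compl, Fintype.card_subtype_eq, Fintype.card_prod, sq]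
  constructor
  · rintro h rfl
    exact h (by simp)
  · intro h h0
    by_cases hb : v.2 = 0
    · rw [hb] at h0
      simp at h0
      exact h (Prod.ext h0 hb)
    · exact hd ⟨v.1 / v.2, by field_simp; linear_combination -h0⟩

open scoped Classical in
theorem card_normUnits_square {d e : F} (h2 : (2 : F) ≠ 0) (he : e ≠ 0) (hd : d = e * e) :
    Nat.card (NormUnits d) = (Fintype.card F - 1) ^ 2 := by
  have hu : Nat.card ({x : F // x ≠ 0} × {x : F // x ≠ 0}) = (Fintype.card F - 1) ^ 2 := by
    rw [Nat.card_prod, Nat.card_eq_fintype_card, Fintype.card_subtype_compl, Fintype.card_subtype_eq, sq]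
  rw [← hu]
  refine Nat.card_congr
    { toFun := fun v => (⟨v.1.1 - e * v.1.2, fun h => v.2 (by
          linear_combination (v.1.1 + e * v.1.2) * h - v.1.2 ^ 2 * hd)⟩,
        ⟨v.1.1 + e * v.1.2, fun h => v.2 (by
          linear_combination (v.1.1 - e * v.1.2) * h - v.1.2 ^ 2 * hd)⟩)
      invFun := fun w => ⟨((w.1.1 + w.2.1) / 2, (w.2.1 - w.1.1) / (2 * e)), by
        have : ((w.1.1 + w.2.1) / 2) ^ 2 - d * ((w.2.1 - w.1.1) / (2 * e)) ^ 2 = w.1.1 * w.2.1 := by
          rw [hd]; field_simp; ring
        rw [this]; exact mul_ne_zero w.1.2 w.2.2⟩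
      left_inv := fun v => Subtype.ext (Prod.ext (by dsimp only; field_simp; ring) (by dsimp only; field_simp; ring))
      right_inv := fun w => Prod.ext (Subtype.ext (by dsimp only; field_simp; ring))
        (Subtype.ext (by dsimp only; field_simp; ring)) }

/-- Invertible matrices commuting or anticommuting with `A`. -/
abbrev SemiCent (A : M2) : Type _ :=
  {B : GL (Fin 2) F // B.val * A = A * B.val ∨ B.val * A = -(A * B.val)}

theorem card_semiCent_companion (h2 : (2 : F) ≠ 0) {d : F} (hd : d ≠ 0) :
    Nat.card (SemiCent (!![0, d; 1, 0] : M2)) = 2 * Nat.card (NormUnits d) := by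
  have hc : ∀ v : NormUnits d, (!![v.1.1, d * v.1.2; v.1.2, v.1.1] : M2).det ≠ 0 := fun v => by
    rw [Matrix.det_fin_two_of]
    exact fun h => v.2 (by linear_combination h)
  have ha : ∀ v : NormUnits d, (!![v.1.1, -(d * v.1.2); v.1.2, -v.1.1] : M2).det ≠ 0 := fun v => by
    rw [Matrix.det_fin_two_of]
    exact fun h => v.2 (by linear_combination -h)
  let f : NormUnits d ⊕ NormUnits d → SemiCent (!![0, d; 1, 0] : M2) := fun s => match s with
    | Sum.inl v => ⟨Matrix.GeneralLinearGroup.mkOfDetNeZero _ (hc v), Or.inl (by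
        show (!![v.1.1, d * v.1.2; v.1.2, v.1.1] : M2) * _ = _ * !![v.1.1, d * v.1.2; v.1.2, v.1.1]
        rw [Matrix.mul_fin_two, Matrix.mul_fin_two]; simp [mul_comm])⟩
    | Sum.inr v => ⟨Matrix.GeneralLinearGroup.mkOfDetNeZero _ (ha v), Or.inr (by
        show (!![v.1.1, -(d * v.1.2); v.1.2, -v.1.1] : M2) * _ = -(_ * !![v.1.1, -(d * v.1.2); v.1.2, -v.1.1])
        rw [Matrix.mul_fin_two, Matrix.mul_fin_two]; simp [mul_comm])⟩
  have hf : Function.Bijective f := by
    constructor
    · intro s t hst
      have e := congrArg (fun B : SemiCent (!![0, d; 1, 0] : M2) => B.1.val) hst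
      have e00 := congrFun (congrFun e 0) 0
      have e10 := congrFun (congrFun e 1) 0
      have e11 := congrFun (congrFun e 1) 1
      have e01 := congrFun (congrFun e 0) 1
      rcases s with v | v <;> rcases t with w | w <;> simp [f] at e00 e10 e11 e01
      · exact congrArg Sum.inl (Subtype.ext (Prod.ext e00 e10))
      · exfalso
        have hv1 : v.1.1 = 0 := by
          have : (2 : F) * v.1.1 = 0 := by linear_combination e00 + e11
          exact (mul_eq_zero.1 this).resolve_left h2
        have hv2 : v.1.2 = 0 := by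
          have : (2 : F) * d * v.1.2 = 0 := by rw [← e10] at e01; linear_combination e01
          exact (mul_eq_zero.1 this).resolve_left (mul_ne_zero h2 hd)
        exact v.2 (by rw [hv1, hv2]; ring)
      · exfalso
        have hv1 : v.1.1 = 0 := by
          have : (2 : F) * v.1.1 = 0 := by linear_combination e00 - e11
          exact (mul_eq_zero.1 this).resolve_left h2
        have hv2 : v.1.2 = 0 := by
          have : (2 : F) * d * v.1.2 = 0 := by rw [← e10] at e01; linear_combination -e01
          exact (mul_eq_zero.1 this).resolve_left (mul_ne_zero h2 hd)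
        exact v.2 (by rw [hv1, hv2]; ring)
      · exact congrArg Sum.inr (Subtype.ext (Prod.ext e00 e10))
    · rintro ⟨B, hB⟩
      have hdet : B.val.det ≠ 0 := Matrix.GeneralLinearGroup.det_ne_zero B
      rw [Matrix.det_fin_two] at hdet
      rcases hB with hB | hB
      · have e1 : B.val 0 1 = d * B.val 1 0 := by
          have := congrFun (congrFun hB 0) 0; simp [Matrix.mul_apply, Matrix.neg_apply, Matrix.vecMul, dotProduct, Fin.sum_univ_two] at this; linear_combination this
        have e2 : B.val 1 1 = B.val 0 0 := by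
          have := congrFun (congrFun hB 1) 0; simp [Matrix.mul_apply, Matrix.neg_apply, Matrix.vecMul, dotProduct, Fin.sum_univ_two] at this; linear_combination this
        refine ⟨Sum.inl ⟨(B.val 0 0, B.val 1 0), fun h => hdet (by rw [e1, e2]; linear_combination h)⟩,
          Subtype.ext (Units.ext ?_)⟩
        ext i j; fin_cases i <;> fin_cases j <;> simp [f, e1, e2]
      · have e1 : B.val 0 1 = -(d * B.val 1 0) := by
          have := congrFun (congrFun hB 0) 0; simp [Matrix.mul_apply, Matrix.neg_apply, Matrix.vecMul, dotProduct, Fin.sum_univ_two] at this; linear_combination this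
        have e2 : B.val 1 1 = -B.val 0 0 := by
          have := congrFun (congrFun hB 1) 0; simp [Matrix.mul_apply, Matrix.neg_apply, Matrix.vecMul, dotProduct, Fin.sum_univ_two] at this; linear_combination this
        refine ⟨Sum.inr ⟨(B.val 0 0, B.val 1 0), fun h => hdet (by rw [e1, e2]; linear_combination -h)⟩,
          Subtype.ext (Units.ext ?_)⟩
        ext i j; fin_cases i <;> fin_cases j <;> simp [f, e1, e2]
  rw [← Nat.card_congr (Equiv.ofBijective f hf), Nat.card_sum, two_mul]

theorem card_semiCent_conj (P : GL (Fin 2) F) {A J : M2} (h : A * P.val = P.val * J) :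
    Nat.card (SemiCent A) = Nat.card (SemiCent J) := by
  have hA : A = P.val * J * (P⁻¹).val := by rw [← h, mul_assoc, Units.mul_inv, mul_one]
  have key : ∀ X Y : M2, (P⁻¹).val * X * P.val = (P⁻¹).val * Y * P.val ↔ X = Y := fun X Y =>
    ⟨fun e => by
      have := congrArg (fun Z => P.val * Z * (P⁻¹).val) e
      simpa [mul_assoc] using this, fun e => by rw [e]⟩
  refine Nat.card_congr ((MulAut.conj P⁻¹).toEquiv.subtypeEquiv fun B => ?_)
  have h1 : (P⁻¹).val * (B.val * A) * P.val = ((MulAut.conj P⁻¹) B).val * J := by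
    simp [hA, mul_assoc]
  have h2 : (P⁻¹).val * (A * B.val) * P.val = J * ((MulAut.conj P⁻¹) B).val := by
    simp [hA, mul_assoc]
  show _ ↔ ((MulAut.conj P⁻¹) B).val * J = J * ((MulAut.conj P⁻¹) B).val ∨
    ((MulAut.conj P⁻¹) B).val * J = -(J * ((MulAut.conj P⁻¹) B).val)
  rw [← h1, ← h2, key, show -((P⁻¹).val * (A * B.val) * P.val) = (P⁻¹).val * (-(A * B.val)) * P.val by simp, key]

/-- The centralizer in `PGL₂(q)` of an outer involution. -/
theorem card_centralizer_outer (hodd : Odd (Fintype.card F)) {A : GL (Fin 2) F}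
    (hsq : (innd A : MulAut PSL2) * innd A = 1)
    (hout : ∀ s : PSL2, (innd A : MulAut PSL2) ≠ MulAut.conj s) :
    (Fintype.card F % 4 = 1 → Nat.card ↥((innd : GL (Fin 2) F →* MulAut PSL2).range ⊓
      centralizer ({innd A} : Set (MulAut PSL2))) = 2 * (Fintype.card F + 1)) ∧
    (Fintype.card F % 4 = 3 → Nat.card ↥((innd : GL (Fin 2) F →* MulAut PSL2).range ⊓
      centralizer ({innd A} : Set (MulAut PSL2))) = 2 * (Fintype.card F - 1)) := by
  classical
  set q := Fintype.card F
  have h2 : (2 : F) ≠ 0 := by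
    intro h
    have h1 : ringChar F = 2 := by
      haveI : Fact (ringChar F).Prime := ⟨CharP.char_is_prime F _⟩
      have hd : ringChar F ∣ 2 := (ringChar.spec F 2).1 (by exact_mod_cast h)
      exact ((Nat.prime_dvd_prime_iff_eq Fact.out Nat.prime_two).1 hd)
    exact Nat.two_dvd_ne_zero.2 (Nat.odd_iff.1 hodd) (Nat.dvd_of_mod_eq_zero (FiniteField.even_card_of_char_two h1))
  rw [← map_mul] at hsq
  obtain ⟨c, hc⟩ := (innd_eq_one_iff le_rfl).1 hsq
  have hc' : A.val * A.val = (c : F) • (1 : M2) := by rw [← Units.val_mul, hc, sc_val]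
  have hns : ∀ a : Fˣ, A ≠ sc a := fun a ha => hout 1 (by rw [ha, innd_sc, map_one])
  have e00 := congrFun (congrFun hc' 0) 0
  have e01 := congrFun (congrFun hc' 0) 1
  have e10 := congrFun (congrFun hc' 1) 0
  have e11 := congrFun (congrFun hc' 1) 1
  simp [Matrix.mul_apply, Fin.sum_univ_two] at e00 e01 e10 e11
  have htr : A.val 1 1 = -A.val 0 0 := by
    by_contra htr
    have hs : A.val 0 0 + A.val 1 1 ≠ 0 := fun h => htr (by linear_combination h)
    have h01 : A.val 0 1 = 0 :=
      (mul_eq_zero.1 (by linear_combination e01 : (A.val 0 0 + A.val 1 1) * A.val 0 1 = 0)).resolve_left hs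
    have h10 : A.val 1 0 = 0 :=
      (mul_eq_zero.1 (by linear_combination e10 : (A.val 0 0 + A.val 1 1) * A.val 1 0 = 0)).resolve_left hs
    have hd : A.val 0 0 = A.val 1 1 := sub_eq_zero.1 ((mul_eq_zero.1 (by
      linear_combination e00 - e11 : (A.val 0 0 + A.val 1 1) * (A.val 0 0 - A.val 1 1) = 0)).resolve_left hs)
    have h00 : A.val 0 0 ≠ 0 := fun h => hs (by rw [← hd, h, add_zero])
    refine hns (Units.mk0 _ h00) (Units.ext ?_)
    rw [sc_val, Units.val_mk0]
    ext i j
    fin_cases i <;> fin_cases j <;> simp [h01, h10, hd]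
  -- companion form
  have hP : ∃ P : GL (Fin 2) F, A.val * P.val = P.val * !![0, (c : F); 1, 0] := by
    have key : ∀ (x y : F), (!![x, A.val 0 0 * x + A.val 0 1 * y;
        y, A.val 1 0 * x + A.val 1 1 * y] : M2).det ≠ 0 →
        ∃ P : GL (Fin 2) F, A.val * P.val = P.val * !![0, (c : F); 1, 0] := fun x y h => by
      refine ⟨Matrix.GeneralLinearGroup.mkOfDetNeZero _ h, ?_⟩
      show A.val * !![x, A.val 0 0 * x + A.val 0 1 * y; y, A.val 1 0 * x + A.val 1 1 * y] = _
      ext i j
      fin_cases i <;> fin_cases j <;> simp [Matrix.mul_apply, Fin.sum_univ_two]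
      · linear_combination x * e00 + y * e01
      · linear_combination x * e10 + y * e11
    by_cases h10 : A.val 1 0 = 0
    · by_cases h01 : A.val 0 1 = 0
      · refine key 1 1 ?_
        rw [Matrix.det_fin_two_of, h10, h01, htr]
        intro h
        have h0 : (2 : F) * A.val 0 0 = 0 := by linear_combination -h
        rw [(mul_eq_zero.1 h0).resolve_left h2, h01] at e00
        exact c.ne_zero (by linear_combination -e00)
      · exact key 0 1 (by rw [Matrix.det_fin_two_of]; simpa using h01)
    · exact key 1 0 (by rw [Matrix.det_fin_two_of]; simpa using h10)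
  obtain ⟨P, hP⟩ := hP
  -- the preimage
  set H : Subgroup (GL (Fin 2) F) := (centralizer ({innd A} : Set (MulAut PSL2))).comap innd with hH
  have hmem : ∀ B : (GL (Fin 2) F), B ∈ H ↔ (B.val * A.val = A.val * B.val ∨ B.val * A.val = -(A.val * B.val)) := by
    intro B
    rw [hH, mem_comap, mem_centralizer_singleton_iff, ← map_mul, ← map_mul]
    constructor
    · intro h
      have h' : innd ((A * B)⁻¹ * (B * A)) = (1 : MulAut PSL2) := by
        rw [map_mul, map_inv, h, inv_mul_cancel]
      obtain ⟨a, ha⟩ := (innd_eq_one_iff le_rfl).1 h'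
      have hBA : B * A = sc a * (A * B) := by rw [sc_comm, ← ha, mul_inv_cancel_left]
      have hsc2 : sc (a * a) * (A * A * B) = 1 * (A * A * B) := by
        rw [one_mul]
        have l1 : B * A * A = sc (a * a) * (A * A * B) := by
          calc B * A * A = sc a * (A * B) * A := by rw [hBA]
            _ = sc a * A * (B * A) := by simp only [mul_assoc]
            _ = sc a * (A * sc a) * (A * B) := by rw [hBA]; simp only [mul_assoc]
            _ = sc a * (sc a * A) * (A * B) := by rw [sc_comm a A]
            _ = sc (a * a) * (A * A * B) := by rw [map_mul]; simp only [mul_assoc]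
        rw [← l1, mul_assoc, hc, ← sc_comm c B]
      have h1 := congrArg (fun g : (GL (Fin 2) F) => g.val 0 0) (mul_right_cancel hsc2)
      simp [Matrix.smul_one_eq_diagonal, sc_val] at h1
      have hval : B.val * A.val = (a : F) • (A.val * B.val) := by
        rw [← Units.val_mul, hBA, Units.val_mul, sc_val, Units.val_mul, smul_mul_assoc, one_mul]
      rcases mul_self_eq_one_iff.1 h1 with h1 | h1 <;> rw [h1] at hval
      · exact Or.inl (by rw [hval, one_smul])
      · exact Or.inr (by rw [hval, neg_one_smul])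
    · intro h
      rcases h with h | h
      · rw [show B * A = A * B from Units.ext h]
      · have : B * A = sc (-1) * (A * B) := Units.ext (by
          rw [Units.val_mul, Units.val_mul (sc (-1)), Units.val_mul, sc_val, smul_mul_assoc, one_mul, h]
          simp)
        rw [this, map_mul, innd_sc, one_mul]
  have hcardH : Nat.card H = 2 * Nat.card (NormUnits (c : F)) := by
    rw [← card_semiCent_companion h2 c.ne_zero, ← card_semiCent_conj P hP]
    exact Nat.card_congr (Equiv.subtypeEquivRight hmem)
  have hq1 : 2 ≤ q := Fintype.one_lt_card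
  have himg : Nat.card H = (q - 1) * Nat.card ↥((innd : (GL (Fin 2) F) →* MulAut PSL2).range ⊓
      centralizer ({innd A} : Set (MulAut PSL2))) := by
    have hmap : H.map (innd : (GL (Fin 2) F) →* MulAut PSL2) = (innd : (GL (Fin 2) F) →* MulAut PSL2).range ⊓
        centralizer ({innd A} : Set (MulAut PSL2)) := by rw [hH, map_comap_eq]
    have hker : (innd : (GL (Fin 2) F) →* MulAut PSL2).ker ≤ H := fun B hB => by
      rw [hH, mem_comap, MonoidHom.mem_ker.1 hB]; exact one_mem _
    have h1 := card_mul_index ((innd : (GL (Fin 2) F) →* MulAut PSL2).ker.subgroupOf H)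
    rw [Nat.card_congr (subgroupOfEquivOfLe hker).toEquiv, ← relIndex, relIndex_ker, hmap] at h1
    have hkc : Nat.card (innd : (GL (Fin 2) F) →* MulAut PSL2).ker = q - 1 := by
      have hk : (innd : (GL (Fin 2) F) →* MulAut PSL2).ker = center (GL (Fin 2) F) := by
        ext B
        rw [MonoidHom.mem_ker, innd_eq_one_iff le_rfl, GeneralLinearGroup.center_eq_range_scalar]
        exact ⟨fun ⟨a, ha⟩ => ⟨a, ha.symm⟩, fun ⟨a, ha⟩ => ⟨a, ha.symm⟩⟩
      rw [hk, Cfsg.Lib.Linear.card_center_GL]
    rw [hkc] at h1
    exact h1.symm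
  -- squares
  have houter : ¬ IsSquare (-(c : F)) := by
    rintro ⟨s, hs⟩
    have hdet : A.val.det = s * s := by
      rw [Matrix.det_fin_two, htr, ← hs]; linear_combination -e00
    have hs0 : s ≠ 0 := fun h => c.ne_zero (by rw [h, mul_zero] at hs; linear_combination -hs)
    let A' : Matrix.SpecialLinearGroup (Fin 2) F := ⟨s⁻¹ • A.val, by
      rw [Matrix.det_smul, hdet, Fintype.card_fin]; field_simp⟩
    refine hout (QuotientGroup.mk A') ?_
    rw [conj_mk]
    have : A = sc (Units.mk0 s hs0) * SpecialLinearGroup.toGL A' := Units.ext (by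
      rw [Units.val_mul, sc_val, Units.val_mk0, smul_mul_assoc, one_mul]
      show A.val = s • (s⁻¹ • A.val)
      rw [smul_smul, mul_inv_cancel₀ hs0, one_smul])
    rw [this, map_mul, innd_sc, one_mul]
  have hm1 : IsSquare (-1 : F) ↔ q % 4 ≠ 3 := FiniteField.isSquare_neg_one_iff
  constructor
  · intro hq
    have hsqm : IsSquare (-1 : F) := hm1.2 (by omega)
    have hnsq : ¬ IsSquare (c : F) := fun h => houter (by
      have := hsqm.mul h; rwa [neg_one_mul] at this)
    rw [hcardH, card_normUnits_nonsquare hnsq, show q ^ 2 - 1 = (q - 1) * (q + 1) by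
      rw [mul_comm (q - 1)]; exact Nat.sq_sub_sq q 1] at himg
    refine Nat.eq_of_mul_eq_mul_left (show 0 < q - 1 by omega) (himg.symm.trans ?_)
    ring
  · intro hq
    have hnsqm : ¬ IsSquare (-1 : F) := fun h => hm1.1 h hq
    obtain ⟨e, he⟩ : IsSquare (c : F) := by
      by_contra h
      refine houter ((quadraticChar_one_iff_isSquare (neg_ne_zero.2 c.ne_zero)).1 ?_)
      rw [← neg_one_mul, map_mul, quadraticChar_neg_one_iff_not_isSquare.2 hnsqm,
        quadraticChar_neg_one_iff_not_isSquare.2 h]
      rfl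
    have he0 : e ≠ 0 := fun h => c.ne_zero (by rw [he, h, mul_zero])
    rw [hcardH, card_normUnits_square h2 he0 he] at himg
    refine Nat.eq_of_mul_eq_mul_left (show 0 < q - 1 by omega) (himg.symm.trans ?_)
    ring

/-- In `SL₂(3)` no element of order four commutes with one of order three. -/
theorem sl_three_four (u a : Matrix.SpecialLinearGroup (Fin 2) (ZMod 3)) (hu : u ^ 3 = 1) (hu1 : u ≠ 1)
    (ha : a ^ 4 = 1) (h : u * a = a * u) : a ^ 2 = 1 := by
  revert u a
  decide +kernel

end Cfsg.Lib.AlmostCyc.SDLinear
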