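import Cfsg.Agent.Lib.AlmostCyc.SDQuot
import Cfsg.Agent.Lib.AlmostCyc.SDAux
import Cfsg.Agent.Lib.GW.QGroupCommutator
import Cfsg.Agent.Lib.GW.Main
import Cfsg.Agent.Lib.TwoGroup.QuasiDihedral
import Cfsg.Agent.S1213
import Mathlib

/-!
# Semidihedral exclusion: the centralizer of an involution

`T` is simple with semidihedral Sylow 2-subgroups and almost cyclic odd ones.
-/

set_option autoImplicit false
set_option linter.style.haveILetI false
set_option maxHeartbeats 600000

namespace Cfsg.Lib.AlmostCyc.SDLocal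

open Subgroup
open scoped commutatorElement

universe u

theorem qd_of_equiv {A B : Type*} [Group A] [Group B] (e : A ≃* B) (h : Cfsg.IsQuasiDihedral A) :
    Cfsg.IsQuasiDihedral B := by
  obtain ⟨n, h3, hc, x, y, hx, hy, hxy⟩ := h
  exact ⟨n, h3, (Nat.card_congr e.toEquiv).symm.trans hc, e x, e y, (e.orderOf_eq x).trans hx,
    (e.orderOf_eq y).trans hy, by rw [← map_inv, ← map_mul, ← map_mul, hxy, map_pow]⟩

theorem no_index_two {T : Type*} [Group T] [IsSimpleGroup T] (hna : ¬ IsMulCommutative T) (M : Subgroup T) :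
    M.index ≠ 2 := fun h => by
  haveI := normal_of_index_eq_two h
  rcases Subgroup.Normal.eq_bot_or_eq_top (inferInstance : M.Normal) with h1 | h1
  · subst h1
    have hc : Nat.card T = 2 := by rw [← index_bot, h]
    haveI : Fact (Nat.Prime 2) := ⟨Nat.prime_two⟩
    haveI : IsCyclic T := isCyclic_of_prime_card hc
    exact hna IsCyclic.isMulCommutative
  · rw [h1, index_top] at h
    omega

section Lift

variable {C : Type*} [Group C] [Finite C]

/-- Centralizers of involutions lift through an odd normal subgroup. -/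
theorem card_centralizer_lift {O : Subgroup C} [O.Normal] (hO : Odd (Nat.card O)) {t : C}
    (ht : orderOf t = 2) :
    Nat.card (centralizer ({t} : Set C)) =
      Nat.card ↥(O ⊓ centralizer ({t} : Set C)) * Nat.card (centralizer ({(t : C ⧸ O)} : Set (C ⧸ O))) := by
  let f : centralizer ({t} : Set C) →* centralizer ({(t : C ⧸ O)} : Set (C ⧸ O)) :=
    ((QuotientGroup.mk' O).comp (centralizer ({t} : Set C)).subtype).codRestrict _ fun x => by
      rw [mem_centralizer_singleton_iff]
      show ((x : C) : C ⧸ O) * (t : C ⧸ O) = (t : C ⧸ O) * ((x : C) : C ⧸ O)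
      rw [← QuotientGroup.mk_mul, ← QuotientGroup.mk_mul, mem_centralizer_singleton_iff.1 x.2]
  have hf : Function.Surjective f := by
    rintro ⟨y, hy⟩
    obtain ⟨h, rfl⟩ := QuotientGroup.mk_surjective y
    rw [mem_centralizer_singleton_iff] at hy
    have hprod : t * (h * t * h⁻¹) ∈ O := by
      rw [← QuotientGroup.eq_one_iff, QuotientGroup.mk_mul, QuotientGroup.mk_mul, QuotientGroup.mk_mul,
        QuotientGroup.mk_inv, hy, mul_inv_cancel_right, ← QuotientGroup.mk_mul,
        Cfsg.Lib.Invol.inv_mul_self ht, QuotientGroup.mk_one]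
    have hodd : Odd (orderOf (t * (h * t * h⁻¹))) := hO.of_dvd_nat (Subgroup.orderOf_dvd_natCard _ hprod)
    obtain ⟨d, hd, hdt⟩ := Cfsg.Lib.Invol.exists_conj_zpowers_of_odd ht
      (by rw [Cfsg.Lib.Invol.orderOf_conj_eq, ht]) hodd
    have hdO : d ∈ O := zpowers_le.2 hprod hd
    refine ⟨⟨d⁻¹ * h, mem_centralizer_singleton_iff.2 ?_⟩, Subtype.ext ?_⟩
    · calc d⁻¹ * h * t = d⁻¹ * (h * t * h⁻¹) * h := by group
        _ = d⁻¹ * (d * t * d⁻¹) * h := by rw [hdt]
        _ = t * (d⁻¹ * h) := by group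
    · show ((d⁻¹ * h : C) : C ⧸ O) = (h : C ⧸ O)
      rw [QuotientGroup.mk_mul, QuotientGroup.mk_inv, (QuotientGroup.eq_one_iff d).2 hdO, inv_one, one_mul]
  have hk : Nat.card f.ker = Nat.card ↥(O ⊓ centralizer ({t} : Set C)) := by
    refine Nat.card_congr
      { toFun := fun x => ⟨((x : centralizer ({t} : Set C)) : C),
          (QuotientGroup.eq_one_iff _).1 (congrArg Subtype.val (MonoidHom.mem_ker.1 x.2)), (x : centralizer ({t} : Set C)).2⟩
        invFun := fun x => ⟨⟨(x : C), x.2.2⟩, MonoidHom.mem_ker.2 (Subtype.ext ((QuotientGroup.eq_one_iff _).2 x.2.1))⟩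
        left_inv := fun x => rfl
        right_inv := fun x => rfl }
  rw [← hk, ← card_mul_index f.ker, index_ker, MonoidHom.range_eq_top.2 hf, card_top]

end Lift

variable {T : Type u} [Group T] [Finite T] [IsSimpleGroup T]

/-- All involutions are conjugate to the central one. -/
theorem conj_central (hna : ¬ IsMulCommutative T) (S : Sylow 2 T) {n : ℕ}
    (d : Cfsg.Lib.TwoGroup.SD (S : Subgroup T) n) {x : T} (hx : orderOf x = 2) :
    ∃ g : T, g * x * g⁻¹ = (d.z : T) := by
  haveI : Fact (Nat.Prime 2) := ⟨Nat.prime_two⟩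
  have hS : Cfsg.IsQuasiDihedral (S : Subgroup T) := ⟨n, d.three_le, d.card, d.x, d.y, d.hx, d.hy, d.conj⟩
  set C := centralizer ({x} : Set T)
  obtain ⟨R, hRc, -⟩ := Cfsg.Agent.S1213.result S (Or.inl hS) (no_index_two hna) x hx
  obtain ⟨T', hT'⟩ := (R.isPGroup'.map C.subtype).exists_le_sylow
  have hTe : (R : Subgroup C).map C.subtype = (T' : Subgroup T) := eq_of_le_of_card_ge hT' (by
    rw [card_map_of_injective C.subtype_injective, hRc, Nat.card_congr (T'.equiv S).toEquiv])
  have hxC : x ∈ C := mem_centralizer_singleton_iff.2 rfl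
  have hxR : (⟨x, hxC⟩ : C) ∈ (R : Subgroup C) := by
    have hn : zpowers (⟨x, hxC⟩ : C) ≤ normalizer ((R : Subgroup C) : Set C) := by
      refine le_trans ?_ (centralizer_le_normalizer _)
      rw [zpowers_le, mem_centralizer_iff]
      intro y _
      exact Subtype.ext (mem_centralizer_singleton_iff.1 y.2)
    have hp : IsPGroup 2 ↥(zpowers (⟨x, hxC⟩ : C) ⊔ (R : Subgroup C)) :=
      (IsPGroup.of_card (n := 1) (by rw [Nat.card_zpowers, Subgroup.orderOf_mk, hx, pow_one])).to_sup_of_normal_right'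
        R.isPGroup' hn
    have := R.3 hp le_sup_right
    exact this ▸ le_sup_left (b := (R : Subgroup C)) (mem_zpowers _)
  obtain ⟨g, hg⟩ := MulAction.exists_smul_eq T T' S
  have hmem : ∀ a ∈ (T' : Subgroup T), MulAut.conj g a ∈ (S : Subgroup T) := fun a ha => by
    rw [← hg, Sylow.coe_subgroup_smul, ← MulAut.smul_def]
    exact smul_mem_pointwise_smul a _ _ ha
  have hxT : x ∈ (T' : Subgroup T) := hTe ▸ mem_map_of_mem C.subtype hxR
  refine ⟨g, ?_⟩
  set w : (S : Subgroup T) := ⟨MulAut.conj g x, hmem x hxT⟩ with hw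
  have hwc : w ∈ center ↥(S : Subgroup T) := by
    rw [mem_center_iff]
    intro s
    have hs : (MulAut.conj g).symm (s : T) ∈ (T' : Subgroup T) := by
      have h1 : (s : T) ∈ ((g • T' : Sylow 2 T) : Subgroup T) := hg.symm ▸ s.2
      rw [Sylow.coe_subgroup_smul] at h1
      rw [mem_pointwise_smul_iff_inv_smul_mem, ← map_inv, MulAut.smul_def] at h1
      simpa using h1
    rw [← hTe] at hs
    obtain ⟨c, -, hc⟩ := hs
    have hcx : (c : T) * x = x * (c : T) := mem_centralizer_singleton_iff.1 c.2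
    apply Subtype.ext
    show (s : T) * MulAut.conj g x = MulAut.conj g x * (s : T)
    rw [← (MulAut.conj g).apply_symm_apply (s : T), ← hc, ← map_mul, ← map_mul]
    exact congrArg _ hcx
  rw [d.center_eq] at hwc
  obtain ⟨k, hk⟩ := hwc
  rcases Int.even_or_odd' k with ⟨i, rfl | rfl⟩
  · exfalso
    have hw1 : w = 1 := by
      rw [← hk]
      show d.z ^ (2 * i) = 1
      rw [zpow_mul, show d.z ^ (2 : ℤ) = 1 by rw [zpow_two]; exact Cfsg.Lib.Invol.inv_mul_self d.orderOf_z,
        one_zpow]
    have : MulAut.conj g x = 1 := congrArg Subtype.val hw1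
    rw [map_eq_one_iff _ (MulAut.conj g).injective] at this
    rw [this, orderOf_one] at hx
    exact absurd hx (by norm_num)
  · have hwz : w = d.z := by
      rw [← hk]
      show d.z ^ (2 * i + 1) = d.z
      rw [zpow_add, zpow_mul, show d.z ^ (2 : ℤ) = 1 by rw [zpow_two]; exact Cfsg.Lib.Invol.inv_mul_self d.orderOf_z,
        one_zpow, one_mul, zpow_one]
    exact congrArg Subtype.val hwz

theorem card_centralizer_involution (hna : ¬ IsMulCommutative T) (S : Sylow 2 T) {n : ℕ}
    (d : Cfsg.Lib.TwoGroup.SD (S : Subgroup T) n) {x : T} (hx : orderOf x = 2) :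
    Nat.card (centralizer ({x} : Set T)) = Nat.card (centralizer ({(d.z : T)} : Set T)) := by
  obtain ⟨g, hg⟩ := conj_central hna S d hx
  rw [← hg]
  refine Nat.card_congr ((MulAut.conj g).toEquiv.subtypeEquiv fun a => ?_)
  simp only [mem_centralizer_singleton_iff, MulEquiv.toEquiv_eq_coe, EquivLike.coe_coe, MulAut.conj_apply]
  constructor
  · intro h
    calc g * a * g⁻¹ * (g * x * g⁻¹) = g * (a * x) * g⁻¹ := by group
      _ = g * (x * a) * g⁻¹ := by rw [h]
      _ = g * x * g⁻¹ * (g * a * g⁻¹) := by group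
  · intro h
    calc a * x = g⁻¹ * (g * a * g⁻¹ * (g * x * g⁻¹)) * g := by group
      _ = g⁻¹ * (g * x * g⁻¹ * (g * a * g⁻¹)) * g := by rw [h]
      _ = x * a := by group

/-- The centralizer modulo core. -/
structure Quot (S : Sylow 2 T) (z : T) where
  p : ℕ
  hp : Fact p.Prime
  three_le : 3 ≤ p
  N : Subgroup (↥(centralizer ({z} : Set T)) ⧸ oddCore ↥(centralizer ({z} : Set T)))
  normal : N.Normal
  index : N.index = 2
  e : N ≃* Matrix.SpecialLinearGroup (Fin 2) (ZMod p)
  coprime : 5 ≤ p → (Nat.card (oddCore ↥(centralizer ({z} : Set T)))).Coprime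
    (Nat.card (Matrix.SpecialLinearGroup (Fin 2) (ZMod p)))
  R : Sylow 2 (↥(centralizer ({z} : Set T)) ⧸ oddCore ↥(centralizer ({z} : Set T)))
  hR : Cfsg.IsQuasiDihedral (R : Subgroup (↥(centralizer ({z} : Set T)) ⧸ oddCore ↥(centralizer ({z} : Set T))))

theorem exists_quot (hna : ¬ IsMulCommutative T) (h2 : TwoHalf T) (hodd : OddCyc T)
    (hIH : ∀ m, m < Nat.card T → NoSDUpTo.{u} m) (S : Sylow 2 T) {n : ℕ}
    (d : Cfsg.Lib.TwoGroup.SD (S : Subgroup T) n) : Nonempty (Quot S (d.z : T)) := by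
  haveI : Fact (Nat.Prime 2) := ⟨Nat.prime_two⟩
  have hSqd : Cfsg.IsQuasiDihedral (S : Subgroup T) := ⟨n, d.three_le, d.card, d.x, d.y, d.hx, d.hy, d.conj⟩
  set z : T := (d.z : T) with hzdef
  set C := centralizer ({z} : Set T) with hC
  have hz : orderOf z = 2 := by rw [hzdef, orderOf_coe, d.orderOf_z]
  have hSC : (S : Subgroup T) ≤ C := fun s hs =>
    mem_centralizer_singleton_iff.2 (congrArg Subtype.val (d.z_central ⟨s, hs⟩).eq)
  let SC : Sylow 2 C := S.subtype hSC
  let eSC : (SC : Subgroup C) ≃* (S : Subgroup T) := subgroupOfEquivOfLe hSC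
  have hCtop : C ≠ ⊤ := by
    intro h
    have hzc : z ∈ center T := mem_center_iff.2 fun g => mem_centralizer_singleton_iff.1 (show g ∈ C by rw [h]; exact mem_top g)
    rcases Subgroup.Normal.eq_bot_or_eq_top (inferInstance : (center T).Normal) with h' | h'
    · rw [h', mem_bot] at hzc
      rw [hzc, orderOf_one] at hz
      exact absurd hz (by norm_num)
    · exact hna ⟨⟨fun a b => mem_center_iff.1 (h' ▸ mem_top b) a⟩⟩
  set O := oddCore C
  set π := QuotientGroup.mk' O with hπdef
  have hπ : Function.Surjective π := QuotientGroup.mk'_surjective O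
  have hOodd : Odd (Nat.card O) := Cfsg.Lib.ZStar.odd_card_oddCore
  let R : Sylow 2 (C ⧸ O) := SC.mapSurjective hπ
  have hinj : Function.Injective (π.subgroupMap (SC : Subgroup C)) := by
    rw [← MonoidHom.ker_eq_bot_iff, eq_bot_iff]
    intro x hx
    obtain ⟨i, hi⟩ := IsPGroup.iff_orderOf.1 SC.2 x
    have h1 : (x : C) ∈ O := (QuotientGroup.eq_one_iff _).1 (congrArg Subtype.val (MonoidHom.mem_ker.1 hx))
    have h2' : orderOf (x : C) ∣ Nat.card O := by
      rw [← Subgroup.orderOf_mk (x : C) h1]; exact orderOf_dvd_natCard _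
    rw [Subgroup.orderOf_coe, hi] at h2'
    rw [Subgroup.mem_bot, ← orderOf_eq_one_iff, hi]
    exact ((Nat.coprime_two_left.2 hOodd).pow_left i).eq_one_of_dvd h2'
  let eR : (R : Subgroup (C ⧸ O)) ≃* (S : Subgroup T) :=
    (MulEquiv.subgroupCongr (Sylow.coe_mapSurjective hπ SC)).trans
      ((MulEquiv.ofBijective _ ⟨hinj, π.subgroupMap_surjective _⟩).symm.trans eSC)
  have hR : Cfsg.IsQuasiDihedral (R : Subgroup (C ⧸ O)) := qd_of_equiv eR.symm hSqd
  have hN2 : ∀ (p : ℕ) [Fact p.Prime], p ≠ 2 → ∀ N : Subgroup (C ⧸ O),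
      Nonempty (N ≃* Matrix.SpecialLinearGroup (Fin 2) (ZMod p)) → N.index ≠ 1 := by
    rintro p _ hp N ⟨e⟩ h
    have htop := index_eq_one.1 h
    have hmem : ∀ a : (R : Subgroup (C ⧸ O)), a * a = 1 → (a : C ⧸ O) ∈ (center N).map N.subtype := by
      intro a ha
      have hN : (a : C ⧸ O) ∈ N := htop ▸ mem_top _
      refine ⟨⟨a, hN⟩, ?_, rfl⟩
      have h1 : e ⟨a, hN⟩ * e ⟨a, hN⟩ = 1 := by
        rw [← map_mul, ← map_one e]
        exact congrArg e (Subtype.ext (show (a : C ⧸ O) * a = 1 by rw [← Subgroup.coe_mul, ha]; rfl))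
      have h2'' := Cfsg.Lib.Linear.Dickson.mem_center_of_sq_eq_one (SDQuot.two_ne_zero' hp) h1
      rw [← Cfsg.Lib.Dickson.map_center_mulEquiv e] at h2''
      obtain ⟨w, hw, hwe⟩ := h2''
      rwa [← e.injective hwe]
    obtain ⟨n', ⟨d'⟩⟩ := Cfsg.Lib.TwoGroup.exists_sd hR
    have hc : Nat.card ↥((center N).map N.subtype) = 2 := by
      refine (card_map_of_injective N.subtype_injective).trans (Eq.trans ?_ (SDQuot.card_center (p := p) hp))
      rw [← Cfsg.Lib.Dickson.map_center_mulEquiv e, card_map_of_injective (f := e.toMonoidHom) e.injective]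
    let W : Subgroup (C ⧸ O) := (center N).map N.subtype
    have key : ∀ a b : W, a ≠ 1 → b ≠ 1 → a = b := fun a b ha hb => by
      obtain ⟨w, -, hu⟩ := (Nat.card_eq_two_iff' (1 : W)).1 hc
      exact (hu a ha).trans (hu b hb).symm
    have e1 := key ⟨_, hmem d'.y (Cfsg.Lib.Invol.inv_mul_self d'.hy)⟩
      ⟨_, hmem d'.z (Cfsg.Lib.Invol.inv_mul_self d'.orderOf_z)⟩
      (fun h => Cfsg.Lib.Invol.ne_one d'.hy (Subtype.ext (congrArg Subtype.val h :)))
      (fun h => d'.z_ne_one (Subtype.ext (congrArg Subtype.val h :)))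
    have e2 : d'.y = d'.z := Subtype.ext (congrArg Subtype.val e1 :)
    exact d'.ne_mul_y (2 * Cfsg.Lib.TwoGroup.SD.P n') 0 (by rw [zpow_zero, one_mul]; exact e2.symm)
  by_cases hsol : Group.IsSolvable C
  · -- the solvable case
    haveI := hsol
    obtain ⟨F, _, _, hFo, ⟨i⟩⟩ := Cfsg.Lib.GW.centralizer_mod_core_commutator Cfsg.Lib.GW.simpleGW S
      (Or.inl hSqd) (no_index_two hna) z hz
    set N := commutator (C ⧸ O)
    have hF3 : Fintype.card F = 3 := by
      have h1 := Fintype.one_lt_card (α := F)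
      by_contra hne
      obtain ⟨k, hk⟩ := hFo
      haveI : Group.IsSolvable (Matrix.SpecialLinearGroup (Fin 2) F) :=
        Group.isSolvable_of_surjective (f := i.toMonoidHom) i.surjective
      haveI : Nontrivial (Matrix.SpecialLinearGroup (Fin 2) F) := by
        rw [← Finite.one_lt_card_iff_nontrivial, Cfsg.Lib.Linear.Two.card_SL_two]
        calc 1 < Fintype.card F * 1 := by omega
          _ ≤ _ := Nat.mul_le_mul_left _ (by
            have : 4 ≤ Fintype.card F ^ 2 := by nlinarith
            omega)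
      exact (Group.IsSolvable.commutator_lt_top_of_nontrivial (Matrix.SpecialLinearGroup (Fin 2) F)).ne
        (Cfsg.Lib.Linear.commutator_SL_eq_top' (Or.inr (by omega)))
    haveI : Fact (Nat.Prime 3) := ⟨Nat.prime_three⟩
    let e : N ≃* Matrix.SpecialLinearGroup (Fin 2) (ZMod 3) :=
      i.trans (Cfsg.Lib.Linear.Mitchell.Sub3.slCongr 2 (ZMod.ringEquivOfPrime F Nat.prime_three hF3).symm)
    haveI : N.Normal := inferInstance
    have h2H : TwoHalf (C ⧸ O) := (h2.subgroup C).quotient O
    have hO' : oddCore (C ⧸ O) = ⊥ := Cfsg.Lib.Core.pPrimeCore_quotient_eq_bot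
    have hcN : Nat.card N = 24 := by
      rw [Nat.card_congr e.toEquiv, Cfsg.Lib.Linear.Two.card_SL_two, ZMod.card]; norm_num
    have hle : (MulAut.conjNormal : C ⧸ O →* MulAut N).ker ≤ SDQuot.zN N := by
      intro x hx
      refine SDQuot.centralizer_le (p := 3) (by norm_num) N e h2H hO' (mem_centralizer_iff.2 fun y hy => ?_)
      have h := congrArg Subtype.val (DFunLike.congr_fun (MonoidHom.mem_ker.1 hx) (⟨y, hy⟩ : N))
      rw [MulAut.conjNormal_apply, MulAut.one_apply] at h
      exact (mul_inv_eq_iff_eq_mul.1 h).symm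
    haveI : Finite (MulAut N) := Finite.of_injective (fun φ : MulAut N => (φ : N → N)) DFunLike.coe_injective
    have hH : Nat.card (C ⧸ O) ≤ 48 := by
      rw [← card_mul_index (MulAut.conjNormal : C ⧸ O →* MulAut N).ker, index_ker]
      calc _ ≤ 2 * 24 := Nat.mul_le_mul
            ((Subgroup.card_le_of_le hle).trans (SDQuot.card_zN (p := 3) (by norm_num) N e).le)
            ((Subgroup.card_le_card_group _).trans (SDThree.card_mulAut_le e))
        _ = 48 := rfl
    have hNi : N.index ≠ 1 := hN2 3 (by norm_num) N ⟨e⟩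
    have hidx : N.index = 2 := by
      have h0 : N.index ≠ 0 := index_ne_zero_of_finite
      have := card_mul_index N
      rw [hcN] at this
      omega
    exact ⟨⟨3, inferInstance, le_rfl, N, inferInstance, hidx, e, fun h => absurd h (by norm_num), R, hR⟩⟩
  · -- the nonsolvable case
    have hlt : Nat.card C < Nat.card T := Cfsg.Lib.Core.lt_card_of_ne_top hCtop
    obtain ⟨G₀, L, p, hp, hG₀, hidx, hp5, hLn, hOle, hLle, hsup, hinf, hcomm, hcop, hL⟩ :=
      structure_thm hsol (h2.subgroup C) (hodd.subgroup C) (hIH _ hlt)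
    haveI := hp
    haveI := hLn
    haveI := hG₀
    -- `L` contains `z`
    have hzS : (⟨z, hSC d.z.2⟩ : C) ∈ (SC : Subgroup C) := d.z.2
    have hzC : ∀ c : C, c * ⟨z, hSC d.z.2⟩ = ⟨z, hSC d.z.2⟩ * c := fun c =>
      Subtype.ext (mem_centralizer_singleton_iff.1 c.2)
    have hLeven : 2 ∣ Nat.card L := by
      refine two_dvd_card_of_not_isSolvable fun hs => hsol ?_
      haveI := hs
      haveI : Group.IsSolvable O := Cfsg.Agent.S0205.result hOodd
      haveI : Group.IsSolvable ↥(O ⊔ L) := Cfsg.Lib.MinNonCA.isSolvable_sup inferInstance inferInstance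
      haveI : Group.IsSolvable G₀ := hsup ▸ (inferInstance : Group.IsSolvable ↥(O ⊔ L))
      haveI : Group.IsSolvable (C ⧸ G₀) := by
        rcases (Nat.dvd_prime Nat.prime_two).1 hidx with h | h
        · haveI : Subsingleton (C ⧸ G₀) := (Nat.card_eq_one_iff_unique.1 (by rw [← index_eq_card, h])).1
          infer_instance
        · haveI := (IsPGroup.of_card (p := 2) (n := 1) (G := C ⧸ G₀) (by rw [← index_eq_card, h, pow_one])).isNilpotent
          infer_instance
      exact Group.isSolvable_of_ker_le_range G₀.subtype (QuotientGroup.mk' G₀) (by simp)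
    have hzL : (⟨z, hSC d.z.2⟩ : C) ∈ L := by
      obtain ⟨Q, hQ⟩ := Cfsg.Lib.Local.exists_sylow_inf SC L
      let A : Subgroup (SC : Subgroup C) := L.subgroupOf (SC : Subgroup C)
      haveI : A.Normal := inferInstance
      haveI : Nontrivial A := by
        by_contra hnt
        rw [not_nontrivial_iff_subsingleton] at hnt
        have hAbot : A = ⊥ := (eq_bot_iff_forall _).2 fun a ha =>
          congrArg Subtype.val (Subsingleton.elim (⟨a, ha⟩ : A) 1)
        have h1 : Nat.card (Q : Subgroup L) = 1 := by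
          refine card_eq_one.2 ((eq_bot_iff_forall _).2 fun a ha => ?_)
          rw [hQ, mem_subgroupOf] at ha
          have hmem : (⟨(a : C), ha⟩ : (SC : Subgroup C)) ∈ A := a.2
          rw [hAbot, mem_bot] at hmem
          exact Subtype.ext (congrArg Subtype.val hmem :)
        have h3 := Q.dvd_card_of_dvd_card hLeven
        rw [h1] at h3
        omega
      have hne : A ⊓ center (SC : Subgroup C) ≠ ⊥ :=
        Cfsg.Lib.PGroup.inf_center_ne_bot SC.2 (N := A) ((nontrivial_iff_ne_bot A).1 inferInstance)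
      obtain ⟨a, ha, ha1⟩ := (bot_or_exists_ne_one _).resolve_left hne
      have hca : eSC a ∈ center (S : Subgroup T) := mem_center_iff.2 fun s => by
        obtain ⟨s', rfl⟩ := eSC.surjective s
        rw [← map_mul, ← map_mul, mem_center_iff.1 ha.2 s']
      rw [d.center_eq] at hca
      obtain ⟨k, hk⟩ := hca
      have hz2 : d.z ^ (2 : ℤ) = 1 := by rw [zpow_two]; exact Cfsg.Lib.Invol.inv_mul_self d.orderOf_z
      have hk' : eSC a = d.z := by
        rcases Int.even_or_odd' k with ⟨j, rfl | rfl⟩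
        · exfalso
          refine ha1 (eSC.injective ?_)
          rw [map_one, ← hk]
          show d.z ^ (2 * j) = 1
          rw [zpow_mul, hz2, one_zpow]
        · rw [← hk]
          show d.z ^ (2 * j + 1) = d.z
          rw [zpow_add, zpow_mul, hz2, one_zpow, one_mul, zpow_one]
      have haz : (a : C) = ⟨z, hSC d.z.2⟩ := Subtype.ext (congrArg Subtype.val hk' :)
      rw [← haz]
      exact ha.1
    -- so `L` is `SL₂(p)`
    have hp2 : p ≠ 2 := by omega
    obtain ⟨eL⟩ : Nonempty (L ≃* Matrix.SpecialLinearGroup (Fin 2) (ZMod p)) := by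
      rcases hL with he | h
      · exfalso
        obtain ⟨e⟩ := he
        haveI := Cfsg.Lib.Linear.PSL_simple (F := ZMod p) 2 le_rfl (fun _ => by rw [Nat.card_zmod]; omega)
        have hc : e ⟨_, hzL⟩ ∈ center _ := mem_center_iff.2 fun w => by
          obtain ⟨w', rfl⟩ := e.surjective w
          rw [← map_mul, ← map_mul]
          exact congrArg e (Subtype.ext (hzC w'))
        rcases Subgroup.Normal.eq_bot_or_eq_top (inferInstance : (center (Matrix.ProjectiveSpecialLinearGroup (Fin 2) (ZMod p))).Normal) with h | h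
        · rw [h, mem_bot, ← map_one e] at hc
          have hz1 : z = 1 := congrArg (fun w : L => ((w : C) : T)) (e.injective hc)
          rw [hz1, orderOf_one] at hz
          exact absurd hz (by norm_num)
        · have hns : ¬ Group.IsSolvable L := by
            intro hs
            haveI : IsMulCommutative (Matrix.ProjectiveSpecialLinearGroup (Fin 2) (ZMod p)) :=
              ⟨⟨fun a b => mem_center_iff.1 (h ▸ mem_top b) a⟩⟩
            obtain ⟨a, b, ha, hb, ha1, hb1, hab, -, -, -⟩ := Cfsg.Lib.GW.PGL.exists_fixed_four (F := ZMod p)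
              (SDQuot.odd_card hp2) (RingEquiv.refl _)
            have hall := Cfsg.Lib.Linear.commutator_SL_eq_top' (ι := Fin 2) (F := ZMod p) (Or.inr (by rw [ZMod.card]; omega))
            let π' : Matrix.SpecialLinearGroup (Fin 2) (ZMod p) →* Matrix.ProjectiveSpecialLinearGroup (Fin 2) (ZMod p) :=
              QuotientGroup.mk' _
            have hsub : (⊤ : Subgroup (Matrix.SpecialLinearGroup (Fin 2) (ZMod p))) ≤ π'.ker := by
              rw [← hall, _root_.commutator_def, commutator_le]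
              intro x _ y _
              rw [MonoidHom.mem_ker, map_commutatorElement, commutatorElement_eq_one_iff_mul_comm]
              exact IsMulCommutative.is_comm.comm _ _
            obtain ⟨x, rfl⟩ := QuotientGroup.mk'_surjective _ a
            exact ha1 (hsub (mem_top x))
          refine hns ?_
          haveI : IsMulCommutative L := ⟨⟨fun a b => e.injective (by
            rw [map_mul, map_mul]; exact mem_center_iff.1 (h ▸ mem_top (e b)) (e a))⟩⟩
          exact Cfsg.Lib.Core.isSolvable_of_isMulCommutative L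
      · exact h
    set N := L.map π with hN
    haveI : N.Normal := Normal.map inferInstance π hπ
    have hkL : Function.Injective (π.subgroupMap L) := by
      rw [← MonoidHom.ker_eq_bot_iff, eq_bot_iff]
      intro x hx
      have h1 : (x : C) ∈ O := (QuotientGroup.eq_one_iff _).1 (congrArg Subtype.val (MonoidHom.mem_ker.1 hx))
      exact mem_bot.2 (Subtype.ext (mem_bot.1 (hinf ▸ (⟨h1, x.2⟩ : (x : C) ∈ O ⊓ L))))
    let eN : N ≃* Matrix.SpecialLinearGroup (Fin 2) (ZMod p) :=
      (MulEquiv.ofBijective _ ⟨hkL, π.subgroupMap_surjective L⟩).symm.trans eL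
    have hNi : N.index ∣ 2 := by
      have hmap : G₀.map π = N := by
        rw [← hsup, Subgroup.map_sup, hN, (Subgroup.map_eq_bot_iff O).2 (by rw [hπdef, QuotientGroup.ker_mk']), bot_sup_eq]
      rw [← hmap, G₀.index_map_eq hπ (by rw [hπdef, QuotientGroup.ker_mk']; exact hOle)]
      exact hidx
    have hidx2 : N.index = 2 := ((Nat.dvd_prime Nat.prime_two).1 hNi).resolve_left (hN2 p hp2 N ⟨eN⟩)
    exact ⟨⟨p, hp, by omega, N, inferInstance, hidx2, eN, fun _ => by
      rw [← Nat.card_congr eL.toEquiv]; exact hcop, R, hR⟩⟩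

/-- The local bound. -/
theorem local_bound (h2 : TwoHalf T) (hodd : OddCyc T) (hna : ¬ IsMulCommutative T) (S : Sylow 2 T)
    {n : ℕ} (d : Cfsg.Lib.TwoGroup.SD (S : Subgroup T) n) {r : ℕ} [hr : Fact r.Prime] (hr2 : r ≠ 2)
    {x : T} (hx : orderOf x = r) (hxz : x * (d.z : T) = (d.z : T) * x) :
    ∃ R : Sylow 2 ↥(centralizer ({x} : Set T)),
      padicValNat r (Nat.card T) ≤ padicValNat r (Nat.card (centralizer ({(d.z : T)} : Set T))) +
          (if r = 3 then 1 else 0) ∧
      ((IsCyclic (R : Subgroup (centralizer ({x} : Set T))) ∨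
          Cfsg.IsQuasiDihedral (R : Subgroup (centralizer ({x} : Set T)))) →
        padicValNat r (Nat.card T) ≤ padicValNat r (Nat.card (centralizer ({(d.z : T)} : Set T)))) := by
  haveI : Fact (Nat.Prime 2) := ⟨Nat.prime_two⟩
  set X := centralizer ({x} : Set T) with hX
  have hxX : x ∈ X := mem_centralizer_singleton_iff.2 rfl
  obtain ⟨Rx, Px, hPn, hcube, hfull⟩ := sylow_normalizes (X := X) (h2.subgroup X) hr2
    (fun P => hodd.subgroup X r hr.out hr2 _ P.2) (u := ⟨x, hxX⟩) (by rw [Subgroup.orderOf_mk, hx])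
    (mem_center_iff.2 fun y => Subtype.ext (mem_centralizer_singleton_iff.1 y.2))
  -- a Sylow subgroup of `T` inside `X`
  obtain ⟨P, hP⟩ := (IsPGroup.of_card (p := r) (n := 1) (G := zpowers x)
    (by rw [Nat.card_zpowers, hx, pow_one])).exists_le_sylow
  haveI := hodd r hr.out hr2 _ P.2
  have hPX : (P : Subgroup T) ≤ X := fun y hy => mem_centralizer_singleton_iff.2
    (congrArg Subtype.val ((IsCyclic.isMulCommutative (α := (P : Subgroup T))).is_comm.comm ⟨y, hy⟩
      ⟨x, hP (mem_zpowers x)⟩))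
  obtain ⟨a, ha⟩ := IsPGroup.iff_card.1 P.2
  have hva : padicValNat r (Nat.card T) = a := by
    rw [← card_mul_index (P : Subgroup T), padicValNat.mul Nat.card_pos.ne' index_ne_zero_of_finite, ha,
      padicValNat.prime_pow, padicValNat.eq_zero_of_not_dvd P.not_dvd_index, add_zero]
  have hPxc : Nat.card (Px : Subgroup X) = r ^ a := by
    rw [← ha, Nat.card_congr (Px.equiv (P.subtype hPX)).toEquiv]
    exact Nat.card_congr (subgroupOfEquivOfLe hPX).toEquiv
  -- an involution in `Rx`
  have hzX : (d.z : T) ∈ X := mem_centralizer_singleton_iff.2 hxz.symm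
  obtain ⟨R', hR'⟩ := (IsPGroup.of_card (p := 2) (n := 1) (G := zpowers (⟨_, hzX⟩ : X))
    (by rw [Nat.card_zpowers, Subgroup.orderOf_mk, orderOf_coe, d.orderOf_z, pow_one])).exists_le_sylow
  obtain ⟨g, hg⟩ := MulAction.exists_smul_eq X R' Rx
  set w : X := MulAut.conj g ⟨_, hzX⟩ with hw
  have hwR : w ∈ (Rx : Subgroup X) := by
    rw [← hg, Sylow.coe_subgroup_smul, hw, ← MulAut.smul_def]
    exact smul_mem_pointwise_smul _ _ _ (hR' (mem_zpowers _))
  have hw2 : orderOf (w : T) = 2 := by
    rw [orderOf_coe, hw, MulEquiv.orderOf_eq, Subgroup.orderOf_mk, orderOf_coe, d.orderOf_z]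
  have hKw := card_centralizer_involution hna S d hw2
  have hsub : ∀ {b : ℕ}, (∃ A : Subgroup X, Nat.card A = r ^ b ∧ ∀ c ∈ A, c * w = w * c) →
      b ≤ padicValNat r (Nat.card (centralizer ({(d.z : T)} : Set T))) := by
    rintro b ⟨A, hA, hAc⟩
    have hle : A.map X.subtype ≤ centralizer ({(w : T)} : Set T) := by
      rintro _ ⟨c, hc, rfl⟩
      exact mem_centralizer_singleton_iff.2 (congrArg Subtype.val (hAc c hc))
    have hd := card_dvd_of_le hle
    rw [card_map_of_injective X.subtype_injective, hA, hKw] at hd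
    exact (padicValNat_dvd_iff_le Nat.card_pos.ne').1 hd
  refine ⟨Rx, ?_, fun h => ?_⟩
  swap
  · rw [hva]
    exact hsub ⟨Px, hPxc, fun c hc => hfull h c hc w hwR⟩
  haveI : IsCyclic (Px : Subgroup X) := hodd.subgroup X r hr.out hr2 _ Px.2
  haveI : IsMulCommutative (Px : Subgroup X) := IsCyclic.isMulCommutative
  obtain ⟨c, hc⟩ := IsCyclic.exists_generator (α := (Px : Subgroup X))
  have hoc : orderOf (c : X) = r ^ a := by
    rw [orderOf_coe, orderOf_eq_card_of_forall_mem_zpowers hc, hPxc]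
  have hc3 : ∀ y ∈ zpowers ((c : X) ^ 3), y * w = w * y := by
    rintro _ ⟨j, rfl⟩
    exact ((show Commute ((c : X) ^ 3) w from hcube c c.2 w hwR).zpow_left j).eq
  rw [hva]
  by_cases hr3 : r = 3
  · subst hr3
    rw [if_pos rfl]
    rcases Nat.eq_zero_or_pos a with ha0 | ha0
    · omega
    · have := hsub (b := a - 1) ⟨zpowers ((c : X) ^ 3), by
        rw [Nat.card_zpowers, orderOf_pow' _ (by norm_num), hoc,
          Nat.gcd_eq_right (dvd_pow_self 3 ha0.ne'), ← Nat.pow_div ha0 (by norm_num), pow_one], hc3⟩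
      omega
  · rw [if_neg hr3, add_zero]
    refine hsub ⟨zpowers ((c : X) ^ 3), ?_, hc3⟩
    rw [Nat.card_zpowers, Nat.Coprime.orderOf_pow]
    · exact hoc
    · rw [hoc]
      exact ((Nat.coprime_primes hr.out Nat.prime_three).2 hr3).pow_left a

/-- For an involution of `S` other than `z` some element of `S` moves it to `t z`. -/
theorem exists_shift {S : Subgroup T} {n : ℕ} (d : Cfsg.Lib.TwoGroup.SD S n) {t : S} (ht : orderOf t = 2)
    (htz : t ≠ d.z) : ∃ s : S, ⁅s, t⁆ = d.z := by
  rcases d.involution_cases ht with h | ⟨i, rfl⟩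
  · exact absurd h htz
  refine ⟨d.x ^ Cfsg.Lib.TwoGroup.SD.P n, ?_⟩
  obtain ⟨q, hq⟩ := d.P_even
  have hinv : (d.x ^ (2 * i) * d.y)⁻¹ = d.y * d.x ^ (-(2 * i)) := by
    rw [_root_.mul_inv_rev, zpow_neg, inv_eq_of_mul_eq_one_right d.yy]
  rw [commutatorElement_def, d.conj_x, hinv, mul_assoc, ← mul_assoc d.y, d.yy, one_mul, ← zpow_add,
    Cfsg.Lib.TwoGroup.SD.z, d.zx]
  exact ⟨-q, by rw [hq]; ring⟩

end Cfsg.Lib.AlmostCyc.SDLocal
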