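import Cfsg.Agent.Lib.AlmostCyc.SDLinear
import Mathlib

/-!
# Semidihedral exclusion: facts about `SL₂(3)`
-/

set_option autoImplicit false
set_option linter.style.haveILetI false

namespace Cfsg.Lib.AlmostCyc.SDThree

open Subgroup Matrix

local notation "S3L" => Matrix.SpecialLinearGroup (Fin 2) (ZMod 3)

/-- The upper transvection. -/
def u₀ : S3L := ⟨!![1, 1; 0, 1], by decide⟩

/-- The lower transvection. -/
def v₀ : S3L := ⟨!![1, 0; 1, 1], by decide⟩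

theorem generators : ∀ s : S3L, ∃ i j k l : Fin 3,
    s = u₀ ^ (i : ℕ) * v₀ ^ (j : ℕ) * (u₀ ^ (k : ℕ) * v₀ ^ (l : ℕ)) := by
  decide +kernel

theorem eight_four : ∀ a : S3L, a ^ 8 = 1 → a ^ 4 = 1 := by
  decide +kernel

theorem four_mul : ∀ a b : S3L, a ^ 4 = 1 → b ^ 4 = 1 → (a * b) ^ 4 = 1 := by
  decide +kernel

set_option synthInstance.maxSize 2000 in
set_option synthInstance.maxHeartbeats 400000 in
theorem four_conj : ∀ a b : S3L, a ^ 4 = 1 → a ^ 2 ≠ 1 → b ^ 4 = 1 → b ^ 2 ≠ 1 → ∃ g : S3L, g * a = b * g := by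
  decide +kernel

theorem card_four : Fintype.card {a : S3L // a ^ 4 = 1} = 8 := by
  decide +kernel

/-- The possible images of the generators. -/
def Pairs : Type :=
  {w : S3L × S3L // (w.1 ^ 3 = 1 ∧ w.1 ≠ 1 ∧ w.2 ^ 3 = 1 ∧ w.2 ≠ 1) ∧
    (w.1 * w.2) ^ 4 = 1 ∧ (w.1 * w.2) ^ 2 ≠ 1}

theorem card_pairs : Fintype.card {w : S3L × S3L // (w.1 ^ 3 = 1 ∧ w.1 ≠ 1 ∧ w.2 ^ 3 = 1 ∧ w.2 ≠ 1) ∧
    (w.1 * w.2) ^ 4 = 1 ∧ (w.1 * w.2) ^ 2 ≠ 1} = 24 := by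
  decide +kernel

theorem base_pair : (u₀ ^ 3 = 1 ∧ u₀ ≠ 1 ∧ v₀ ^ 3 = 1 ∧ v₀ ≠ 1) ∧
    (u₀ * v₀) ^ 4 = 1 ∧ (u₀ * v₀) ^ 2 ≠ 1 := by
  decide +kernel

/-- `SL₂(3)` has at most 24 automorphisms. -/
theorem card_mulAut_le {N : Type*} [Group N] (e : N ≃* S3L) : Nat.card (MulAut N) ≤ 24 := by
  rw [Nat.card_congr (MulAut.congr e).toEquiv, ← card_pairs, ← Nat.card_eq_fintype_card]
  obtain ⟨⟨hu, hu1, hv, hv1⟩, h4, h2⟩ := base_pair
  refine Nat.card_le_card_of_injective (fun φ : MulAut S3L => (⟨(φ u₀, φ v₀), ⟨?_, ?_, ?_, ?_⟩, ?_, ?_⟩ :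
    {w : S3L × S3L // (w.1 ^ 3 = 1 ∧ w.1 ≠ 1 ∧ w.2 ^ 3 = 1 ∧ w.2 ≠ 1) ∧
    (w.1 * w.2) ^ 4 = 1 ∧ (w.1 * w.2) ^ 2 ≠ 1})) ?_
  · rw [← map_pow, hu, map_one]
  · exact fun h => hu1 (φ.injective (h.trans (map_one φ).symm))
  · rw [← map_pow, hv, map_one]
  · exact fun h => hv1 (φ.injective (h.trans (map_one φ).symm))
  · rw [← map_mul, ← map_pow, h4, map_one]
  · rw [← map_mul, ← map_pow]
    exact fun h => h2 (φ.injective (h.trans (map_one φ).symm))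
  · intro φ ψ h
    have h' := congrArg Subtype.val h
    have e1 : φ u₀ = ψ u₀ := congrArg Prod.fst h'
    have e2 : φ v₀ = ψ v₀ := congrArg Prod.snd h'
    ext1 s
    obtain ⟨i, j, k, l, rfl⟩ := generators s
    rw [map_mul, map_mul, map_mul, map_mul, map_mul, map_mul, map_pow, map_pow, map_pow, map_pow,
      map_pow, map_pow, map_pow, map_pow, e1, e2]

end Cfsg.Lib.AlmostCyc.SDThree
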