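import Cfsg.Agent.Lib.AlmostCyc.Structure
import Cfsg.Agent.Lib.AlmostCyc.SDLinear
import Cfsg.Agent.Lib.AlmostCyc.SDThree
import Cfsg.Agent.Lib.AlmostCyc.SDAux
import Cfsg.Agent.Lib.Linear.DicksonTwo
import Mathlib

/-!
# Semidihedral exclusion: a core-free group `SL₂(p).2`

`H` has trivial odd core, almost cyclic 2-subgroups and a normal subgroup `N ≅ SL₂(p)` of index two.
-/

set_option autoImplicit false
set_option linter.style.haveILetI false
set_option maxHeartbeats 600000

namespace Cfsg.Lib.AlmostCyc.SDQuot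

open Subgroup Matrix Cfsg.Lib.Linear.AutPSL
open scoped commutatorElement

universe u

variable {p : ℕ} [Fact p.Prime]

local notation "SLp" => Matrix.SpecialLinearGroup (Fin 2) (ZMod p)
local notation "PSLp" => Matrix.ProjectiveSpecialLinearGroup (Fin 2) (ZMod p)

theorem two_ne_zero' (hp : p ≠ 2) : (2 : ZMod p) ≠ 0 := by
  have h : ((2 : ℕ) : ZMod p) ≠ 0 := fun h => hp (((Nat.prime_dvd_prime_iff_eq Fact.out Nat.prime_two).1
    ((ZMod.natCast_eq_zero_iff _ _).1 h)))
  simpa using h

theorem odd_card (hp : p ≠ 2) : Odd (Fintype.card (ZMod p)) := by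
  rw [ZMod.card]; exact (Fact.out : p.Prime).odd_of_ne_two hp

theorem card_center (hp : p ≠ 2) : Nat.card (center SLp) = 2 := by
  rw [Cfsg.Lib.Linear.card_center_SL, Fintype.card_fin, ZMod.card]
  obtain ⟨m, hm⟩ := (Fact.out : p.Prime).odd_of_ne_two hp
  exact Nat.gcd_eq_left ⟨m, by omega⟩

/-- `SL₂(p)` has no normal subgroup of index two. -/
theorem hom_two_trivial (hp : p ≠ 2) {A : Type*} [Group A] (f : SLp →* A)
    (hA : ∀ s, f s * f s = 1) : f = 1 := by
  have hle : Subgroup.closure {t : SLp | ∃ (i j : Fin 2) (h : i ≠ j) (c : ZMod p),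
      t = SpecialLinearGroup.transvection h c} ≤ f.ker := by
    rw [closure_le]
    rintro t ⟨i, j, h, c, rfl⟩
    have hpow : ∀ n : ℕ, (SpecialLinearGroup.transvection h c) ^ n =
        SpecialLinearGroup.transvection h (n • c) := by
      intro n
      induction n with
      | zero => rw [pow_zero, zero_smul, SpecialLinearGroup.transvection_coeff_zero]
      | succ n ih =>
        rw [pow_succ, ih]
        apply Subtype.ext
        show Matrix.transvection i j (n • c) * Matrix.transvection i j c =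
          Matrix.transvection i j ((n + 1) • c)
        rw [Matrix.transvection_mul_transvection_same _ _ h, succ_nsmul]
    obtain ⟨m, hm⟩ := (Fact.out : p.Prime).odd_of_ne_two hp
    have h1 : f (SpecialLinearGroup.transvection h c) ^ p = 1 := by
      rw [← map_pow, hpow, nsmul_eq_mul, ZMod.natCast_self, zero_mul,
        SpecialLinearGroup.transvection_coeff_zero, map_one]
    replace h1 : f (SpecialLinearGroup.transvection h c) ^ (2 * m + 1) = 1 :=
      (congrArg (fun k => f (SpecialLinearGroup.transvection h c) ^ k) hm).symm.trans h1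
    rw [pow_succ, pow_mul, sq, hA, one_pow, one_mul] at h1
    exact MonoidHom.mem_ker.2 h1
  rw [Cfsg.Lib.Linear.closure_transvection_eq_top, top_le_iff] at hle
  exact MonoidHom.ker_eq_top_iff.1 hle

/-- `PSL₂(p)` has no cyclic Sylow 2-subgroup. -/
theorem not_isCyclic_sylow_psl (hp : p ≠ 2) {B : Type*} [Group B] [Finite B] (e : B ≃* PSLp)
    (S : Sylow 2 B) : ¬ IsCyclic (S : Subgroup B) := by
  intro hcyc
  haveI : Fact (Nat.Prime 2) := ⟨Nat.prime_two⟩
  obtain ⟨a, b, ha, hb, ha1, hb1, hab, hc, -, -⟩ :=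
    Cfsg.Lib.GW.PGL.exists_fixed_four (F := ZMod p) (odd_card hp) (RingEquiv.refl _)
  let W : Subgroup PSLp := closure {a, b}
  haveI : IsMulCommutative W := Subgroup.isMulCommutative_closure
    (by rintro x (rfl | rfl) y (rfl | rfl) <;> first | rfl | exact hc | exact hc.symm)
  have hsq : ∀ x ∈ W, x * x = 1 := by
    intro x hx
    induction hx using closure_induction with
    | mem x hx => rcases hx with rfl | rfl <;> assumption
    | one => exact one_mul 1
    | mul x y hx hy h1 h2 =>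
      have hxy : Commute x y := congrArg Subtype.val
        (IsMulCommutative.is_comm.comm (⟨x, hx⟩ : W) ⟨y, hy⟩)
      calc x * y * (x * y) = x * (y * x) * y := by simp only [mul_assoc]
        _ = x * (x * y) * y := by rw [hxy.eq]
        _ = (x * x) * (y * y) := by simp only [mul_assoc]
        _ = 1 := by rw [h1, h2, one_mul]
    | inv x _ h => rw [← _root_.mul_inv_rev, h, inv_one]
  have hW : IsPGroup 2 W := fun x => ⟨1, Subtype.ext (by
    rw [pow_one, SubmonoidClass.coe_pow, sq, hsq _ x.2]; rfl)⟩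
  obtain ⟨T, hT⟩ := (hW.map e.symm.toMonoidHom).exists_le_sylow
  haveI : IsCyclic (T : Subgroup B) := isCyclic_of_surjective (S.equiv T).toMonoidHom (S.equiv T).surjective
  have hm : ∀ x ∈ W, ((e.symm x) : B) ∈ (T : Subgroup B) := fun x hx => hT (mem_map_of_mem _ hx)
  have ho : ∀ x : PSLp, x * x = 1 → x ≠ 1 → orderOf (e.symm x) = 2 := fun x h1 h2 => by
    rw [MulEquiv.orderOf_eq]; exact Cfsg.Lib.Invol.orderOf_eq_two_of h2 h1
  have h := Cfsg.Lib.Invol.eq_of_pow_two_group_cyclic (C := (T : Subgroup B)) inferInstance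
    (hm a (subset_closure (Or.inl rfl))) (hm b (subset_closure (Or.inr rfl))) (ho a ha ha1) (ho b hb hb1)
  exact hab (e.symm.injective h)

variable {H : Type u} [Group H] [Finite H] (hp : p ≠ 2) (N : Subgroup H) [N.Normal]
  (e : N ≃* Matrix.SpecialLinearGroup (Fin 2) (ZMod p))

/-- The centre of `N` inside `H`. -/
def zN : Subgroup H := (center N).map N.subtype

instance zN_normal : (zN N).Normal := Cfsg.Lib.Core.normal_map_char_of_normal _

theorem zN_le : zN N ≤ N := map_subtype_le _

include hp e in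
theorem card_zN : Nat.card (zN N) = 2 := by
  rw [zN, card_map_of_injective N.subtype_injective, ← card_center (p := p) hp,
    ← Cfsg.Lib.Dickson.map_center_mulEquiv e, card_map_of_injective (f := e.toMonoidHom) e.injective]

include hp e in
theorem mem_zN_of_sq {x : H} (hx : x ∈ N) (h : x * x = 1) : x ∈ zN N := by
  refine ⟨⟨x, hx⟩, ?_, rfl⟩
  have h1 : e ⟨x, hx⟩ * e ⟨x, hx⟩ = 1 := by
    rw [← map_mul, ← map_one e]
    exact congrArg e (Subtype.ext h)
  have h2 := Cfsg.Lib.Linear.Dickson.mem_center_of_sq_eq_one (two_ne_zero' hp) h1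
  rw [← Cfsg.Lib.Dickson.map_center_mulEquiv e] at h2
  obtain ⟨y, hy, hye⟩ := h2
  rwa [← e.injective hye]

include hp e in
theorem central_zN {z : H} (hz : z ∈ zN N) (h : H) : h * z = z * h := by
  obtain ⟨a, ha, hab⟩ : ∃ a, a ∈ zN N ∧ a ≠ 1 := by
    by_contra hc
    push Not at hc
    have : zN N = ⊥ := (eq_bot_iff_forall _).2 hc
    have h2 := card_zN hp N e
    rw [this, card_bot] at h2
    omega
  have hu : ∀ b ∈ zN N, b = 1 ∨ b = a := fun b hb => by
    by_contra hne
    push Not at hne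
    have h3 : ({1, a, b} : Set H) ⊆ (zN N : Set H) := by
      rintro x (rfl | rfl | rfl)
      exacts [one_mem _, ha, hb]
    have h4 := Set.ncard_le_ncard h3 (Set.toFinite _)
    have h5 : (zN N : Set H).ncard = 2 := by rw [← Nat.card_coe_set_eq]; exact card_zN hp N e
    rw [h5, Set.ncard_insert_of_notMem (by simp [Ne.symm hab, hne.1.symm]),
      Set.ncard_pair hne.2.symm] at h4
    omega
  have hc : h * z * h⁻¹ ∈ zN N := (zN_normal N).conj_mem z hz h
  rcases hu z hz with rfl | rfl
  · rw [mul_one, one_mul]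
  · rcases hu _ hc with h1 | h1
    · exact absurd (conj_eq_one_iff.1 h1) hab
    · exact mul_inv_eq_iff_eq_mul.1 h1

include hp e in
theorem psl_equiv : Nonempty (N.map (QuotientGroup.mk' (zN N)) ≃* PSLp) := by
  let g : N →* N.map (QuotientGroup.mk' (zN N)) := (QuotientGroup.mk' (zN N)).subgroupMap N
  have hk : g.ker = center N := by
    ext x
    rw [MonoidHom.mem_ker]
    constructor
    · intro h
      obtain ⟨y, hy, hyx⟩ := (QuotientGroup.eq_one_iff _).1 (congrArg Subtype.val h)
      rwa [← Subtype.ext hyx]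
    · intro h
      exact Subtype.ext ((QuotientGroup.eq_one_iff _).2 ⟨x, h, rfl⟩)
  exact ⟨((QuotientGroup.quotientKerEquivOfSurjective g
    ((QuotientGroup.mk' (zN N)).subgroupMap_surjective N)).symm.trans (QuotientGroup.quotientMulEquivOfEq hk)).trans
    (QuotientGroup.congr _ _ e (Cfsg.Lib.Dickson.map_center_mulEquiv e))⟩

include hp e in
/-- `N` is self centralizing up to its centre. -/
theorem centralizer_le (h2 : TwoHalf H) (hO : oddCore H = ⊥) : centralizer (N : Set H) ≤ zN N := by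
  haveI : Fact (Nat.Prime 2) := ⟨Nat.prime_two⟩
  set C := centralizer (N : Set H) with hC
  set Z := zN N
  set f := QuotientGroup.mk' Z with hf
  have hZC : Z ≤ C := fun z hz => mem_centralizer_iff.2 fun y _ => central_zN hp N e hz y
  obtain ⟨eB⟩ := psl_equiv hp N e
  have hodd' : Odd (Z.relIndex C) := by
    rw [Nat.odd_iff, ← Nat.two_dvd_ne_zero]
    intro hd2
    have hA : 2 ∣ Nat.card (C.map f) := by
      have h := relIndex_ker (K := C) f
      rw [hf, QuotientGroup.ker_mk'] at h
      rwa [h] at hd2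
    have hd : C.map f ⊓ N.map f = ⊥ := by
      rw [eq_bot_iff]
      rintro _ ⟨⟨a, ha, rfl⟩, b, hb, hab⟩
      rw [mem_bot, hf, QuotientGroup.mk'_apply, QuotientGroup.eq_one_iff]
      have h1 : b⁻¹ * a ∈ Z := QuotientGroup.eq.1 hab
      have haN : a ∈ N := (mul_mem_cancel_left (N.inv_mem hb)).1 (zN_le N h1)
      refine ⟨⟨a, haN⟩, mem_center_iff.2 fun y => Subtype.ext ?_, rfl⟩
      exact mem_centralizer_iff.1 ha y y.2
    have hc : ⁅C.map f, N.map f⁆ = ⊥ := by
      rw [← map_commutator, commutator_eq_bot_iff_le_centralizer.2 le_rfl, Subgroup.map_bot]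
    exact (h2.quotient Z).false_of_pair hA hd hc fun S => not_isCyclic_sylow_psl hp eB S
  set Zr := Z.subgroupOf C with hZr
  haveI : Zr.Normal := inferInstance
  have hcopr : (Nat.card Zr).Coprime Zr.index := by
    rw [Nat.card_congr (subgroupOfEquivOfLe hZC).toEquiv, card_zN hp N e]
    exact Nat.coprime_two_left.2 hodd'
  obtain ⟨K, hK⟩ := exists_right_complement'_of_coprime hcopr
  haveI hKn : K.Normal := ⟨fun h hh x => by
    obtain ⟨⟨z, k⟩, rfl⟩ := hK.2 x
    have hk : (k : C) * h * (k : C)⁻¹ ∈ K := K.mul_mem (K.mul_mem k.2 hh) (K.inv_mem k.2)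
    have hzc : ∀ w : C, (z : C) * w = w * z := fun w => Subtype.ext (central_zN hp N e z.2 w).symm
    show (z : C) * k * h * ((z : C) * k)⁻¹ ∈ K
    rw [show (z : C) * k * h * ((z : C) * k)⁻¹ = (z : C) * (k * h * (k : C)⁻¹) * (z : C)⁻¹ by group,
      hzc, mul_inv_cancel_right]
    exact hk⟩
  have hKodd : (Nat.card K).Coprime 2 := by
    rw [hK.symm.index_eq_card.symm]
    exact Nat.coprime_two_right.2 hodd'
  have hle : K ≤ Cfsg.pPrimeCore 2 C := Cfsg.Lib.Core.le_pPrimeCore hKodd
  have hO' : (Cfsg.pPrimeCore 2 C).map C.subtype ≤ oddCore H := by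
    refine Cfsg.Lib.ZStar.le_oddCore (Cfsg.Lib.Core.normal_map_char_of_normal _) ?_
    rw [card_map_of_injective C.subtype_injective]
    exact Nat.coprime_two_right.1 (Cfsg.Lib.Core.pPrimeCore_coprime 2 C)
  intro x hx
  obtain ⟨⟨z, k⟩, hzk⟩ := hK.2 ⟨x, hx⟩
  have hk1 : ((k : C) : H) = 1 := mem_bot.1 (hO ▸ hO' (mem_map_of_mem _ (hle k.2)))
  have : x = ((z : C) : H) * ((k : C) : H) := congrArg Subtype.val hzk.symm
  rw [this, hk1, mul_one]
  exact z.2

include hp e in
/-- The image of `N` is self centralizing. -/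
theorem centralizer_map_eq_bot (h2 : TwoHalf H) (hO : oddCore H = ⊥) :
    centralizer ((N.map (QuotientGroup.mk' (zN N)) : Subgroup (H ⧸ zN N)) : Set (H ⧸ zN N)) = ⊥ := by
  rw [eq_bot_iff]
  intro x hx
  obtain ⟨h, rfl⟩ := QuotientGroup.mk'_surjective _ x
  rw [mem_bot, QuotientGroup.mk'_apply, QuotientGroup.eq_one_iff]
  apply centralizer_le hp N e h2 hO
  have hz : ∀ n ∈ N, ⁅h, n⁆ ∈ zN N := fun n hn => by
    rw [← QuotientGroup.eq_one_iff, ← QuotientGroup.mk'_apply, map_commutatorElement,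
      commutatorElement_eq_one_iff_mul_comm]
    exact (mem_centralizer_iff.1 hx _ (mem_map_of_mem _ hn)).symm
  let f : N →* zN N :=
    { toFun := fun n => ⟨⁅h, (n : H)⁆, hz n n.2⟩
      map_one' := Subtype.ext (by simp [commutatorElement_def])
      map_mul' := fun a b => Subtype.ext (by
        show ⁅h, (a : H) * b⁆ = ⁅h, (a : H)⁆ * ⁅h, (b : H)⁆
        have hc := central_zN hp N e (hz b b.2) a
        calc ⁅h, (a : H) * b⁆ = h * a * h⁻¹ * (⁅h, (b : H)⁆) * (a : H)⁻¹ := by
              simp only [commutatorElement_def]; group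
          _ = h * a * h⁻¹ * ((a : H)⁻¹ * ⁅h, (b : H)⁆) := by
              rw [mul_assoc, central_zN hp N e (hz b b.2) (a : H)⁻¹]
          _ = ⁅h, (a : H)⁆ * ⁅h, (b : H)⁆ := by simp only [commutatorElement_def]; group) }
  have hsq : ∀ z : zN N, z * z = 1 := fun z => by
    have h1 := orderOf_dvd_natCard z
    rw [card_zN hp N e, orderOf_dvd_iff_pow_eq_one, sq] at h1
    exact h1
  have hf := hom_two_trivial hp (f.comp e.symm.toMonoidHom) fun s => hsq _
  rw [mem_centralizer_iff]
  intro n hn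
  have h1 : f ⟨n, hn⟩ = 1 := by
    have := DFunLike.congr_fun hf (e ⟨n, hn⟩)
    simpa using this
  exact (commutatorElement_eq_one_iff_mul_comm.1 (congrArg Subtype.val h1)).symm

include hp e in
/-- The centralizer of an involution outside `N`, inverted by some element of `H`. -/
theorem card_centralizer (h2 : TwoHalf H) (hO : oddCore H = ⊥) (hidx : N.index = 2) {t s : H}
    (ht : t * t = 1) (htN : t ∉ N) (hs : ⁅s, t⁆ ∈ zN N) (hs1 : ⁅s, t⁆ ≠ 1) :
    (p % 4 = 1 → Nat.card (centralizer ({t} : Set H)) = 2 * (p + 1)) ∧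
    (p % 4 = 3 → Nat.card (centralizer ({t} : Set H)) = 2 * (p - 1)) := by
  set Z := zN N
  set f := QuotientGroup.mk' Z with hf
  have hfs : Function.Surjective f := QuotientGroup.mk'_surjective Z
  set E := N.map f with hE
  haveI : E.Normal := Normal.map inferInstance f hfs
  obtain ⟨eE⟩ := psl_equiv hp N e
  have hC : centralizer (E : Set (H ⧸ Z)) = ⊥ := centralizer_map_eq_bot hp N e h2 hO
  have hodd := odd_card (p := p) hp
  set a := Cfsg.Lib.GW.PGL.autHom eE with ha
  have hinj : Function.Injective a := Cfsg.Lib.GW.PGL.autHom_injective eE hC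
  have hEi : E.index = 2 := by
    rw [hE, N.index_map_eq hfs (by rw [hf, QuotientGroup.ker_mk']; exact zN_le N), hidx]
  have hrange : a.range = (innd : GL (Fin 2) (ZMod p) →* MulAut PSLp).range := by
    refine eq_of_le_of_card_ge ?_ ?_
    · rintro _ ⟨x, rfl⟩
      obtain ⟨A, σ, hA⟩ := Cfsg.Lib.GW.PGL.exists_decomp_two (a x)
      have hσ : σ = 1 := RingEquiv.ext fun z => by
        have := RingHom.congr_fun (Subsingleton.elim σ.toRingHom (RingHom.id (ZMod p))) z
        simpa using this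
      exact ⟨A, by rw [hA, hσ, map_one, mul_one]⟩
    · rw [Cfsg.Lib.GW.PGL.card_innd_range, Cfsg.Lib.GW.PGL.card_pgl_eq hodd,
        ← Nat.card_congr eE.toEquiv, ← Nat.card_congr (MonoidHom.ofInjective hinj).toEquiv,
        ← card_mul_index E, hEi, mul_comm]
  obtain ⟨A, hA⟩ : a (f t) ∈ (innd : GL (Fin 2) (ZMod p) →* MulAut PSLp).range := hrange ▸ ⟨f t, rfl⟩
  have hsq : (innd A : MulAut PSLp) * innd A = 1 := by rw [hA, ← map_mul, ← map_mul, ht, map_one, map_one]
  have hout : ∀ w : PSLp, (innd A : MulAut PSLp) ≠ MulAut.conj w := fun w hw => by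
    rw [hA] at hw
    have h1 : a (f t) = a (eE.symm w : H ⧸ Z) := by
      rw [hw, ha, Cfsg.Lib.GW.PGL.autHom_mem eE (eE.symm w).2]
      simp
    obtain ⟨n, hn, hnt⟩ := (eE.symm w).2
    have h3 : n⁻¹ * t ∈ Z := QuotientGroup.eq.1 (hnt.trans (hinj h1).symm)
    exact htN ((mul_mem_cancel_left (N.inv_mem hn)).1 (zN_le N h3))
  have hmap : (centralizer ({f t} : Set (H ⧸ Z))).map a =
      (innd : GL (Fin 2) (ZMod p) →* MulAut PSLp).range ⊓ centralizer ({innd A} : Set (MulAut PSLp)) := by
    ext β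
    rw [mem_inf, ← hrange, mem_centralizer_singleton_iff]
    constructor
    · rintro ⟨x, hx, rfl⟩
      refine ⟨⟨x, rfl⟩, ?_⟩
      rw [hA, ← map_mul, ← map_mul, mem_centralizer_singleton_iff.1 hx]
    · rintro ⟨⟨x, rfl⟩, hx⟩
      refine ⟨x, mem_centralizer_singleton_iff.2 (hinj ?_), rfl⟩
      rw [map_mul, map_mul, ← hA]
      exact hx
  -- from the quotient to `H`
  set P := (centralizer ({f t} : Set (H ⧸ Z))).comap f with hP
  have hmemP : ∀ h : H, h ∈ P ↔ ⁅h, t⁆ ∈ Z := fun h => by
    rw [hP, mem_comap, mem_centralizer_singleton_iff, ← QuotientGroup.eq_one_iff,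
      ← QuotientGroup.mk'_apply, ← hf, map_commutatorElement, commutatorElement_eq_one_iff_mul_comm]
  let δ : P →* Z :=
    { toFun := fun h => ⟨⁅(h : H), t⁆, (hmemP h).1 h.2⟩
      map_one' := Subtype.ext (by simp [commutatorElement_def])
      map_mul' := fun x y => Subtype.ext (by
        show ⁅(x : H) * y, t⁆ = ⁅(x : H), t⁆ * ⁅(y : H), t⁆
        have hy := central_zN hp N e ((hmemP y).1 y.2)
        calc ⁅(x : H) * y, t⁆ = (x : H) * ⁅(y : H), t⁆ * (t * (x : H)⁻¹ * t⁻¹) := by
              simp only [commutatorElement_def]; group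
          _ = ⁅(y : H), t⁆ * ⁅(x : H), t⁆ := by
              rw [hy (x : H)]; simp only [commutatorElement_def]; group
          _ = ⁅(x : H), t⁆ * ⁅(y : H), t⁆ := (hy _).symm) }
  have hδ : Function.Surjective δ := by
    intro w
    have hcard := card_zN hp N e
    rcases eq_or_ne w 1 with rfl | hw
    · exact ⟨1, map_one δ⟩
    · refine ⟨⟨s, (hmemP s).2 hs⟩, ?_⟩
      haveI : Fintype Z := Fintype.ofFinite _
      classical
      by_contra hne
      have h1 : (⟨⁅s, t⁆, hs⟩ : Z) ≠ 1 := fun h => hs1 (congrArg Subtype.val h)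
      have hne' : (⟨⁅s, t⁆, hs⟩ : Z) ≠ w := hne
      have := Finset.card_le_univ ({1, (⟨⁅s, t⁆, hs⟩ : Z), w} : Finset Z)
      classical
      rw [Finset.card_insert_of_notMem (by simp [Ne.symm h1, Ne.symm hw]),
        Finset.card_pair hne', ← Nat.card_eq_fintype_card, hcard] at this
      omega
  have hker : Nat.card δ.ker = Nat.card (centralizer ({t} : Set H)) := by
    refine Nat.card_congr
      { toFun := fun x => ⟨(x : P), mem_centralizer_singleton_iff.2
          (commutatorElement_eq_one_iff_mul_comm.1 (congrArg Subtype.val (MonoidHom.mem_ker.1 x.2)))⟩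
        invFun := fun x => ⟨⟨x, (hmemP x).2 (by
            rw [commutatorElement_eq_one_iff_mul_comm.2 (mem_centralizer_singleton_iff.1 x.2)]
            exact one_mem _)⟩,
          MonoidHom.mem_ker.2 (Subtype.ext
            (commutatorElement_eq_one_iff_mul_comm.2 (mem_centralizer_singleton_iff.1 x.2)))⟩
        left_inv := fun x => rfl
        right_inv := fun x => rfl }
  have h1 : Nat.card P = 2 * Nat.card (centralizer ({t} : Set H)) := by
    rw [← hker, ← card_mul_index δ.ker, index_ker, MonoidHom.range_eq_top.2 hδ, card_top, card_zN hp N e,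
      mul_comm]
  have h3 : Nat.card P = 2 * Nat.card (centralizer ({f t} : Set (H ⧸ Z))) := by
    rw [hP, Cfsg.Lib.Core.card_comap_eq f hfs, hf, QuotientGroup.ker_mk', card_zN hp N e]
  have h4 : Nat.card (centralizer ({t} : Set H)) = Nat.card ↥((innd : GL (Fin 2) (ZMod p) →* MulAut PSLp).range ⊓
      centralizer ({innd A} : Set (MulAut PSLp))) := by
    rw [← hmap]
    exact (Nat.eq_of_mul_eq_mul_left two_pos (h1.symm.trans h3)).trans (card_map_of_injective hinj).symm
  have := SDLinear.card_centralizer_outer hodd hsq hout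
  rw [ZMod.card] at this
  rw [h4]
  exact this

include hp e in
/-- A normal subgroup containing an involution outside `N` is everything. -/
theorem normal_eq_top (h2 : TwoHalf H) (hO : oddCore H = ⊥) (hidx : N.index = 2)
    (S : Sylow 2 H) (hS : Cfsg.IsQuasiDihedral (S : Subgroup H)) {t : H}
    (htN : t ∉ N) (M : Subgroup H) [M.Normal] (htM : t ∈ M) : M = ⊤ := by
  haveI : Fact (Nat.Prime 2) := ⟨Nat.prime_two⟩
  -- a noncentral element of `N` in `M`
  obtain ⟨a, haN, haM, haZ⟩ : ∃ a ∈ N, a ∈ M ∧ a ∉ zN N := by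
    by_contra hno
    push Not at hno
    refine htN (zN_le N (centralizer_le hp N e h2 hO (mem_centralizer_iff.2 fun n hn => ?_)))
    have hbot := centralizer_map_eq_bot hp N e h2 hO
    have hcm : ⁅t, n⁆ ∈ zN N := by
      refine hno _ ?_ ?_
      · rw [commutatorElement_def]
        exact N.mul_mem ((inferInstance : N.Normal).conj_mem n hn t) (N.inv_mem hn)
      · rw [commutatorElement_def, show t * n * t⁻¹ * n⁻¹ = t * (n * t⁻¹ * n⁻¹) by group]
        exact M.mul_mem htM ((inferInstance : M.Normal).conj_mem _ (M.inv_mem htM) n)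
    by_contra hne
    have h1 : QuotientGroup.mk' (zN N) t ∈
        centralizer ((N.map (QuotientGroup.mk' (zN N)) : Subgroup (H ⧸ zN N)) : Set (H ⧸ zN N)) := by
      rw [mem_centralizer_iff]
      rintro _ ⟨m, hm, rfl⟩
      have hcm' : ⁅t, m⁆ ∈ zN N := by
        refine hno _ ?_ ?_
        · rw [commutatorElement_def]
          exact N.mul_mem ((inferInstance : N.Normal).conj_mem m hm t) (N.inv_mem hm)
        · rw [commutatorElement_def, show t * m * t⁻¹ * m⁻¹ = t * (m * t⁻¹ * m⁻¹) by group]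
          exact M.mul_mem htM ((inferInstance : M.Normal).conj_mem _ (M.inv_mem htM) m)
      refine (commutatorElement_eq_one_iff_mul_comm.1 ?_).symm
      rw [← map_commutatorElement, QuotientGroup.mk'_apply, QuotientGroup.eq_one_iff]
      exact hcm'
    rw [hbot, mem_bot, QuotientGroup.mk'_apply, QuotientGroup.eq_one_iff] at h1
    exact htN (zN_le N h1)
  -- it suffices that `N ≤ M`
  suffices hNle : N ≤ M by
    rw [eq_top_iff' M]
    intro x
    by_cases hx : x ∈ N
    · exact hNle hx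
    · have : x * t⁻¹ ∈ M := hNle ((mul_mem_iff_of_index_two hidx).2
        ⟨fun h => absurd h hx, fun h => absurd (by simpa using N.inv_mem h) htN⟩)
      exact (mul_mem_cancel_right (M.inv_mem htM)).1 this
  set M₁ : Subgroup SLp := (M.subgroupOf N).map e.toMonoidHom with hM₁
  haveI : M₁.Normal := Normal.map inferInstance _ e.surjective
  have haM₁ : e ⟨a, haN⟩ ∈ M₁ := mem_map_of_mem _ (mem_subgroupOf.2 haM)
  have haM₁c : e ⟨a, haN⟩ ∉ center SLp := fun h => by
    rw [← Cfsg.Lib.Dickson.map_center_mulEquiv e] at h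
    obtain ⟨y, hy, hye⟩ := h
    exact haZ ⟨y, hy, congrArg Subtype.val (e.injective hye)⟩
  suffices hM₁top : M₁ = ⊤ by
    intro n hn
    obtain ⟨y, hy, hye⟩ := (hM₁top ▸ mem_top (e ⟨n, hn⟩) : e ⟨n, hn⟩ ∈ M₁)
    replace hy : (y : H) ∈ M := hy
    rwa [e.injective hye] at hy
  rcases (by have := (Fact.out : p.Prime).two_le; omega : p = 3 ∨ 4 ≤ p) with rfl | hp4
  swap
  · have hs := Cfsg.Lib.Linear.PSL_simple (F := ZMod p) 2 le_rfl (fun _ => by
      rw [Nat.card_zmod]; exact hp4)
    let π : SLp →* PSLp := QuotientGroup.mk' _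
    rcases Subgroup.Normal.eq_bot_or_eq_top (Normal.map (inferInstance : M₁.Normal) π
        (QuotientGroup.mk'_surjective _)) with h | h
    · rw [Subgroup.map_eq_bot_iff, QuotientGroup.ker_mk'] at h
      exact absurd (h haM₁) haM₁c
    · have h' : M₁ ⊔ center SLp = ⊤ := by
        have := congrArg (comap π) h
        rwa [comap_map_eq, QuotientGroup.ker_mk', comap_top] at this
      rw [eq_top_iff, ← Cfsg.Lib.Linear.commutator_SL_eq_top' (ι := Fin 2) (F := ZMod p)
        (Or.inr (by rw [ZMod.card]; exact hp4)), _root_.commutator_def, commutator_le]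
      intro x _ y _
      have hd : ∀ w : SLp, ∃ m ∈ M₁, ∃ c ∈ center SLp, w = m * c := fun w => by
        have hw : w ∈ ((M₁ ⊔ center SLp : Subgroup SLp) : Set SLp) := by rw [h']; exact mem_top w
        rw [normal_mul M₁ (center SLp)] at hw
        obtain ⟨m, hm, c, hc, hmc⟩ := hw
        exact ⟨m, hm, c, hc, hmc.symm⟩
      obtain ⟨m, hm, c, hc, rfl⟩ := hd x
      obtain ⟨m', hm', c', hc', rfl⟩ := hd y
      have hcc : ∀ w : SLp, c * w = w * c := fun w => (mem_center_iff.1 hc w).symm
      have hcc' : ∀ w : SLp, c' * w = w * c' := fun w => (mem_center_iff.1 hc' w).symm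
      have : ⁅m * c, m' * c'⁆ = ⁅m, m'⁆ := by
        simp only [commutatorElement_def, _root_.mul_inv_rev]
        calc m * c * (m' * c') * (c⁻¹ * m⁻¹) * (c'⁻¹ * m'⁻¹)
            = m * (c * m') * (c' * c⁻¹) * m⁻¹ * (c'⁻¹ * m'⁻¹) := by simp only [mul_assoc]
          _ = m * (m' * c) * (c⁻¹ * c') * m⁻¹ * (c'⁻¹ * m'⁻¹) := by rw [hcc m', hcc' c⁻¹]
          _ = m * m' * (c' * m⁻¹) * (c'⁻¹ * m'⁻¹) := by group
          _ = m * m' * (m⁻¹ * c') * (c'⁻¹ * m'⁻¹) := by rw [hcc' m⁻¹]
          _ = m * m' * m⁻¹ * m'⁻¹ := by group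
      rw [this, commutatorElement_def]
      exact M₁.mul_mem (M₁.mul_mem (M₁.mul_mem hm hm') (M₁.inv_mem hm)) (M₁.inv_mem hm')
  -- `p = 3`: all elements of order four lie in `M₁`
  have h24 : Nat.card (Matrix.SpecialLinearGroup (Fin 2) (ZMod 3)) = 24 := by
    rw [Cfsg.Lib.Linear.Two.card_SL_two, ZMod.card]; norm_num
  set v := e ⟨a, haN⟩
  have hv2 : v * v ≠ 1 := fun h =>
    haM₁c (Cfsg.Lib.Linear.Dickson.mem_center_of_sq_eq_one (two_ne_zero' hp) h)
  obtain ⟨w₀, hw4, hw2⟩ := (by decide +kernel : ∀ v : Matrix.SpecialLinearGroup (Fin 2) (ZMod 3), v * v ≠ 1 →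
    ∃ w : Matrix.SpecialLinearGroup (Fin 2) (ZMod 3),
      (v * (w * v⁻¹ * w⁻¹)) ^ 4 = 1 ∧ (v * (w * v⁻¹ * w⁻¹)) ^ 2 ≠ 1) v hv2
  set b := v * (w₀ * v⁻¹ * w₀⁻¹) with hb
  have hbM : b ∈ M₁ := M₁.mul_mem haM₁ ((inferInstance : M₁.Normal).conj_mem _ (M₁.inv_mem haM₁) w₀)
  let Q : Subgroup (Matrix.SpecialLinearGroup (Fin 2) (ZMod 3)) :=
    { carrier := {w | w ^ 4 = 1}
      one_mem' := one_pow 4
      mul_mem' := fun {x y} hx hy => SDThree.four_mul x y hx hy
      inv_mem' := fun {x} (hx : x ^ 4 = 1) => by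
        show x⁻¹ ^ 4 = 1
        rw [inv_pow, hx, inv_one] }
  have hQc : Nat.card Q = 8 := by
    rw [← SDThree.card_four, ← Nat.card_eq_fintype_card]; rfl
  have hQM : Q ≤ M₁ := by
    intro w (hw : w ^ 4 = 1)
    by_cases hw1 : w = 1
    · rw [hw1]; exact one_mem _
    by_cases hw2' : w ^ 2 = 1
    · have : w = b ^ 2 := (by decide +kernel : ∀ w b : Matrix.SpecialLinearGroup (Fin 2) (ZMod 3),
        w ^ 2 = 1 → w ≠ 1 → b ^ 4 = 1 → b ^ 2 ≠ 1 → w = b ^ 2) w b hw2' hw1 hw4 hw2
      rw [this]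
      exact M₁.pow_mem hbM 2
    · obtain ⟨g, hg⟩ := SDThree.four_conj b w hw4 hw2 hw hw2'
      have : w = g * b * g⁻¹ := by rw [hg, mul_inv_cancel_right]
      rw [this]
      exact (inferInstance : M₁.Normal).conj_mem b hbM g
  have h8 : 8 ∣ Nat.card M₁ := hQc ▸ card_dvd_of_le hQM
  have h24' : Nat.card M₁ ∣ 24 := h24 ▸ card_subgroup_dvd_card M₁
  obtain ⟨c, hc⟩ := h8
  have hc3 : c ∣ 3 := by
    rw [hc] at h24'
    exact Nat.dvd_of_mul_dvd_mul_left (by norm_num) (show 8 * c ∣ 8 * 3 from h24')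
  rcases (Nat.dvd_prime Nat.prime_three).1 hc3 with rfl | rfl
  swap
  · exact eq_top_of_card_eq M₁ (by rw [hc, h24])
  exfalso
  -- otherwise the Sylow 2-subgroup would be normal
  have hNM8 : Nat.card (M.subgroupOf N) = 8 := by
    rw [← card_map_of_injective (f := e.toMonoidHom) e.injective, ← hM₁, hc]
  have hrel : N.relIndex M = 2 := by
    have h1 : N.relIndex M ∣ 2 := hidx ▸ relIndex_dvd_index_of_normal N M
    rcases (Nat.dvd_prime Nat.prime_two).1 h1 with h | h
    · exact absurd (relIndex_eq_one.1 h htM) htN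
    · exact h
  have hM16 : Nat.card M = 16 := by
    have h1 := card_mul_index (N.subgroupOf M)
    have h2 : Nat.card (N.subgroupOf M) = Nat.card (M.subgroupOf N) := by
      rw [← card_map_of_injective M.subtype_injective, subgroupOf_map_subtype,
        ← card_map_of_injective (K := M.subgroupOf N) N.subtype_injective, subgroupOf_map_subtype, inf_comm]
    rw [h2, hNM8, show (N.subgroupOf M).index = N.relIndex M from rfl, hrel] at h1
    omega
  have hMp : IsPGroup 2 M := IsPGroup.of_card (n := 4) (by rw [hM16]; norm_num)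
  have hMS : (S : Subgroup H) = M := by
    obtain ⟨T, hT⟩ := hMp.exists_le_sylow
    have hH : Nat.card H = 48 := by
      rw [← card_mul_index N, hidx, Nat.card_congr e.toEquiv, h24]
    have hSc : Nat.card (S : Subgroup H) ≤ 16 := by
      obtain ⟨j, hj⟩ := IsPGroup.iff_card.1 S.2
      have h1 : 2 ^ j ∣ 48 := hj ▸ hH ▸ card_subgroup_dvd_card _
      rw [hj]
      rcases Nat.lt_or_ge j 5 with h | h
      · calc 2 ^ j ≤ 2 ^ 4 := Nat.pow_le_pow_right two_pos (by omega)
          _ = 16 := by norm_num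
      · exact absurd ((pow_dvd_pow 2 h).trans h1) (by norm_num)
    have hTM : M = (T : Subgroup H) := eq_of_le_of_card_ge hT (by
      rw [Nat.card_congr (T.equiv S).toEquiv, hM16]; exact hSc)
    obtain ⟨g, hg⟩ := MulAction.exists_smul_eq H T S
    rw [← hg, Sylow.coe_subgroup_smul, ← hTM]
    exact Subgroup.Normal.conj_smul_eq_self g M
  set u : N := e.symm SDThree.u₀
  have hu3 : u ^ 3 = 1 := e.injective (by simp [u, SDThree.base_pair.1.1])
  have hun : (u : H) ∈ normalizer ((S : Subgroup H) : Set H) := by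
    rw [hMS, normalizer_eq_top]; exact mem_top _
  have hodd : Odd (orderOf ((S : Subgroup H).normalizerMonoidHom ⟨u, hun⟩)) := by
    have h1 : orderOf (⟨(u : H), hun⟩ : normalizer ((S : Subgroup H) : Set H)) ∣ 3 :=
      orderOf_dvd_of_pow_eq_one (Subtype.ext (by
        have h := congrArg Subtype.val hu3
        simp only [SubmonoidClass.coe_pow, coe_one] at h ⊢
        exact h))
    exact (show Odd 3 by decide).of_dvd_nat ((orderOf_map_dvd _ _).trans h1)
  have h1 := eq_one_of_quasiDihedral S.2 hS hodd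
  have hb' : ((e.symm b : N) : H) ∈ (S : Subgroup H) := by
    rw [hMS]
    obtain ⟨y, hy, hye⟩ := hbM
    replace hy : (y : H) ∈ M := hy
    rw [← hye]
    simpa using hy
  have h2' := congrArg Subtype.val (DFunLike.congr_fun h1 ⟨_, hb'⟩)
  change (u : H) * (e.symm b : N) * (u : H)⁻¹ = (e.symm b : N) at h2'
  have hcomm : u * e.symm b = e.symm b * u := Subtype.ext (mul_inv_eq_iff_eq_mul.1 h2')
  have hcomm' : SDThree.u₀ * b = b * SDThree.u₀ := by
    have := congrArg e hcomm
    simpa [u] using this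
  exact hw2 (SDLinear.sl_three_four _ b SDThree.base_pair.1.1 SDThree.base_pair.1.2.1 hw4 hcomm')

end Cfsg.Lib.AlmostCyc.SDQuot
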