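import Cfsg.Agent.Lib.AlmostCyc.TwoGen
import Cfsg.Agent.S0483
import Cfsg.Agent.S5212
import Cfsg.Agent.S0205
import Cfsg.Agent.Lib.Invol.Isolated
import Cfsg.Agent.Lib.ZStar.Main
import Cfsg.Agent.Lib.Linear.Mitchell.Sub3.Transvection
import Mathlib

/-!
# Simple groups with almost cyclic Sylow subgroups and no semidihedral one

Such a group is `PSL₂(p)` for a prime `p ≥ 5`.
-/

set_option autoImplicit false
set_option linter.style.haveILetI false
set_option maxHeartbeats 400000

namespace Cfsg.Lib.AlmostCyc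

open Subgroup

universe u

/-- No Sylow 2-subgroup is semidihedral. -/
def NoSD (T : Type*) [Group T] : Prop :=
  ∀ S : Sylow 2 T, ¬ Cfsg.IsQuasiDihedral (S : Subgroup T)

/-- Its derived group is everything. -/
theorem perfect_of_simple {T : Type*} [Group T] [IsSimpleGroup T] (hna : ¬ IsMulCommutative T) :
    commutator T = ⊤ := by
  rcases Subgroup.Normal.eq_bot_or_eq_top (inferInstance : (commutator T).Normal) with h | h
  · refine absurd ⟨⟨fun a b => ?_⟩⟩ hna
    rw [← commutatorElement_eq_one_iff_mul_comm]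
    exact mem_bot.1 (h ▸ commutator_mem_commutator (mem_top a) (mem_top b))
  · exact h

theorem not_isSolvable_of_simple {T : Type*} [Group T] [IsSimpleGroup T] (hna : ¬ IsMulCommutative T) :
    ¬ Group.IsSolvable T := fun h =>
  hna ⟨⟨IsSimpleGroup.comm_iff_isSolvable.2 h⟩⟩

theorem oddCore_eq_bot_of_simple {T : Type u} [Group T] [Finite T] [IsSimpleGroup T]
    (hna : ¬ IsMulCommutative T) : oddCore T = ⊥ := by
  rcases Subgroup.Normal.eq_bot_or_eq_top (inferInstance : (oddCore T).Normal) with h | h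
  · exact h
  · have h1 := Cfsg.Lib.ZStar.odd_card_oddCore (G := T)
    rw [h, card_top] at h1
    exact absurd (Cfsg.Agent.S0205.result h1) (not_isSolvable_of_simple hna)

/-- The Sylow 2-subgroups of a nonabelian simple group are not cyclic. -/
theorem not_isCyclic_sylow {T : Type u} [Group T] [Finite T] [IsSimpleGroup T]
    (hna : ¬ IsMulCommutative T) (S : Sylow 2 T) : ¬ IsCyclic (S : Subgroup T) := fun _ => by
  haveI : Fact (Nat.Prime 2) := ⟨Nat.prime_two⟩
  exact not_isSolvable_of_simple hna (Cfsg.Lib.FTCons.MetacyclicSylow.solvable_of_complement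
    (fun H _ _ h => Cfsg.Agent.S0205.result h)
    (Cfsg.Lib.FTCons.MetacyclicSylow.complement_of_cyclic S))

/-- A nonsolvable group has noncyclic Sylow 2-subgroups. -/
theorem not_isCyclic_sylow_of_not_isSolvable {T : Type u} [Group T] [Finite T]
    (hns : ¬ Group.IsSolvable T) (S : Sylow 2 T) : ¬ IsCyclic (S : Subgroup T) := fun _ => by
  haveI : Fact (Nat.Prime 2) := ⟨Nat.prime_two⟩
  exact hns (Cfsg.Lib.FTCons.MetacyclicSylow.solvable_of_complement
    (fun H _ _ h => Cfsg.Agent.S0205.result h)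
    (Cfsg.Lib.FTCons.MetacyclicSylow.complement_of_cyclic S))

/-- A homocyclic 2-group with a cyclic subgroup of index two is cyclic or a four group. -/
theorem homocyclic_cases {P : Type*} [Group P] [Finite P] (h : HalfCyclic P) {n k : ℕ}
    (e : P ≃* Multiplicative (Fin k → ZMod (2 ^ n))) :
    IsCyclic P ∨ Nonempty (P ≃* DihedralGroup 2) := by
  have hcard : Nat.card P = 2 ^ (n * k) := by
    rw [Nat.card_congr e.toEquiv, Nat.card_congr Multiplicative.toAdd, Nat.card_fun, Nat.card_zmod,
      Nat.card_eq_fintype_card, Fintype.card_fin, ← pow_mul]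
  have hexp : ∀ x : P, x ^ 2 ^ n = 1 := fun x => by
    apply e.injective
    rw [map_pow, map_one]
    apply Multiplicative.toAdd.injective
    rw [toAdd_pow, toAdd_one]
    funext i
    rw [Pi.smul_apply, Pi.zero_apply, nsmul_eq_mul, ZMod.natCast_self, zero_mul]
  obtain ⟨C, hC, hidx⟩ := h
  obtain ⟨c, hc⟩ := IsCyclic.exists_generator (α := C)
  have hCle : Nat.card C ≤ 2 ^ n := by
    rw [← orderOf_eq_card_of_forall_mem_zpowers hc]
    exact Nat.le_of_dvd (by positivity) (orderOf_dvd_of_pow_eq_one (Subtype.ext (by simpa using hexp c)))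
  have hP : 2 ^ (n * k) ≤ 2 ^ (n + 1) := by
    rw [← hcard, ← card_mul_index C, pow_succ]
    exact Nat.mul_le_mul hCle (Nat.le_of_dvd two_pos hidx)
  have hnk : n * k ≤ n + 1 := (Nat.pow_le_pow_iff_right (by norm_num)).1 hP
  by_cases hnk0 : n * k = 0
  · haveI : Subsingleton P := (Nat.card_eq_one_iff_unique.1 (by rw [hcard, hnk0, pow_zero])).1
    exact Or.inl isCyclic_of_subsingleton
  have hn : 0 < n := Nat.pos_of_ne_zero fun h0 => hnk0 (by simp [h0])
  have hk : 0 < k := Nat.pos_of_ne_zero fun h0 => hnk0 (by simp [h0])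
  rcases (by omega : k = 1 ∨ 2 ≤ k) with rfl | hk2
  · left
    have e' : Multiplicative (ZMod (2 ^ n)) ≃* P :=
      ((AddEquiv.funUnique (Fin 1) (ZMod (2 ^ n))).symm.toMultiplicative).trans e.symm
    exact isCyclic_of_surjective e'.toMonoidHom e'.surjective
  · right
    have h2 : n * 2 ≤ n * k := Nat.mul_le_mul_left n hk2
    have hn1 : n = 1 := by omega
    subst hn1
    have hk' : k = 2 := by omega
    subst hk'
    haveI : IsKleinFour P := by
      refine ⟨by rw [hcard]; norm_num, ?_⟩
      refine Nat.dvd_antisymm (Monoid.exponent_dvd_of_forall_pow_eq_one fun x => by simpa using hexp x) ?_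
      obtain ⟨x, hx⟩ : ∃ x : P, orderOf x = 2 := by
        haveI : Fact (Nat.Prime 2) := ⟨Nat.prime_two⟩
        exact exists_prime_orderOf_dvd_card' 2 (by rw [hcard]; norm_num)
      rw [← hx]
      exact Monoid.order_dvd_exponent x
    exact IsKleinFour.nonempty_mulEquiv

/-- A quaternion group has a unique involution. -/
theorem quaternion_involution {m : ℕ} [NeZero m] {x : QuaternionGroup m} (hx : orderOf x = 2) :
    x = QuaternionGroup.a (m : ZMod (2 * m)) := by
  rcases x with i | i
  · congr 1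
    have h1 : (QuaternionGroup.a i) ^ 2 = 1 := by rw [← hx]; exact pow_orderOf_eq_one _
    rw [sq, QuaternionGroup.a_mul_a, QuaternionGroup.one_def] at h1
    have h2 : i + i = 0 := QuaternionGroup.a.inj h1
    have h3 : ((i.val + i.val : ℕ) : ZMod (2 * m)) = 0 := by
      rw [Nat.cast_add, ZMod.natCast_zmod_val, h2]
    obtain ⟨c, hc⟩ := (ZMod.natCast_eq_zero_iff _ _).1 h3
    have hlt := ZMod.val_lt i
    have hpos : 0 < m := Nat.pos_of_ne_zero (NeZero.ne m)
    have hi : i ≠ 0 := fun h0 => by
      rw [h0, ← QuaternionGroup.one_def, orderOf_one] at hx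
      exact absurd hx (by norm_num)
    have hv : 0 < i.val := Nat.pos_of_ne_zero fun h0 => hi ((ZMod.val_eq_zero i).1 h0)
    have hc1 : c = 1 := by
      rcases Nat.lt_or_ge c 2 with h | h
      · interval_cases c
        · omega
        · rfl
      · have := Nat.mul_le_mul_left (2 * m) h
        omega
    subst hc1
    rw [← ZMod.natCast_zmod_val i]
    congr 1
    omega
  · rw [QuaternionGroup.orderOf_xa] at hx
    exact absurd hx (by norm_num)

/-- The upper unitriangular matrices modulo scalars. -/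
def unipPSL (F : Type*) [Field F] :
    Multiplicative F →* Matrix.ProjectiveSpecialLinearGroup (Fin 2) F :=
  (QuotientGroup.mk' _).comp
    { toFun := fun x => (⟨!![1, Multiplicative.toAdd x; 0, 1], by simp [Matrix.det_fin_two_of]⟩ :
        Matrix.SpecialLinearGroup (Fin 2) F)
      map_one' := by ext i j; fin_cases i <;> fin_cases j <;> simp
      map_mul' := fun x y => by
        apply Subtype.ext
        show !![1, Multiplicative.toAdd (x * y); 0, 1] =
          !![1, Multiplicative.toAdd x; 0, 1] * !![1, Multiplicative.toAdd y; 0, 1]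
        rw [Matrix.mul_fin_two]
        simp [add_comm] }

theorem unipPSL_injective (F : Type*) [Field F] : Function.Injective (unipPSL F) := by
  refine (injective_iff_map_eq_one _).2 fun x hx => ?_
  rw [unipPSL, MonoidHom.comp_apply, QuotientGroup.mk'_apply, QuotientGroup.eq_one_iff,
    Matrix.SpecialLinearGroup.mem_center_iff] at hx
  obtain ⟨r, -, hr⟩ := hx
  have h := congrFun (congrFun hr 0) 1
  simp at h
  exact Multiplicative.toAdd.injective h.symm

/-- With cyclic odd Sylow subgroups the field of a `PSL₂` is a prime field. -/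
theorem prime_field {F : Type} [Field F] [Fintype F] (hodd : Odd (Fintype.card F))
    (h : OddCyc (Matrix.ProjectiveSpecialLinearGroup (Fin 2) F)) : (Fintype.card F).Prime := by
  obtain ⟨p, hp⟩ := CharP.exists F
  haveI : Fact p.Prime := ⟨CharP.char_is_prime F p⟩
  obtain ⟨f, hfp, hf⟩ := FiniteField.card F p
  have hp2 : p ≠ 2 := by
    rintro rfl
    rw [hf, Nat.odd_iff, Nat.pow_mod] at hodd
    simp at hodd
  have hexp : ∀ x : Multiplicative F, x ^ p = 1 := fun x => by
    apply Multiplicative.toAdd.injective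
    rw [toAdd_pow, toAdd_one, nsmul_eq_mul, CharP.cast_eq_zero F p, zero_mul]
  have hP : IsPGroup p (unipPSL F).range := by
    rintro ⟨_, x, rfl⟩
    exact ⟨1, Subtype.ext (by rw [pow_one, SubmonoidClass.coe_pow, ← map_pow, hexp, map_one]; rfl)⟩
  haveI := h p hfp hp2 _ hP
  haveI : IsCyclic (Multiplicative F) :=
    isCyclic_of_injective (unipPSL F).rangeRestrict
      fun a b hab => unipPSL_injective F (congrArg Subtype.val hab)
  obtain ⟨c, hc⟩ := IsCyclic.exists_generator (α := Multiplicative F)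
  have hle : Fintype.card F ≤ p := by
    rw [← Nat.card_eq_fintype_card,
      Nat.card_congr (Multiplicative.ofAdd : F ≃ Multiplicative F),
      ← orderOf_eq_card_of_forall_mem_zpowers hc]
    exact Nat.le_of_dvd hfp.pos (orderOf_dvd_of_pow_eq_one (hexp c))
  have : Fintype.card F = p := le_antisymm hle (by rw [hf]; exact Nat.le_self_pow f.pos.ne' p)
  rw [this]
  exact hfp

/-- `A₇` has a noncyclic subgroup of order nine. -/
theorem not_oddCyc_alternating_seven : ¬ OddCyc (alternatingGroup (Fin 7)) := by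
  intro h
  let a : alternatingGroup (Fin 7) := ⟨Equiv.swap 0 1 * Equiv.swap 1 2, by rw [Equiv.Perm.mem_alternatingGroup]; decide⟩
  let b : alternatingGroup (Fin 7) := ⟨Equiv.swap 3 4 * Equiv.swap 4 5, by rw [Equiv.Perm.mem_alternatingGroup]; decide⟩
  have hab : Commute a b := by show a * b = b * a; decide
  have ha : a ^ 3 = 1 := by decide
  have hb : b ^ 3 = 1 := by decide
  let H : Subgroup (alternatingGroup (Fin 7)) := zpowers a ⊔ zpowers b
  have hn : zpowers b ≤ normalizer (zpowers a : Set (alternatingGroup (Fin 7))) := by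
    refine zpowers_le.2 (mem_normalizer_iff.2 fun x => ⟨fun hx => ?_, fun hx => ?_⟩)
    · obtain ⟨k, rfl⟩ := hx
      exact ⟨k, by rw [(hab.symm.zpow_right k).eq, mul_inv_cancel_right]⟩
    · obtain ⟨k, hk⟩ := hx
      refine ⟨k, ?_⟩
      have : x = b⁻¹ * (b * x * b⁻¹) * b := by group
      rw [this, ← hk]
      dsimp only
      rw [mul_assoc, (hab.zpow_left k).eq, inv_mul_cancel_left]
  have hp : ∀ {g : alternatingGroup (Fin 7)}, g ^ 3 = 1 → IsPGroup 3 (zpowers g) := fun {g} hg => by
    rintro ⟨_, k, rfl⟩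
    refine ⟨1, Subtype.ext ?_⟩
    rw [pow_one, SubmonoidClass.coe_pow, coe_one]
    dsimp only
    rw [← zpow_natCast, ← zpow_mul, mul_comm, zpow_mul, zpow_natCast, hg, one_zpow]
  have hH : IsPGroup 3 ↥(zpowers b ⊔ zpowers a) := (hp hb).to_sup_of_normal_right' (hp ha) hn
  haveI := h 3 (by norm_num) (by norm_num) _ hH
  obtain ⟨c, hc⟩ := IsCyclic.exists_generator (α := ↥(zpowers b ⊔ zpowers a))
  have hexp : ∀ x ∈ zpowers b ⊔ zpowers a, x ^ 3 = 1 := by
    intro x hx
    rw [← SetLike.mem_coe, coe_mul_of_left_le_normalizer_right _ _ hn, Set.mem_mul] at hx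
    obtain ⟨_, ⟨i, rfl⟩, _, ⟨j, rfl⟩, rfl⟩ := hx
    dsimp only
    rw [((hab.symm.zpow_left i).zpow_right j).mul_pow, ← zpow_natCast, ← zpow_mul, mul_comm,
      zpow_mul, zpow_natCast, hb, one_zpow, one_mul, ← zpow_natCast, ← zpow_mul, mul_comm,
      zpow_mul, zpow_natCast, ha, one_zpow]
  have hcard : Nat.card ↥(zpowers b ⊔ zpowers a) ≤ 3 := by
    rw [← orderOf_eq_card_of_forall_mem_zpowers hc]
    exact Nat.le_of_dvd (by norm_num) (orderOf_dvd_of_pow_eq_one (Subtype.ext (by
      rw [SubmonoidClass.coe_pow]; exact hexp _ c.2)))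
  have hb0 : orderOf b = 3 := orderOf_eq_prime hb (by decide)
  have hbH : zpowers b = zpowers b ⊔ zpowers a := eq_of_le_of_card_ge le_sup_left (by
    rw [Nat.card_zpowers, hb0]; exact hcard)
  have hmem : a ∈ zpowers b := hbH ▸ le_sup_right (a := zpowers b) (mem_zpowers a)
  rw [← mem_powers_iff_mem_zpowers] at hmem
  obtain ⟨k, hk⟩ := hmem
  have hk' : b ^ (k % 3) = a := by rw [← hk, ← hb0, pow_mod_orderOf]
  have hlt : k % 3 < 3 := Nat.mod_lt _ (by norm_num)
  interval_cases hk3 : k % 3 <;> exact absurd hk' (by decide)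

/-- The classification of the simple groups concerned. -/
theorem simple_psl {T : Type u} [Group T] [Finite T] [IsSimpleGroup T] (hna : ¬ IsMulCommutative T)
    (h2 : TwoHalf T) (hodd : OddCyc T) (hSD : NoSD T) :
    ∃ (p : ℕ) (_ : Fact p.Prime), 5 ≤ p ∧
      Nonempty (T ≃* Matrix.ProjectiveSpecialLinearGroup (Fin 2) (ZMod p)) := by
  haveI : Fact (Nat.Prime 2) := ⟨Nat.prime_two⟩
  let S : Sylow 2 T := Classical.arbitrary _
  have hcyc := not_isCyclic_sylow hna S
  have hS := h2 _ S.2
  have hperf := perfect_of_simple hna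
  have hD : ∀ m : ℕ, Nonempty ((S : Subgroup T) ≃* DihedralGroup m) →
      ∃ (p : ℕ) (_ : Fact p.Prime), 5 ≤ p ∧
        Nonempty (T ≃* Matrix.ProjectiveSpecialLinearGroup (Fin 2) (ZMod p)) := by
    rintro m ⟨e⟩
    have hm : 2 ≤ m := by
      rcases (by omega : m = 0 ∨ m = 1 ∨ 2 ≤ m) with rfl | rfl | h
      · haveI := Finite.of_equiv _ e.toEquiv
        haveI : Finite ℤ := Finite.of_injective (fun i : ℤ => DihedralGroup.r (n := 0) i)
          fun a b h => DihedralGroup.r.inj h
        exact (not_finite ℤ).elim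
      · exact absurd (isCyclic_of_prime_card (p := 2) (α := (S : Subgroup T))
          (by rw [Nat.card_congr e.toEquiv, DihedralGroup.nat_card])) hcyc
      · exact h
    haveI : Group.IsPerfect T := ⟨hperf⟩
    have hO := oddCore_eq_bot_of_simple hna
    let i : T ≃* T ⧸ oddCore T := (QuotientGroup.quotientBot.symm).trans
      (QuotientGroup.quotientMulEquivOfEq hO.symm)
    rcases Cfsg.Agent.S0483.result S m hm ⟨e⟩ with ⟨F, _, _, hFo, hF3, ⟨f⟩⟩ | ⟨⟨f⟩⟩
    · have hF : OddCyc (Matrix.ProjectiveSpecialLinearGroup (Fin 2) F) :=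
        hodd.of_surjective (i.trans f).toMonoidHom (i.trans f).surjective
      have hp := prime_field hFo hF
      haveI : Fact (Fintype.card F).Prime := ⟨hp⟩
      refine ⟨Fintype.card F, inferInstance, ?_, ⟨(i.trans f).trans
        (Cfsg.Lib.Linear.Mitchell.Sub3.pslCongr 2 (ZMod.ringEquivOfPrime F hp rfl).symm)⟩⟩
      obtain ⟨c, hc⟩ := hFo
      omega
    · exact absurd (hodd.of_surjective (i.trans f).toMonoidHom (i.trans f).surjective)
        not_oddCyc_alternating_seven
  by_cases hh : ∃ n k : ℕ, Nonempty ((S : Subgroup T) ≃* Multiplicative (Fin k → ZMod (2 ^ n)))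
  · obtain ⟨n, k, ⟨e⟩⟩ := hh
    rcases homocyclic_cases hS e with h | h
    · exact absurd h hcyc
    · exact hD 2 h
  by_cases hd : ∃ m : ℕ, Nonempty ((S : Subgroup T) ≃* DihedralGroup m)
  · obtain ⟨m, hm⟩ := hd
    exact hD m hm
  exfalso
  by_cases hq : ∃ m : ℕ, Nonempty ((S : Subgroup T) ≃* QuaternionGroup m)
  · obtain ⟨m, ⟨e⟩⟩ := hq
    haveI : NeZero m := ⟨fun h0 => by
      subst h0
      haveI := Finite.of_equiv _ e.toEquiv
      haveI : Finite (ZMod (2 * 0)) := Finite.of_injective (fun i : ZMod (2 * 0) => QuaternionGroup.a (n := 0) i)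
        fun a b h => QuaternionGroup.a.inj h
      haveI : Finite ℤ := ‹Finite (ZMod (2 * 0))›
      exact not_finite ℤ⟩
    obtain ⟨z, hz⟩ : ∃ z : (S : Subgroup T), orderOf z = 2 := by
      refine exists_prime_orderOf_dvd_card' 2 ?_
      obtain ⟨j, hj⟩ := IsPGroup.iff_card.1 S.2
      rcases Nat.eq_zero_or_pos j with rfl | hj0
      · haveI : Subsingleton (S : Subgroup T) := (Nat.card_eq_one_iff_unique.1 (by rw [hj, pow_zero])).1
        exact absurd isCyclic_of_subsingleton hcyc
      · rw [hj]; exact dvd_pow_self 2 hj0.ne'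
    have huniq : ∀ x : (S : Subgroup T), orderOf x = 2 → x = z := fun x hx => by
      apply e.injective
      rw [quaternion_involution (x := e x) (by rw [MulEquiv.orderOf_eq, hx]),
        quaternion_involution (x := e z) (by rw [MulEquiv.orderOf_eq, hz])]
    have hz' : orderOf (z : T) = 2 := by rw [orderOf_coe, hz]
    have hiso : Cfsg.IsIsolatedInvolution (z : T) := Cfsg.Lib.Invol.isolated_of_sylow S hz' fun g hg =>
      congrArg Subtype.val (huniq ⟨_, hg⟩ (by
        rw [Subgroup.orderOf_mk, Cfsg.Lib.Invol.orderOf_conj_eq, hz']))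
    have hzc := Cfsg.Lib.ZStar.mem_center_of_isolated (oddCore_eq_bot_of_simple hna) hiso
    rcases Subgroup.Normal.eq_bot_or_eq_top (inferInstance : (center T).Normal) with h | h
    · rw [h, mem_bot] at hzc
      rw [hzc, orderOf_one] at hz'
      exact absurd hz' (by norm_num)
    · exact hna ⟨⟨fun a b => mem_center_iff.1 (h ▸ mem_top b) a⟩⟩
  exact not_isSolvable_of_simple hna (Cfsg.Lib.FTCons.MetacyclicSylow.solvable_of_complement
    (fun H _ _ h => Cfsg.Agent.S0205.result h)
    (Cfsg.Lib.FTCons.MetacyclicSylow.complement_of_inner S (Cfsg.Agent.S5212.result S.isPGroup' _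
      (Cfsg.Lib.FusionSys.isSaturated_groupFusionSystem S) hS.isMetacyclic hh hd hq (hSD S))))

end Cfsg.Lib.AlmostCyc
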