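import Cfsg.Agent.Lib.AlmostCyc.Simple
import Cfsg.Agent.S0102
import Cfsg.Prelude.Def_RootSubgroups
import Cfsg.Agent.Lib.MinNonCA.Defs
import Cfsg.Agent.Lib.Core.PSolvable
import Cfsg.Agent.Lib.Core.Layer
import Cfsg.Agent.Lib.Core.Fitting
import Cfsg.Agent.Lib.Core.Cores
import Cfsg.Agent.Lib.GW.PGL
import Cfsg.Agent.Lib.GW.RankOne
import Cfsg.Agent.Lib.Sig.FStarModFrattini
import Cfsg.Agent.Lib.PGroup.Basic
import Cfsg.Agent.Lib.Dickson.Solvable
import Mathlib

/-!
# The structure of nonsolvable groups with almost cyclic Sylow subgroups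

Assuming that no simple group of this kind and of no larger order has semidihedral Sylow
2-subgroups, such a group has a normal subgroup of index at most two which is the product of its
odd core and of `PSL₂(p)` or `SL₂(p)`.
-/

set_option autoImplicit false
set_option linter.style.haveILetI false
set_option maxHeartbeats 600000

namespace Cfsg.Lib.AlmostCyc

open Subgroup
open scoped commutatorElement

universe u

/-- The simple groups of this kind of order at most `n` have no semidihedral Sylow 2-subgroup. -/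
def NoSDUpTo (n : ℕ) : Prop :=
  ∀ (T : Type u) [Group T] [Finite T] [IsSimpleGroup T], ¬ IsMulCommutative T → TwoHalf T → OddCyc T →
    Nat.card T ≤ n → NoSD T

section Radical

variable {G : Type u} [Group G] [Finite G]

theorem solvableRadical_mem :
    Cfsg.solvableRadical G ∈ {N : Subgroup G | N.Normal ∧ Group.IsSolvable N} := by
  refine Cfsg.Lib.Core.sSup_mem_of_sup_mem ⟨inferInstance, inferInstance⟩ ?_
  rintro H ⟨hH, hHs⟩ K ⟨hK, hKs⟩
  haveI := hH
  haveI := hK
  exact ⟨inferInstance, Cfsg.Lib.MinNonCA.isSolvable_sup_of_le_normalizer hHs hKs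
    (by rw [normalizer_eq_top]; exact le_top)⟩

theorem solvableRadical_normal : (Cfsg.solvableRadical G).Normal := solvableRadical_mem.1

theorem solvableRadical_isSolvable : Group.IsSolvable (Cfsg.solvableRadical G) := solvableRadical_mem.2

theorem le_solvableRadical {N : Subgroup G} (hN : N.Normal) (h : Group.IsSolvable N) :
    N ≤ Cfsg.solvableRadical G := le_sSup ⟨hN, h⟩

theorem map_solvableRadical_le (f : G ≃* G) :
    (Cfsg.solvableRadical G).map f.toMonoidHom ≤ Cfsg.solvableRadical G := by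
  haveI := solvableRadical_normal (G := G)
  haveI := solvableRadical_isSolvable (G := G)
  exact le_solvableRadical (Normal.map inferInstance _ f.surjective)
    (Group.isSolvable_of_surjective (f := f.toMonoidHom.subgroupMap (Cfsg.solvableRadical G))
      (f.toMonoidHom.subgroupMap_surjective _))

end Radical

/-- A nonsolvable group has even order. -/
theorem two_dvd_card_of_not_isSolvable {G : Type u} [Group G] [Finite G] (h : ¬ Group.IsSolvable G) :
    2 ∣ Nat.card G := by
  by_contra h2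
  exact h (Cfsg.Agent.S0205.result (Nat.odd_iff.2 (Nat.two_dvd_ne_zero.1 h2)))

/-- Groups without solvable normal subgroups. -/
theorem almost_simple {X : Type u} [Group X] [Finite X] [Nontrivial X] (h2 : TwoHalf X)
    (hodd : OddCyc X) (hR : ∀ K : Subgroup X, K.Normal → Group.IsSolvable K → K = ⊥)
    (hSD : NoSDUpTo.{u} (Nat.card X)) :
    ∃ (N : Subgroup X) (p : ℕ) (_ : Fact p.Prime), N.Normal ∧ N.index ∣ 2 ∧ 5 ≤ p ∧ IsSimpleGroup N ∧
      ¬ IsMulCommutative N ∧ Nonempty (N ≃* Matrix.ProjectiveSpecialLinearGroup (Fin 2) (ZMod p)) := by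
  obtain ⟨N, ⟨hN, hNne, hNmin⟩⟩ := Cfsg.Lib.Core.exists_isMinNormal_univ (G := X)
  haveI := hN
  haveI : Nontrivial N := (nontrivial_iff_ne_bot N).2 hNne
  have hradN : Cfsg.solvableRadical N = ⊥ := by
    haveI := solvableRadical_isSolvable (G := N)
    have hnorm : ((Cfsg.solvableRadical N).map N.subtype).Normal := ⟨fun n hn g => by
      obtain ⟨m, hm, rfl⟩ := hn
      exact ⟨MulAut.conjNormal g m, map_solvableRadical_le (MulAut.conjNormal g : MulAut N)
        (mem_map_of_mem _ hm), MulAut.conjNormal_apply g m⟩⟩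
    have h := hR _ hnorm (Group.isSolvable_of_surjective (f := N.subtype.subgroupMap _)
      (N.subtype.subgroupMap_surjective _))
    exact (map_eq_bot_iff_of_injective _ N.subtype_injective).1 h
  have hsimple : IsSimpleGroup N := by
    have hall : ∀ U : Subgroup N, Cfsg.Lib.Core.IsMinNormal U → U = ⊤ := by
      intro U hU
      obtain ⟨hUn, hUne, hUmin⟩ := hU
      haveI := hUn
      by_contra hUtop
      have hUns : ¬ Group.IsSolvable U := fun hs => hUne (le_bot_iff.1 (hradN ▸ le_solvableRadical hUn hs))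
      obtain ⟨g, hg⟩ : ∃ g : X, U.map (MulAut.conjNormal g : MulAut N).toMonoidHom ≠ U := by
        by_contra hall
        push Not at hall
        have hnorm : (U.map N.subtype).Normal := ⟨fun n hn g => by
          obtain ⟨m, hm, rfl⟩ := hn
          exact ⟨MulAut.conjNormal g m, hall g ▸ mem_map_of_mem _ hm, MulAut.conjNormal_apply g m⟩⟩
        rcases hNmin _ hnorm (map_subtype_le _) with h | h
        · exact hUne ((map_eq_bot_iff_of_injective _ N.subtype_injective).1 h)
        · refine hUtop (map_injective N.subtype_injective ?_)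
          rw [h, ← MonoidHom.range_eq_map, range_subtype]
      set U₂ := U.map (MulAut.conjNormal g : MulAut N).toMonoidHom with hU₂
      haveI : U₂.Normal := Normal.map hUn _ (MulEquiv.surjective _)
      have hd : U ⊓ U₂ = ⊥ := by
        rcases hUmin (U ⊓ U₂) inferInstance inf_le_left with h | h
        · exact h
        · refine absurd (eq_of_le_of_card_ge (inf_eq_left.1 h) ?_).symm hg
          exact le_of_eq (card_map_of_injective (MulEquiv.injective (MulAut.conjNormal g : MulAut N)))
      have hc : ⁅U, U₂⁆ = ⊥ := le_bot_iff.1 (hd ▸ commutator_le_inf U U₂)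
      refine (h2.subgroup N).false_of_pair (two_dvd_card_of_not_isSolvable hUns) hd hc fun S => ?_
      refine not_isCyclic_sylow_of_not_isSolvable (fun hs => hUns ?_) S
      haveI : Group.IsSolvable ↥(U.map (MulAut.conjNormal g : MulAut N).toMonoidHom) := hs
      exact Group.isSolvable_of_isSolvable_injective
        (G' := ↥(U.map (MulAut.conjNormal g : MulAut N).toMonoidHom))
        (f := (U.equivMapOfInjective _ (MulEquiv.injective (MulAut.conjNormal g : MulAut N))).toMonoidHom)
        (MulEquiv.injective _)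
    refine ⟨fun K hK => ?_⟩
    rcases eq_or_ne K ⊥ with h | h
    · exact Or.inl h
    · obtain ⟨M, hM, hMK⟩ := Cfsg.Lib.Core.exists_isMinNormal hK h
      exact Or.inr (eq_top_iff.2 (hall M hM ▸ hMK))
  haveI := hsimple
  have hna : ¬ IsMulCommutative N := fun h => hNne (hR N hN (Cfsg.Lib.Core.isSolvable_of_isMulCommutative N))
  have hC : centralizer (N : Set X) = ⊥ := by
    by_contra hne
    have hCns : ¬ Group.IsSolvable (centralizer (N : Set X)) := fun hs => hne (hR _ inferInstance hs)
    have hd : centralizer (N : Set X) ⊓ N = ⊥ := by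
      rcases hNmin (centralizer (N : Set X) ⊓ N) inferInstance inf_le_right with h | h
      · exact h
      · exact absurd (⟨⟨fun a b => Subtype.ext
          (mem_centralizer_iff.1 (inf_eq_right.1 h b.2) a a.2)⟩⟩ : IsMulCommutative N) hna
    exact h2.false_of_pair (two_dvd_card_of_not_isSolvable hCns) hd
      (commutator_eq_bot_iff_le_centralizer.2 le_rfl) (not_isCyclic_sylow hna)
  obtain ⟨p, hp, hp5, ⟨e⟩⟩ := simple_psl hna (h2.subgroup N) (hodd.subgroup N)
    (hSD N hna (h2.subgroup N) (hodd.subgroup N) (card_le_card_group N))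
  haveI := hp
  refine ⟨N, p, hp, hN, ?_, hp5, hsimple, hna, ⟨e⟩⟩
  have hoddp : Odd (Fintype.card (ZMod p)) := by
    rw [ZMod.card]; exact hp.out.odd_of_ne_two (by omega)
  have htop : Cfsg.Lib.GW.PGL.diag e = ⊤ := by
    refine eq_top_iff.2 fun x _ => ?_
    rw [Cfsg.Lib.GW.PGL.diag, mem_comap]
    obtain ⟨A, σ, hA⟩ := Cfsg.Lib.GW.PGL.exists_decomp_two (Cfsg.Lib.GW.PGL.autHom e x)
    have hσ : σ = 1 := RingEquiv.ext fun z => by
      have := RingHom.congr_fun (Subsingleton.elim σ.toRingHom (RingHom.id (ZMod p))) z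
      simpa using this
    rw [hA, hσ, map_one, mul_one]
    exact ⟨A, rfl⟩
  have h1 := Cfsg.Lib.GW.PGL.relIndex_diag_le e hoddp hC
  rw [htop, relIndex_top_right] at h1
  have h0 : N.index ≠ 0 := index_ne_zero_of_finite
  rcases (by omega : N.index = 1 ∨ N.index = 2) with h | h <;> rw [h]
  exact one_dvd 2

/-- A perfect subgroup centralises every cyclic normal subgroup. -/
theorem perfect_centralizes_cyclic {G : Type u} [Group G] {C L : Subgroup G} [C.Normal] [IsCyclic C]
    (hL : ⁅L, L⁆ = L) : ⁅C, L⁆ = ⊥ := by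
  rw [commutator_comm, commutator_eq_bot_iff_le_centralizer]
  have hker : ⁅L, L⁆ ≤ (MulAut.conjNormal : G →* MulAut C).ker := by
    rw [commutator_le]
    intro a _ b _
    rw [MonoidHom.mem_ker, map_commutatorElement, commutatorElement_eq_one_iff_mul_comm]
    let e := IsCyclic.mulAutMulEquiv C
    apply e.injective
    rw [map_mul, map_mul, mul_comm]
  rw [hL] at hker
  intro l hl
  rw [mem_centralizer_iff]
  intro c hc
  have h := congrArg Subtype.val (DFunLike.congr_fun (MonoidHom.mem_ker.1 (hker hl)) (⟨c, hc⟩ : C))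
  rw [MulAut.conjNormal_apply, MulAut.one_apply] at h
  exact (mul_inv_eq_iff_eq_mul.1 h).symm

/-- Permutations of at most four points form a solvable group. -/
theorem isSolvable_perm_le_four {α : Type*} [Finite α] (h : Nat.card α ≤ 4) :
    Group.IsSolvable (Equiv.Perm α) := by
  haveI := Fintype.ofFinite α
  classical
  rw [Nat.card_eq_fintype_card] at h
  obtain ⟨f⟩ : Nonempty (α ↪ Fin 4) :=
    Function.Embedding.nonempty_of_card_le (by rw [Fintype.card_fin]; exact h)
  haveI := Cfsg.Lib.Dickson.isSolvable_perm_four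
  exact Group.isSolvable_of_isSolvable_injective
    (f := Equiv.Perm.viaEmbeddingHom f) (Equiv.Perm.viaEmbeddingHom_injective f)

/-- A perfect subgroup centralises a normal almost cyclic 2-subgroup. -/
theorem perfect_centralizes_two {G : Type u} [Group G] [Finite G] (h2 : TwoHalf G) {Q L : Subgroup G}
    [Q.Normal] (hQ : IsPGroup 2 Q) (hL : ⁅L, L⁆ = L) : L ≤ centralizer (Q : Set G) := by
  haveI : Fact (Nat.Prime 2) := ⟨Nat.prime_two⟩
  refine Cfsg.Lib.Sig.perfect_le_centralizer_of_commutator_le_frattini Q L hQ.isNilpotent hL ?_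
  set F := (frattini Q).map Q.subtype with hF
  haveI : F.Normal := Cfsg.Lib.Core.normal_map_char_of_normal _
  set f := QuotientGroup.mk' F
  have hsq : ∀ x : Q.map f, x * x = 1 := by
    rintro ⟨_, y, hy, rfl⟩
    apply Subtype.ext
    show f y * f y = 1
    rw [← map_mul, QuotientGroup.mk'_apply, QuotientGroup.eq_one_iff]
    exact ⟨⟨y, hy⟩ ^ 2, Cfsg.Lib.PGroup.pow_mem_frattini hQ _, by simp [sq]⟩
  have hle : Nat.card (Q.map f) ≤ 4 := by
    obtain ⟨C, hC, hidx⟩ := HalfCyclic.of_surjective (f.subgroupMap Q) (f.subgroupMap_surjective Q) (h2 Q hQ)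
    have hC2 : Nat.card C ≤ 2 := Cfsg.Lib.FTCons.MetacyclicSylow.small_of_sq fun x => Subtype.ext (by
      rw [SubmonoidClass.coe_pow, sq]; exact hsq x)
    rw [← card_mul_index C]
    calc Nat.card C * C.index ≤ 2 * 2 := Nat.mul_le_mul hC2 (Nat.le_of_dvd two_pos hidx)
      _ = 4 := rfl
  haveI : (Q.map f).Normal := Normal.map inferInstance f (QuotientGroup.mk'_surjective F)
  let ψ : L →* Equiv.Perm (Q.map f) :=
    (MulAut.toPerm (Q.map f)).comp ((MulAut.conjNormal).comp (f.comp L.subtype))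
  haveI := isSolvable_perm_le_four hle
  haveI : Group.IsSolvable ψ.range := inferInstance
  have hperf : commutator ψ.range = ⊤ := by
    have hLtop : commutator L = ⊤ := by
      apply map_injective L.subtype_injective
      rw [← MonoidHom.range_eq_map, range_subtype, map_subtype_commutator, hL]
    have h := congrArg (map ψ.rangeRestrict) hLtop
    rw [_root_.commutator_def, map_commutator, map_top_of_surjective _ ψ.rangeRestrict_surjective] at h
    exact h
  have hbot : ψ.range = ⊥ := by
    by_contra hne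
    haveI : Nontrivial ψ.range := (nontrivial_iff_ne_bot _).2 hne
    exact (Group.IsSolvable.commutator_lt_top_of_nontrivial ψ.range).ne hperf
  rw [commutator_le]
  intro q hq l hl
  have hl1 : ψ ⟨l, hl⟩ = 1 := by
    rw [← mem_bot, ← hbot]
    exact ⟨_, rfl⟩
  have h := congrArg Subtype.val (DFunLike.congr_fun hl1 ⟨f q, mem_map_of_mem f hq⟩)
  change f l * f q * (f l)⁻¹ = f q at h
  rw [← QuotientGroup.eq_one_iff, ← QuotientGroup.mk'_apply]
  change f ⁅q, l⁆ = 1
  rw [map_commutatorElement, commutatorElement_eq_one_iff_mul_comm]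
  exact (mul_inv_eq_iff_eq_mul.1 h).symm

/-- The odd core centralises perfect subgroups when the odd Sylow subgroups are cyclic. -/
theorem isZGroup_oddCore {G : Type u} [Group G] [Finite G] (hodd : OddCyc G) :
    IsZGroup (oddCore G) := by
  refine ⟨fun p hp P => ?_⟩
  haveI : Fact p.Prime := ⟨hp⟩
  rcases eq_or_ne p 2 with rfl | hp2
  · obtain ⟨j, hj⟩ := IsPGroup.iff_card.1 P.2
    rcases Nat.eq_zero_or_pos j with rfl | hj0
    · haveI : Subsingleton P := (Nat.card_eq_one_iff_unique.1 (by rw [hj, pow_zero])).1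
      exact isCyclic_of_subsingleton
    · have h1 : 2 ∣ Nat.card (oddCore G) :=
        ((dvd_pow_self 2 hj0.ne').trans (dvd_of_eq hj.symm)).trans (card_subgroup_dvd_card _)
      exact absurd h1 (Nat.two_dvd_ne_zero.2 (Nat.odd_iff.1 Cfsg.Lib.ZStar.odd_card_oddCore))
  · exact (hodd.subgroup _) p hp hp2 _ P.2

theorem oddCore_commutator_perfect {G : Type u} [Group G] [Finite G] (hodd : OddCyc G)
    {L : Subgroup G} (hL : ⁅L, L⁆ = L) : ⁅oddCore G, L⁆ = ⊥ := by
  haveI := isZGroup_oddCore hodd
  haveI : IsCyclic (commutator (oddCore G)) := IsZGroup.isCyclic_commutator _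
  haveI : IsCyclic (Abelianization (oddCore G)) := IsZGroup.isCyclic_abelianization
  set D := (commutator (oddCore G)).map (oddCore G).subtype with hD
  haveI : D.Normal := Cfsg.Lib.Core.normal_map_char_of_normal _
  haveI : IsCyclic D := isCyclic_of_surjective
    ((oddCore G).subtype.subgroupMap (commutator (oddCore G))) ((oddCore G).subtype.subgroupMap_surjective _)
  set f := QuotientGroup.mk' D
  haveI : ((oddCore G).map f).Normal := Normal.map inferInstance f (QuotientGroup.mk'_surjective D)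
  haveI : IsCyclic ((oddCore G).map f) := by
    let g : oddCore G →* (oddCore G).map f := f.subgroupMap (oddCore G)
    have hker : commutator (oddCore G) ≤ g.ker := fun x hx => by
      rw [MonoidHom.mem_ker]
      exact Subtype.ext ((QuotientGroup.eq_one_iff _).2 (mem_map_of_mem _ hx))
    haveI : IsCyclic (oddCore G ⧸ commutator (oddCore G)) :=
      (inferInstance : IsCyclic (Abelianization (oddCore G)))
    exact isCyclic_of_surjective (QuotientGroup.lift (commutator (oddCore G)) g hker) (QuotientGroup.lift_surjective_of_surjective _ _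
      (f.subgroupMap_surjective _) hker)
  have h1 : ⁅(oddCore G).map f, L.map f⁆ = ⊥ := perfect_centralizes_cyclic (by rw [← map_commutator, hL])
  rw [← map_commutator, Subgroup.map_eq_bot_iff, QuotientGroup.ker_mk'] at h1
  refine Cfsg.Lib.Core.commutator_eq_bot_of_perfect hL (le_bot_iff.1 ?_)
  rw [← perfect_centralizes_cyclic (C := D) hL]
  exact commutator_mono h1 le_rfl

/-- A solvable normal subgroup is centralised by perfect subgroups. -/
theorem solvable_commutator_perfect {G : Type u} [Group G] [Finite G] (h2 : TwoHalf G) (hodd : OddCyc G)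
    {R L : Subgroup G} [R.Normal] [Group.IsSolvable R] (hL : ⁅L, L⁆ = L) : ⁅R, L⁆ = ⊥ := by
  haveI : Fact (Nat.Prime 2) := ⟨Nat.prime_two⟩
  set f := QuotientGroup.mk' (oddCore G) with hf
  have hfs : Function.Surjective f := QuotientGroup.mk'_surjective _
  set R₁ := R.map f with hR₁
  set L₁ := L.map f with hL₁
  haveI : R₁.Normal := Normal.map inferInstance f hfs
  haveI : Group.IsSolvable R₁ :=
    Group.isSolvable_of_surjective (f := f.subgroupMap R) (f.subgroupMap_surjective R)
  have hL₁p : ⁅L₁, L₁⁆ = L₁ := by rw [hL₁, ← map_commutator, hL]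
  set F := (Cfsg.fittingSubgroup R₁).map R₁.subtype with hF
  haveI : (Cfsg.fittingSubgroup R₁).Characteristic := by
    refine characteristic_iff_map_eq.2 fun e => ?_
    exact Cfsg.Lib.Core.map_fittingSubgroup_equiv e
  haveI : F.Normal := Cfsg.Lib.Core.normal_map_char_of_normal _
  have hFnil : Group.IsNilpotent F := by
    exact Cfsg.Lib.Core.isNilpotent_map (Cfsg.Lib.Core.fittingSubgroup_isNilpotent R₁) _
  have hFQ : F ≤ Cfsg.pCore 2 (G ⧸ oddCore G) := by
    refine (Cfsg.Lib.Core.le_iSup_pCore_of_normal hFnil).trans (iSup_le fun q => ?_)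
    rcases eq_or_ne (q : ℕ) 2 with h | h
    · rw [h]
    · haveI : Fact (q : ℕ).Prime := ⟨q.2⟩
      have h1 : (Nat.card (Cfsg.pCore (q : ℕ) (G ⧸ oddCore G))).Coprime 2 := by
        obtain ⟨j, hj⟩ := IsPGroup.iff_card.1 (Cfsg.Lib.Core.pCore_isPGroup (q : ℕ) (G ⧸ oddCore G))
        rw [hj]
        exact ((Nat.coprime_primes q.2 Nat.prime_two).2 h).pow_left j
      haveI : (Cfsg.pCore (q : ℕ) (G ⧸ oddCore G)).Normal := inferInstance
      have h2 := Cfsg.Lib.Core.le_pPrimeCore h1
      rw [Cfsg.Lib.Core.pPrimeCore_quotient_eq_bot] at h2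
      exact h2.trans bot_le
  haveI : (Cfsg.pCore 2 (G ⧸ oddCore G)).Normal := inferInstance
  have hQL : L₁ ≤ centralizer (Cfsg.pCore 2 (G ⧸ oddCore G) : Set (G ⧸ oddCore G)) :=
    perfect_centralizes_two (h2.quotient _) (Cfsg.Lib.Core.pCore_isPGroup 2 _) hL₁p
  have hFL : ⁅F, L₁⁆ = ⊥ := by
    rw [commutator_comm, commutator_eq_bot_iff_le_centralizer]
    exact hQL.trans (centralizer_le hFQ)
  have hRL : ⁅⁅R₁, L₁⁆, F⁆ = ⊥ := by
    have e1 : ⁅⁅L₁, F⁆, R₁⁆ = ⊥ := by rw [commutator_comm L₁ F, hFL, commutator_bot_left]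
    have e2 : ⁅⁅F, R₁⁆, L₁⁆ = ⊥ := le_bot_iff.1 (hFL ▸ commutator_mono (commutator_le_left F R₁) le_rfl)
    exact commutator_commutator_eq_bot_of_rotate e1 e2
  have hle : ⁅R₁, L₁⁆ ≤ F := by
    intro x hx
    have hxR : x ∈ R₁ := commutator_le_left R₁ L₁ hx
    refine ⟨⟨x, hxR⟩, Cfsg.Lib.Core.centralizer_fitting_le_of_isSolvable ?_, rfl⟩
    rw [mem_centralizer_iff]
    intro y hy
    have h := commutatorElement_eq_one_iff_mul_comm.1 (mem_bot.1 (hRL ▸
      commutator_mem_commutator hx (mem_map_of_mem R₁.subtype hy : (y : G ⧸ oddCore G) ∈ F)))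
    exact Subtype.ext h.symm
  have h3 : ⁅R₁, L₁⁆ = ⊥ :=
    Cfsg.Lib.Core.commutator_eq_bot_of_perfect hL₁p (le_bot_iff.1 (hFL ▸ commutator_mono hle le_rfl))
  rw [hR₁, hL₁, ← map_commutator, Subgroup.map_eq_bot_iff, hf, QuotientGroup.ker_mk'] at h3
  refine Cfsg.Lib.Core.commutator_eq_bot_of_perfect hL (le_bot_iff.1 ?_)
  rw [← oddCore_commutator_perfect hodd hL]
  exact commutator_mono h3 le_rfl

/-- Two commuting subgroups with trivial intersection have coprime orders, one being odd. -/
theorem coprime_of_commuting {G : Type u} [Group G] [Finite G] (hodd : OddCyc G) {A B : Subgroup G}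
    (hA : Odd (Nat.card A)) (hd : A ⊓ B = ⊥) (hc : ⁅A, B⁆ = ⊥) :
    (Nat.card A).Coprime (Nat.card B) := by
  refine Nat.coprime_of_dvd fun r hr hrA hrB => ?_
  haveI : Fact r.Prime := ⟨hr⟩
  have hr2 : r ≠ 2 := fun h => Nat.two_dvd_ne_zero.2 (Nat.odd_iff.1 hA) (h ▸ hrA)
  obtain ⟨a, ha⟩ := exists_prime_orderOf_dvd_card' r hrA
  obtain ⟨b, hb⟩ := exists_prime_orderOf_dvd_card' r hrB
  have hab : Commute (a : G) b :=
    commutatorElement_eq_one_iff_mul_comm.1 (mem_bot.1 (hc ▸ commutator_mem_commutator a.2 b.2))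
  have har : (a : G) ^ r = 1 := by rw [← ha, ← orderOf_coe]; exact pow_orderOf_eq_one _
  have hbr : (b : G) ^ r = 1 := by rw [← hb, ← orderOf_coe]; exact pow_orderOf_eq_one _
  let P : Subgroup G := closure {(a : G), (b : G)}
  haveI : IsMulCommutative P := Subgroup.isMulCommutative_closure
    (by rintro x (rfl | rfl) y (rfl | rfl) <;> first | rfl | exact hab.eq | exact hab.eq.symm)
  have hexp : ∀ x ∈ P, x ^ r = 1 := by
    intro x hx
    induction hx using closure_induction with
    | mem x hx => rcases hx with rfl | rfl <;> assumption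
    | one => exact one_pow r
    | mul x y hx hy h1 h2 =>
      have hxy : Commute x y := congrArg Subtype.val
        (IsMulCommutative.is_comm.comm (⟨x, hx⟩ : P) ⟨y, hy⟩)
      rw [hxy.mul_pow, h1, h2, one_mul]
    | inv x _ h => rw [inv_pow, h, inv_one]
  haveI := hodd r hr hr2 P (fun x => ⟨1, Subtype.ext (by rw [pow_one, SubmonoidClass.coe_pow, hexp _ x.2]; rfl)⟩)
  obtain ⟨c, hc'⟩ := IsCyclic.exists_generator (α := P)
  have hle : Nat.card P ≤ r := by
    rw [← orderOf_eq_card_of_forall_mem_zpowers hc']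
    exact Nat.le_of_dvd hr.pos (orderOf_dvd_of_pow_eq_one (Subtype.ext (by
      rw [SubmonoidClass.coe_pow, hexp _ c.2]; rfl)))
  have heq : zpowers (a : G) = P := eq_of_le_of_card_ge (zpowers_le.2 (subset_closure (Or.inl rfl)))
    (by rw [Nat.card_zpowers, orderOf_coe, ha]; exact hle)
  have hbA : (b : G) ∈ A := zpowers_le.2 a.2 (heq ▸ subset_closure (Or.inr rfl))
  have hb1 : b = 1 := Subtype.ext (mem_bot.1 (hd ▸ (⟨hbA, b.2⟩ : (b : G) ∈ A ⊓ B)))
  rw [hb1, orderOf_one] at hb
  exact hr.one_lt.ne hb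

/-- The structure of the group. -/
theorem structure_thm {G : Type u} [Group G] [Finite G] (hns : ¬ Group.IsSolvable G) (h2 : TwoHalf G)
    (hodd : OddCyc G) (hSD : NoSDUpTo.{u} (Nat.card G)) :
    ∃ (G₀ L : Subgroup G) (p : ℕ) (_ : Fact p.Prime), G₀.Normal ∧ G₀.index ∣ 2 ∧ 5 ≤ p ∧ L.Normal ∧
      oddCore G ≤ G₀ ∧ L ≤ G₀ ∧ oddCore G ⊔ L = G₀ ∧ oddCore G ⊓ L = ⊥ ∧ ⁅oddCore G, L⁆ = ⊥ ∧
      (Nat.card (oddCore G)).Coprime (Nat.card L) ∧
      (Nonempty (L ≃* Matrix.ProjectiveSpecialLinearGroup (Fin 2) (ZMod p)) ∨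
        Nonempty (L ≃* Matrix.SpecialLinearGroup (Fin 2) (ZMod p))) := by
  haveI : Fact (Nat.Prime 2) := ⟨Nat.prime_two⟩
  set R := Cfsg.solvableRadical G with hRdef
  haveI : R.Normal := solvableRadical_normal
  haveI : Group.IsSolvable R := solvableRadical_isSolvable
  set f := QuotientGroup.mk' R with hf
  have hfs : Function.Surjective f := QuotientGroup.mk'_surjective R
  haveI : Nontrivial (G ⧸ R) := by
    by_contra hnt
    rw [not_nontrivial_iff_subsingleton] at hnt
    exact hns (Group.isSolvable_of_ker_le_range R.subtype f (by simp [hf]))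
  have hR : ∀ K : Subgroup (G ⧸ R), K.Normal → Group.IsSolvable K → K = ⊥ := by
    intro K hK hKs
    haveI : Group.IsSolvable (K.comap f) :=
      Group.isSolvable_of_ker_le_range (G' := R) (G'' := K)
        (inclusion (fun x hx => by
          rw [mem_comap, hf, QuotientGroup.mk'_apply, (QuotientGroup.eq_one_iff x).2 hx]
          exact K.one_mem) : R →* K.comap f)
        (f.subgroupComap K) (fun x hx => by
          have h1 : f x = 1 := congrArg Subtype.val hx
          exact ⟨⟨x, (QuotientGroup.eq_one_iff _).1 h1⟩, rfl⟩)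
    rw [← map_comap_eq_self_of_surjective hfs K, Subgroup.map_eq_bot_iff, hf, QuotientGroup.ker_mk']
    exact le_solvableRadical inferInstance inferInstance
  obtain ⟨N, p, hp, hN, hNidx, hp5, hNs, hNna, ⟨e⟩⟩ := almost_simple (h2.quotient R) (hodd.quotient R) hR
    (fun T _ _ _ h1 h3 h4 hle => hSD T h1 h3 h4 (hle.trans (card_quotient_dvd_card R |> Nat.le_of_dvd Nat.card_pos)))
  haveI := hN
  haveI := hp
  haveI := hNs
  set G₀ := N.comap f with hG₀
  have hNperf : ⁅N, N⁆ = N := by
    rw [← map_subtype_commutator, perfect_of_simple hNna, ← MonoidHom.range_eq_map, range_subtype]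
  obtain ⟨L, ⟨hLn, hLle, hLsup⟩, hLmin⟩ :=
    Set.Finite.exists_minimal (s := {K : Subgroup G | K.Normal ∧ K ≤ G₀ ∧ K.map f = N}) (Set.toFinite _)
      ⟨G₀, Normal.comap hN f, le_rfl, map_comap_eq_self_of_surjective hfs N⟩
  haveI := hLn
  have hLp : ⁅L, L⁆ = L := by
    refine le_antisymm (commutator_le_left L L) (hLmin ⟨inferInstance, (commutator_le_left L L).trans hLle, ?_⟩
      (commutator_le_left L L))
    rw [map_commutator, hLsup, hNperf]
  have hG₀sup : L ⊔ R = G₀ := by
    rw [hG₀, ← hLsup, comap_map_eq, hf, QuotientGroup.ker_mk']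
  have hRL : ⁅R, L⁆ = ⊥ := solvable_commutator_perfect h2 hodd hLp
  set Z := L ⊓ R with hZ
  have hRL' : ∀ a ∈ R, ∀ b ∈ L, a * b = b * a := fun a ha b hb =>
    commutatorElement_eq_one_iff_mul_comm.1 (mem_bot.1 (hRL ▸ commutator_mem_commutator ha hb))
  let π : L →* N := (f.comp L.subtype).codRestrict N fun x => hLle x.2
  have hπ : Function.Surjective π := fun y => by
    obtain ⟨x, hx, hxy⟩ := (hLsup.symm ▸ y.2 : (y : G ⧸ R) ∈ L.map f)
    exact ⟨⟨x, hx⟩, Subtype.ext hxy⟩
  have hker : ∀ x : L, x ∈ π.ker ↔ (x : G) ∈ R := fun x => by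
    rw [MonoidHom.mem_ker, ← QuotientGroup.eq_one_iff]
    exact Subtype.ext_iff
  have hkc : π.ker ≤ center L := fun x hx => mem_center_iff.2 fun y =>
    Subtype.ext (hRL' x ((hker x).1 hx) y y.2).symm
  have hLtop : commutator L = ⊤ := by
    apply map_injective L.subtype_injective
    rw [← MonoidHom.range_eq_map, range_subtype, map_subtype_commutator, hLp]
  have hk2 : Nat.card π.ker ≤ 2 ∧ IsPGroup 2 π.ker := by
    have hp2 : IsPGroup 2 π.ker := by
      obtain ⟨k, m, hm, hkm⟩ := Nat.exists_eq_pow_mul_and_not_dvd (Nat.card_pos (α := π.ker)).ne' 2 (by norm_num)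
      refine IsPGroup.of_card (n := k) ?_
      rcases eq_or_ne m 1 with h | h
      · rw [hkm, h, mul_one]
      obtain ⟨r, hr, hrm⟩ := Nat.exists_prime_and_dvd h
      haveI : Fact r.Prime := ⟨hr⟩
      have hr2 : r ≠ 2 := fun h => hm (h ▸ hrm)
      exact absurd (hrm.trans (hkm ▸ dvd_mul_left m (2 ^ k)))
        (Cfsg.Agent.S0102.result (perfect_of_simple hNna)
          (fun P => ((hodd.quotient R).subgroup N) r hr hr2 P P.2) π hπ hkc hLtop)
    refine ⟨?_, hp2⟩
    let S : Sylow 2 L := Classical.arbitrary _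
    obtain ⟨T, hT⟩ := hp2.exists_le_sylow
    obtain ⟨g, hg⟩ := MulAction.exists_smul_eq L T S
    have hkS : π.ker ≤ (S : Subgroup L) := by
      rw [← hg, Sylow.coe_subgroup_smul]
      intro x hx
      rw [mem_pointwise_smul_iff_inv_smul_mem]
      apply hT
      rw [← map_inv, MulAut.smul_def, MulAut.conj_apply]
      exact (inferInstance : π.ker.Normal).conj_mem _ hx g⁻¹
    refine le_trans ?_ (((h2.subgroup L) _ S.2).card_center_inf_commutator_le)
    refine Nat.card_le_card_of_injective (fun x : π.ker =>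
      (⟨⟨x, hkS x.2⟩, mem_inf.2 ⟨mem_center_iff.2 fun y => Subtype.ext (mem_center_iff.1 (hkc x.2) y),
        central_mem_commutator_sylow S (hkS x.2) (hkc x.2) (hLtop ▸ mem_top _)⟩⟩ :
        ↥(center (S : Subgroup L) ⊓ commutator (S : Subgroup L)))) fun a b h => ?_
    exact Subtype.ext (congrArg (fun z : ↥(center (S : Subgroup L) ⊓ commutator (S : Subgroup L)) =>
      ((z : (S : Subgroup L)) : L)) h)
  have hodd' : Odd (Z.relIndex R) := by
    rw [Nat.odd_iff, ← Nat.two_dvd_ne_zero]
    intro hd2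
    set g := QuotientGroup.mk' Z
    have hA : 2 ∣ Nat.card (R.map g) := by
      have h := relIndex_ker (K := R) g
      rw [QuotientGroup.ker_mk'] at h
      rwa [h] at hd2
    have hd : R.map g ⊓ L.map g = ⊥ := by
      rw [eq_bot_iff]
      rintro _ ⟨⟨a, ha, rfl⟩, b, hb, hab⟩
      rw [mem_bot, QuotientGroup.mk'_apply, QuotientGroup.eq_one_iff]
      refine ⟨?_, ha⟩
      have h1 : b⁻¹ * a ∈ Z := QuotientGroup.eq.1 hab
      exact (mul_mem_cancel_left (L.inv_mem hb)).1 h1.1
    have hc : ⁅R.map g, L.map g⁆ = ⊥ := by rw [← map_commutator, hRL, Subgroup.map_bot]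
    refine (h2.quotient Z).false_of_pair hA hd hc fun S => ?_
    refine not_isCyclic_sylow_of_not_isSolvable (fun hs => not_isSolvable_of_simple hNna ?_) S
    haveI := hs
    let φ : L.map g →* N := (QuotientGroup.lift Z f fun x hx => (QuotientGroup.eq_one_iff x).2 hx.2).comp
      (L.map g).subtype |>.codRestrict N (by rintro ⟨_, x, hx, rfl⟩; exact hLle hx)
    exact Group.isSolvable_of_surjective (f := φ) fun y => by
      obtain ⟨x, hx⟩ := hπ y
      exact ⟨⟨g x, mem_map_of_mem g x.2⟩, Subtype.ext (congrArg Subtype.val hx)⟩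
  have hZc : Nat.card Z ≤ 2 ∧ IsPGroup 2 Z := by
    let ι : Z →* π.ker := (inclusion inf_le_left : Z →* L).codRestrict π.ker fun x => (hker _).2 x.2.2
    have hι : Function.Injective ι := fun a b h =>
      Subtype.ext (congrArg (fun z : π.ker => ((z : L) : G)) h)
    exact ⟨(Nat.card_le_card_of_injective ι hι).trans hk2.1, hk2.2.of_injective ι hι⟩
  have hRO : R ≤ oddCore G ⊔ Z := by
    set Zr := Z.subgroupOf R with hZr
    haveI : Zr.Normal := inferInstance
    have hcopr : (Nat.card Zr).Coprime Zr.index := by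
      obtain ⟨j, hj⟩ := IsPGroup.iff_card.1 hZc.2
      rw [Nat.card_congr (subgroupOfEquivOfLe (inf_le_right : Z ≤ R)).toEquiv, hj]
      exact (Nat.coprime_two_left.2 hodd').pow_left j
    obtain ⟨H, hH⟩ := exists_right_complement'_of_coprime hcopr
    have hHc : ∀ z ∈ Zr, ∀ x : R, z * x = x * z := fun z hz x =>
      Subtype.ext (hRL' x x.2 z hz.1).symm
    haveI hHn : H.Normal := ⟨fun h hh x => by
      obtain ⟨⟨z, k⟩, rfl⟩ := hH.2 x
      have hk : (k : R) * h * (k : R)⁻¹ ∈ H := H.mul_mem (H.mul_mem k.2 hh) (H.inv_mem k.2)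
      have : (z : R) * k * h * ((z : R) * k)⁻¹ = k * h * (k : R)⁻¹ := by
        rw [show (z : R) * k * h * ((z : R) * k)⁻¹ = (z : R) * (k * h * (k : R)⁻¹) * (z : R)⁻¹ by group,
          hHc z z.2, mul_inv_cancel_right]
      show (z : R) * k * h * ((z : R) * k)⁻¹ ∈ H
      rw [this]
      exact hk⟩
    have hHodd : (Nat.card H).Coprime 2 := by
      rw [hH.symm.index_eq_card.symm]
      exact Nat.coprime_two_right.2 hodd'
    have hle : H ≤ Cfsg.pPrimeCore 2 R := Cfsg.Lib.Core.le_pPrimeCore hHodd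
    have hO : (Cfsg.pPrimeCore 2 R).map R.subtype ≤ oddCore G := by
      refine Cfsg.Lib.ZStar.le_oddCore (Cfsg.Lib.Core.normal_map_char_of_normal _) ?_
      rw [card_map_of_injective R.subtype_injective]
      exact Nat.coprime_two_right.1 (Cfsg.Lib.Core.pPrimeCore_coprime 2 R)
    intro x hx
    obtain ⟨⟨z, k⟩, hzk⟩ := hH.2 ⟨x, hx⟩
    have : x = ((z : R) : G) * ((k : R) : G) := congrArg Subtype.val hzk.symm
    rw [this]
    exact (oddCore G ⊔ Z).mul_mem (le_sup_right (a := oddCore G) z.2)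
      (le_sup_left (b := Z) (hO (mem_map_of_mem _ (hle k.2))))
  have hOR : oddCore G ≤ R :=
    le_solvableRadical inferInstance (Cfsg.Agent.S0205.result Cfsg.Lib.ZStar.odd_card_oddCore)
  have hOL : oddCore G ⊔ L = G₀ := by
    rw [← hG₀sup]
    refine le_antisymm (sup_le (hOR.trans le_sup_right) le_sup_left) (sup_le le_sup_right ?_)
    exact hRO.trans (sup_le le_sup_left ((inf_le_left : Z ≤ L).trans le_sup_right))
  have hOLbot : oddCore G ⊓ L = ⊥ := by
    have h1 : oddCore G ⊓ L ≤ Z := le_inf inf_le_right (inf_le_left.trans hOR)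
    obtain ⟨j, hj⟩ := IsPGroup.iff_card.1 (hZc.2.to_le h1)
    have h3 := (Cfsg.Lib.ZStar.odd_card_oddCore (G := G)).of_dvd_nat (card_dvd_of_le (inf_le_left : oddCore G ⊓ L ≤ _))
    rcases Nat.eq_zero_or_pos j with rfl | hj0
    · exact card_eq_one.1 (by rw [hj, pow_zero])
    · rw [hj, Nat.odd_pow_iff hj0.ne'] at h3
      exact absurd h3 (by decide)
  have hOLc : ⁅oddCore G, L⁆ = ⊥ := le_bot_iff.1 (hRL ▸ commutator_mono hOR le_rfl)
  refine ⟨G₀, L, p, hp, Normal.comap hN f, ?_, hp5, hLn, hOR.trans (hG₀sup ▸ le_sup_right), hLle, hOL,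
    hOLbot, hOLc, coprime_of_commuting hodd Cfsg.Lib.ZStar.odd_card_oddCore hOLbot hOLc, ?_⟩
  · rw [hG₀, index_comap_of_surjective _ hfs]; exact hNidx
  have hk := hk2.1
  have hk0 : 0 < Nat.card π.ker := Nat.card_pos
  rcases (by omega : Nat.card π.ker = 1 ∨ Nat.card π.ker = 2) with h1 | h1
  · exact Or.inl ⟨(MulEquiv.ofBijective π ⟨(MonoidHom.ker_eq_bot_iff π).1 (card_eq_one.1 h1), hπ⟩).trans e⟩
  · refine Or.inr (Cfsg.Lib.GW.cover_psl_two (F := ZMod p) ?_ ?_ hLtop (e.toMonoidHom.comp π)
      (e.surjective.comp hπ) ?_ ?_)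
    · rw [ZMod.card]; exact hp.out.odd_of_ne_two (by omega)
    · rw [ZMod.card]; omega
    · exact fun x hx => hkc (e.injective (hx.trans (map_one e).symm))
    · rw [show (e.toMonoidHom.comp π).ker = π.ker from ?_]
      · exact h1
      · ext x
        exact ⟨fun hx => e.injective (hx.trans (map_one e).symm),
          fun hx => (congrArg e hx).trans (map_one e)⟩

end Cfsg.Lib.AlmostCyc
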