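import Cfsg.Agent.Lib.FTCons.MetacyclicSylow
import Cfsg.Agent.Lib.Invol.Basic
import Cfsg.Agent.Lib.Invol.Cyclic
import Mathlib

/-!
# Almost cyclic Sylow subgroups

`HalfCyclic P`: some cyclic subgroup has index at most two. `TwoHalf G`: every 2-subgroup of `G`
has one. `OddCyc G`: every subgroup of odd prime power order is cyclic.
-/

set_option autoImplicit false
set_option linter.style.haveILetI false

namespace Cfsg.Lib.AlmostCyc

open Subgroup

/-- Some cyclic subgroup has index at most two. -/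
def HalfCyclic (P : Type*) [Group P] : Prop :=
  ∃ C : Subgroup P, IsCyclic C ∧ C.index ∣ 2

/-- All 2-subgroups have a cyclic subgroup of index at most two. -/
def TwoHalf (G : Type*) [Group G] : Prop :=
  ∀ P : Subgroup G, IsPGroup 2 P → HalfCyclic P

/-- All subgroups of odd prime power order are cyclic. -/
def OddCyc (G : Type*) [Group G] : Prop :=
  ∀ p : ℕ, p.Prime → p ≠ 2 → ∀ P : Subgroup G, IsPGroup p P → IsCyclic P

namespace HalfCyclic

variable {P Q : Type*} [Group P] [Group Q]

theorem normal_of_index_dvd {C : Subgroup P} (h : C.index ∣ 2) : C.Normal := by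
  rcases (Nat.dvd_prime Nat.prime_two).1 h with h1 | h1
  · rw [index_eq_one.1 h1]; infer_instance
  · exact normal_of_index_eq_two h1

theorem of_injective (f : Q →* P) (hf : Function.Injective f) (h : HalfCyclic P) : HalfCyclic Q := by
  obtain ⟨C, hC, hidx⟩ := h
  refine ⟨C.comap f, isCyclic_of_injective (f.subgroupComap C)
    fun a b hab => Subtype.ext (hf (congrArg Subtype.val hab)), ?_⟩
  haveI := normal_of_index_dvd hidx
  rw [index_comap]
  exact (relIndex_dvd_index_of_normal C f.range).trans hidx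

theorem of_surjective (f : P →* Q) (hf : Function.Surjective f) (h : HalfCyclic P) : HalfCyclic Q := by
  obtain ⟨C, hC, hidx⟩ := h
  exact ⟨C.map f, isCyclic_of_surjective (f.subgroupMap C) (f.subgroupMap_surjective C),
    (index_map_dvd C hf).trans hidx⟩

theorem isMetacyclic (h : HalfCyclic P) : Cfsg.IsMetacyclic P := by
  obtain ⟨C, hC, hidx⟩ := h
  haveI := normal_of_index_dvd hidx
  refine ⟨C, inferInstance, hC, ?_⟩
  rcases (Nat.dvd_prime Nat.prime_two).1 hidx with h1 | h1
  · haveI : Subsingleton (P ⧸ C) := by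
      rw [index_eq_one.1 h1]; exact QuotientGroup.subsingleton_quotient_top
    exact isCyclic_of_subsingleton
  · haveI : Fact (Nat.Prime 2) := ⟨Nat.prime_two⟩
    exact isCyclic_of_prime_card (p := 2) (by rw [← index_eq_card, h1])

/-- A nontrivial subgroup and a noncyclic one cannot commute and meet trivially. -/
theorem false_of_pair [Finite P] (hP : IsPGroup 2 P) (h : HalfCyclic P) {A B : Subgroup P}
    (hA : A ≠ ⊥) (hB : ¬ IsCyclic B) (hd : A ⊓ B = ⊥)
    (hc : ∀ a ∈ A, ∀ b ∈ B, Commute a b) : False := by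
  haveI : Fact (Nat.Prime 2) := ⟨Nat.prime_two⟩
  obtain ⟨C, hC, hidx⟩ := h
  haveI := normal_of_index_dvd hidx
  obtain ⟨a, ha⟩ : ∃ a : A, orderOf a = 2 := by
    refine exists_prime_orderOf_dvd_card' 2 ?_
    obtain ⟨j, hj⟩ := IsPGroup.iff_card.1 (hP.to_subgroup A)
    rcases Nat.eq_zero_or_pos j with rfl | hj0
    · exact absurd (eq_bot_of_card_le A (by rw [hj]; norm_num)) hA
    · rw [hj]; exact dvd_pow_self 2 hj0.ne'
  have ha2 : orderOf (a : P) = 2 := by rw [orderOf_coe]; exact ha
  have hB1 : ∀ b ∈ B, b ∈ A → b = 1 := fun b hb hbA =>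
    mem_bot.1 (hd ▸ (⟨hbA, hb⟩ : b ∈ A ⊓ B))
  by_cases haC : (a : P) ∈ C
  · refine hB ?_
    have hker : ∀ b : B, (b : P) ∈ C → b = 1 := by
      intro b hb
      by_contra hb1
      obtain ⟨j, hj⟩ := IsPGroup.iff_orderOf.1 hP (b : P)
      have hj0 : 0 < j := by
        rcases Nat.eq_zero_or_pos j with rfl | hj0
        · rw [pow_zero, orderOf_eq_one_iff] at hj
          exact absurd (Subtype.ext hj) hb1
        · exact hj0
      have he : orderOf ((b : P) ^ 2 ^ (j - 1)) = 2 := by
        rw [orderOf_pow' _ (by positivity), hj, Nat.gcd_eq_right (pow_dvd_pow 2 (Nat.sub_le j 1))]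
        rw [Nat.pow_div (Nat.sub_le j 1) two_pos]
        rw [show j - (j - 1) = 1 by omega, pow_one]
      have := Cfsg.Lib.Invol.eq_of_pow_two_group_cyclic hC (C.pow_mem hb (2 ^ (j - 1))) haC he ha2
      have h1 := hB1 _ (B.pow_mem b.2 (2 ^ (j - 1))) (this ▸ a.2)
      rw [h1, orderOf_one] at he
      exact absurd he (by norm_num)
    let g : B →* P ⧸ C := (QuotientGroup.mk' C).comp B.subtype
    have hg : Function.Injective g := (injective_iff_map_eq_one g).2 fun b hb =>
      hker b ((QuotientGroup.eq_one_iff _).1 hb)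
    haveI : IsCyclic (P ⧸ C) := by
      rcases (Nat.dvd_prime Nat.prime_two).1 hidx with h1 | h1
      · haveI : Subsingleton (P ⧸ C) := by
          rw [index_eq_one.1 h1]; exact QuotientGroup.subsingleton_quotient_top
        exact isCyclic_of_subsingleton
      · exact isCyclic_of_prime_card (p := 2) (by rw [← index_eq_card, h1])
    exact isCyclic_of_injective g hg
  · have h2 : C.index = 2 := by
      rcases (Nat.dvd_prime Nat.prime_two).1 hidx with h1 | h1
      · exact absurd (index_eq_one.1 h1 ▸ mem_top (a : P)) haC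
      · exact h1
    classical
    have hmem : ∀ b : B, (b : P) ∉ C → (a : P) * b ∈ C := fun b hb =>
      (mul_mem_iff_of_index_two h2).2 ⟨fun h => absurd h haC, fun h => absurd h hb⟩
    let f : B → C := fun b => if hb : (b : P) ∈ C then ⟨b, hb⟩ else ⟨(a : P) * b, hmem b hb⟩
    have hsq : (a : P) * a = 1 := Cfsg.Lib.Invol.inv_mul_self ha2
    have hf : ∀ x y, f (x * y) = f x * f y := by
      intro x y
      apply Subtype.ext
      by_cases hx : (x : P) ∈ C <;> by_cases hy : (y : P) ∈ C
      · have : ((x * y : B) : P) ∈ C := C.mul_mem hx hy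
        simp only [f, dif_pos hx, dif_pos hy, dif_pos this]
        rfl
      · have : ((x * y : B) : P) ∉ C := fun h => hy ((mul_mem_cancel_left hx).1 h)
        simp only [f, dif_pos hx, dif_neg hy, dif_neg this, coe_mul]
        rw [← mul_assoc, (hc a a.2 x x.2).eq, mul_assoc]
      · have : ((x * y : B) : P) ∉ C := fun h => hx ((mul_mem_cancel_right hy).1 h)
        simp only [f, dif_neg hx, dif_pos hy, dif_neg this, coe_mul]
        rw [mul_assoc]
      · have : ((x * y : B) : P) ∈ C :=
          (mul_mem_iff_of_index_two h2).2 ⟨fun h => absurd h hx, fun h => absurd h hy⟩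
        simp only [f, dif_neg hx, dif_neg hy, dif_pos this, coe_mul]
        calc (x : P) * y = ((a : P) * a) * (x * y) := by rw [hsq, one_mul]
          _ = (a : P) * (a * x) * y := by simp only [mul_assoc]
          _ = (a : P) * (x * a) * y := by rw [(hc a a.2 x x.2).eq]
          _ = (a : P) * x * (a * y) := by simp only [mul_assoc]
    refine hB (isCyclic_of_injective (MonoidHom.mk' f hf) ((injective_iff_map_eq_one _).2 ?_))
    intro b hb
    by_cases hbC : (b : P) ∈ C
    · rw [MonoidHom.mk'_apply] at hb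
      have := congrArg Subtype.val hb
      simp only [f, dif_pos hbC, coe_one] at this
      exact Subtype.ext this
    · rw [MonoidHom.mk'_apply] at hb
      have := congrArg Subtype.val hb
      simp only [f, dif_neg hbC, coe_one] at this
      have hba : (b : P) = (a : P)⁻¹ := eq_inv_of_mul_eq_one_right this
      exact Subtype.ext (hB1 _ b.2 (hba ▸ A.inv_mem a.2))

/-- The central commutators form a group of order at most two. -/
theorem card_center_inf_commutator_le [Finite P] (h : HalfCyclic P) :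
    Nat.card ↥(center P ⊓ commutator P) ≤ 2 := by
  obtain ⟨C, hC, hidx⟩ := h
  haveI := normal_of_index_dvd hidx
  have hcomm : ∀ x ∈ C, ∀ y ∈ C, x * y = y * x := fun x hx y hy =>
    congrArg Subtype.val ((IsCyclic.isMulCommutative (α := C)).is_comm.comm ⟨x, hx⟩ ⟨y, hy⟩)
  rcases (Nat.dvd_prime Nat.prime_two).1 hidx with h1 | h1
  · have hbot : commutator P = ⊥ := by
      rw [_root_.commutator_def, eq_bot_iff, commutator_le]
      intro x _ y _
      rw [mem_bot, commutatorElement_eq_one_iff_mul_comm]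
      exact hcomm x (index_eq_one.1 h1 ▸ mem_top x) y (index_eq_one.1 h1 ▸ mem_top y)
    rw [hbot, inf_bot_eq, card_bot]
    norm_num
  obtain ⟨s, hs⟩ : ∃ s, s ∉ C := by
    by_contra hc
    push Not at hc
    rw [(eq_top_iff' C).2 hc, index_top] at h1
    omega
  have hss : s * s ∈ C := mul_self_mem_of_index_two h1 s
  have hσ : ∀ c ∈ C, s * c * s⁻¹ ∈ C := fun c hc => (inferInstance : C.Normal).conj_mem c hc s
  have hσσ : ∀ c ∈ C, s * (s * c * s⁻¹) * s⁻¹ = c := fun c hc => by
    have e : s * (s * c * s⁻¹) * s⁻¹ = s * s * c * (s * s)⁻¹ := by group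
    rw [e, hcomm _ hss _ hc, mul_inv_cancel_right]
  let T : Subgroup P :=
    { carrier := {x | x ∈ C ∧ s * x * s⁻¹ = x⁻¹}
      one_mem' := ⟨C.one_mem, by simp⟩
      mul_mem' := fun {x y} hx hy => ⟨C.mul_mem hx.1 hy.1, by
        rw [show s * (x * y) * s⁻¹ = (s * x * s⁻¹) * (s * y * s⁻¹) by group, hx.2, hy.2,
          _root_.mul_inv_rev]
        exact hcomm _ (C.inv_mem hx.1) _ (C.inv_mem hy.1)⟩
      inv_mem' := fun {x} hx => ⟨C.inv_mem hx.1, by
        rw [show s * x⁻¹ * s⁻¹ = (s * x * s⁻¹)⁻¹ by group, hx.2]⟩ }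
  have hu : ∀ c ∈ C, c * (s * c⁻¹ * s⁻¹) ∈ T := by
    intro c hc
    refine ⟨C.mul_mem hc (hσ _ (C.inv_mem hc)), ?_⟩
    rw [show s * (c * (s * c⁻¹ * s⁻¹)) * s⁻¹ = (s * c * s⁻¹) * (s * (s * c⁻¹ * s⁻¹) * s⁻¹) by group,
      hσσ _ (C.inv_mem hc)]
    group
  have hdec : ∀ x : P, x ∈ C ∨ ∃ c ∈ C, x = c * s := by
    intro x
    by_cases hx : x ∈ C
    · exact Or.inl hx
    · refine Or.inr ⟨x * s⁻¹, (mul_mem_iff_of_index_two h1).2
        ⟨fun h => absurd h hx, fun h => absurd (by simpa using C.inv_mem h) hs⟩, by group⟩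
  have hle : commutator P ≤ T := by
    rw [_root_.commutator_def, commutator_le]
    intro x _ y _
    rcases hdec x with hx | ⟨c, hc, rfl⟩ <;> rcases hdec y with hy | ⟨d, hd, rfl⟩
    · rw [commutatorElement_eq_one_iff_mul_comm.2 (hcomm x hx y hy)]
      exact T.one_mem
    · rw [commutatorElement_def, show x * (d * s) * x⁻¹ * (d * s)⁻¹ =
        x * (d * (s * x⁻¹ * s⁻¹) * d⁻¹) by group, hcomm d hd _ (hσ _ (C.inv_mem hx)),
        mul_inv_cancel_right]
      exact hu x hx
    · rw [commutatorElement_def, show c * s * y * (c * s)⁻¹ * y⁻¹ =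
        ((c * (s * y * s⁻¹)) * c⁻¹) * y⁻¹ by group, hcomm c hc _ (hσ _ hy), mul_inv_cancel_right,
        show s * y * s⁻¹ * y⁻¹ = (y * (s * y⁻¹ * s⁻¹))⁻¹ by group]
      exact T.inv_mem (hu y hy)
    · rw [commutatorElement_def, show c * s * (d * s) * (c * s)⁻¹ * (d * s)⁻¹ =
        c * ((s * d * s⁻¹) * (s * c⁻¹ * s⁻¹)) * d⁻¹ by group,
        hcomm _ (hσ _ hd) _ (hσ _ (C.inv_mem hc)),
        show c * ((s * c⁻¹ * s⁻¹) * (s * d * s⁻¹)) * d⁻¹ =
          (c * (s * c⁻¹ * s⁻¹)) * (d * (s * d⁻¹ * s⁻¹))⁻¹ by group]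
      exact T.mul_mem (hu c hc) (T.inv_mem (hu d hd))
  haveI : IsCyclic ↥(center P ⊓ commutator P) :=
    isCyclic_of_injective (inclusion fun x hx => (hle hx.2).1 : ↥(center P ⊓ commutator P) →* C)
      (inclusion_injective _)
  refine Cfsg.Lib.FTCons.MetacyclicSylow.small_of_sq fun x => Subtype.ext ?_
  have hx : s * (x : P) * s⁻¹ = (x : P)⁻¹ := (hle x.2.2).2
  rw [mem_center_iff.1 x.2.1 s, mul_inv_cancel_right] at hx
  rw [SubmonoidClass.coe_pow, sq, coe_one]
  exact eq_inv_iff_mul_eq_one.1 hx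

end HalfCyclic

namespace TwoHalf

variable {G H : Type*} [Group G] [Group H]

theorem of_sylow [Finite G] (h : ∀ S : Sylow 2 G, HalfCyclic (S : Subgroup G)) : TwoHalf G := by
  intro P hP
  obtain ⟨T, hT⟩ := hP.exists_le_sylow
  exact HalfCyclic.of_injective (inclusion hT) (inclusion_injective hT) (h T)

theorem of_injective (h : TwoHalf G) (f : H →* G) (hf : Function.Injective f) : TwoHalf H := fun P hP =>
  HalfCyclic.of_injective (P.equivMapOfInjective f hf).toMonoidHom (MulEquiv.injective _) (h _ (hP.map f))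

theorem subgroup (h : TwoHalf G) (K : Subgroup G) : TwoHalf K := h.of_injective K.subtype K.subtype_injective

theorem of_surjective [Finite G] (h : TwoHalf G) (f : G →* H) (hf : Function.Surjective f) : TwoHalf H := by
  haveI : Fact (Nat.Prime 2) := ⟨Nat.prime_two⟩
  haveI : Finite H := Finite.of_surjective f hf
  intro P hP
  obtain ⟨T, hT⟩ := hP.exists_le_sylow
  obtain ⟨S, hS⟩ := (Sylow.mapSurjective_surjective hf 2) T
  have := HalfCyclic.of_surjective (f.subgroupMap (S : Subgroup G)) (f.subgroupMap_surjective _) (h _ S.2)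
  subst hS
  exact HalfCyclic.of_injective (inclusion hT) (inclusion_injective hT) this

theorem quotient [Finite G] (h : TwoHalf G) (N : Subgroup G) [N.Normal] : TwoHalf (G ⧸ N) :=
  h.of_surjective _ (QuotientGroup.mk'_surjective N)

/-- Two commuting subgroups meeting trivially: one odd or the other with cyclic Sylow 2-subgroups. -/
theorem false_of_pair [Finite G] (h : TwoHalf G) {A B : Subgroup G} (hA : 2 ∣ Nat.card A)
    (hd : A ⊓ B = ⊥) (hc : ⁅A, B⁆ = ⊥)
    (hB : ∀ S : Sylow 2 B, ¬ IsCyclic (S : Subgroup B)) : False := by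
  haveI : Fact (Nat.Prime 2) := ⟨Nat.prime_two⟩
  let S : Sylow 2 B := Classical.arbitrary _
  let T : Sylow 2 A := Classical.arbitrary _
  let A₁ : Subgroup G := (T : Subgroup A).map A.subtype
  let B₁ : Subgroup G := (S : Subgroup B).map B.subtype
  have hA₁ : A₁ ≤ A := map_subtype_le _
  have hB₁ : B₁ ≤ B := map_subtype_le _
  have hcA : ∀ a ∈ A, ∀ b ∈ B, a * b = b * a := fun a ha b hb =>
    commutatorElement_eq_one_iff_mul_comm.1 (mem_bot.1 (hc ▸ commutator_mem_commutator ha hb))
  have hn : B₁ ≤ normalizer (A₁ : Set G) := fun b hb => by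
    refine mem_normalizer_iff.2 fun a => ⟨fun ha => ?_, fun ha => ?_⟩
    · rwa [← hcA a (hA₁ ha) b (hB₁ hb), mul_inv_cancel_right]
    · have h1 := hcA _ (hA₁ ha) b (hB₁ hb)
      have : a = b * a * b⁻¹ := by
        calc a = b⁻¹ * (b * a * b⁻¹ * b) := by group
          _ = b⁻¹ * (b * (b * a * b⁻¹)) := by rw [h1]
          _ = b * a * b⁻¹ := by group
      exact this ▸ ha
  have hP : IsPGroup 2 ↥(B₁ ⊔ A₁) := (S.2.map _).to_sup_of_normal_right' (T.2.map _) hn
  let P := B₁ ⊔ A₁
  refine HalfCyclic.false_of_pair hP (h _ hP) (A := A₁.subgroupOf P) (B := B₁.subgroupOf P) ?_ ?_ ?_ ?_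
  · intro hbot
    have h1 : A₁ = ⊥ := by
      rw [eq_bot_iff]
      intro a ha
      have := (subgroupOf_eq_bot.1 hbot).le_bot (x := a) ⟨ha, le_sup_right (a := B₁) ha⟩
      exact this
    have h2 : Nat.card T = 1 := by
      rw [← card_map_of_injective (K := (T : Subgroup A)) A.subtype_injective]
      exact card_eq_one.2 h1
    have h3 := T.dvd_card_of_dvd_card hA
    rw [h2] at h3
    omega
  · intro hcyc
    refine hB S (isCyclic_of_surjective ((subgroupOfEquivOfLe (le_sup_left : B₁ ≤ P)).trans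
      ((S : Subgroup B).equivMapOfInjective _ B.subtype_injective).symm).toMonoidHom (MulEquiv.surjective _))
  · rw [eq_bot_iff]
    rintro x ⟨hxA, hxB⟩
    exact mem_bot.2 (Subtype.ext (mem_bot.1 (hd ▸ (⟨hA₁ hxA, hB₁ hxB⟩ : (x : G) ∈ A ⊓ B))))
  · intro a ha b hb
    exact Subtype.ext (hcA a (hA₁ ha) b (hB₁ hb))

end TwoHalf

namespace OddCyc

variable {G H : Type*} [Group G] [Group H]

theorem of_sylow [Finite G] (h : ∀ p : ℕ, p.Prime → p ≠ 2 → ∀ P : Sylow p G, IsCyclic P) : OddCyc G := by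
  intro p hp hp2 P hP
  obtain ⟨T, hT⟩ := hP.exists_le_sylow
  haveI := h p hp hp2 T
  exact isCyclic_of_injective (inclusion hT) (inclusion_injective hT)

theorem of_injective (h : OddCyc G) (f : H →* G) (hf : Function.Injective f) : OddCyc H :=
  fun p hp hp2 P hP => by
    haveI := h p hp hp2 _ (hP.map f)
    exact isCyclic_of_injective (P.equivMapOfInjective f hf).toMonoidHom (MulEquiv.injective _)

theorem subgroup (h : OddCyc G) (K : Subgroup G) : OddCyc K := h.of_injective K.subtype K.subtype_injective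

theorem of_surjective [Finite G] (h : OddCyc G) (f : G →* H) (hf : Function.Surjective f) : OddCyc H := by
  haveI : Finite H := Finite.of_surjective f hf
  refine of_sylow fun p hp hp2 T => ?_
  haveI : Fact p.Prime := ⟨hp⟩
  obtain ⟨S, rfl⟩ := (Sylow.mapSurjective_surjective hf p) T
  haveI := h p hp hp2 _ S.2
  exact isCyclic_of_surjective (f.subgroupMap (S : Subgroup G)) (f.subgroupMap_surjective _)

theorem quotient [Finite G] (h : OddCyc G) (N : Subgroup G) [N.Normal] : OddCyc (G ⧸ N) :=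
  h.of_surjective _ (QuotientGroup.mk'_surjective N)

end OddCyc

/-- A central element of a Sylow 2-subgroup which is a commutator lies in the derived group of it. -/
theorem central_mem_commutator_sylow {G : Type*} [Group G] [Finite G] (S : Sylow 2 G) {z : G}
    (hzS : z ∈ (S : Subgroup G)) (hzc : z ∈ center G) (hz : z ∈ commutator G) :
    (⟨z, hzS⟩ : (S : Subgroup G)) ∈ commutator ↥(S : Subgroup G) := by
  haveI : Fact (Nat.Prime 2) := ⟨Nat.prime_two⟩
  let φ : (S : Subgroup G) →* Abelianization (S : Subgroup G) := Abelianization.of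
  have key : ∀ (k : ℕ) (g₀ : G), g₀⁻¹ * z ^ k * g₀ ∈ (S : Subgroup G) → g₀⁻¹ * z ^ k * g₀ = z ^ k :=
    fun k g₀ _ => by
      rw [mul_assoc, ← mem_center_iff.1 ((center G).pow_mem hzc k) g₀, inv_mul_cancel_left]
  have h1 := MonoidHom.transfer_eq_pow φ z key
  rw [Abelianization.commutator_subset_ker (MonoidHom.transfer φ) hz |> MonoidHom.mem_ker.1] at h1
  have h2 : (⟨z, hzS⟩ : (S : Subgroup G)) ^ (S : Subgroup G).index ∈ commutator ↥(S : Subgroup G) := by
    rw [← Abelianization.ker_of (S : Subgroup G), MonoidHom.mem_ker]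
    rw [h1]
    rfl
  obtain ⟨j, hj⟩ := IsPGroup.iff_orderOf.1 S.2 ⟨z, hzS⟩
  have hcop : (orderOf (⟨z, hzS⟩ : (S : Subgroup G))).Coprime (S : Subgroup G).index := by
    rw [hj]
    exact (Nat.prime_two.coprime_iff_not_dvd.2 S.not_dvd_index).pow_left j
  obtain ⟨m, hm⟩ := exists_pow_eq_self_of_coprime hcop.symm
  rw [← hm]
  exact pow_mem h2 m

end Cfsg.Lib.AlmostCyc
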